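import Cfsg.Agent.LocalThree.HallJankoType.SevenLocal
import Cfsg.Agent.Components.Cores
import Mathlib.GroupTheory.NoncommCoprod
import Mathlib.GroupTheory.SpecificGroups.KleinFour

/-!
The centralizer of a second involution in a group of Hall–Janko type and the normalizer of its 2-core.
-/

set_option autoImplicit false
set_option linter.unusedSectionVars false
set_option linter.style.haveILetI false

namespace Cfsg.Lib.HallJankoType

open Subgroup Equiv

universe u

variable {G : Type u} [Group G] [Finite G] {z : G} {Q : Subgroup G} {a : Fin 5 → G} {σ : Cz z →* Perm (Fin 5)}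

theorem alt_five_center : ∀ k : alternatingGroup (Fin 5), (∀ y, k * y = y * k) → k = 1 := by decide +kernel

theorem klein_equiv {W : Subgroup G} (h4 : Nat.card W = 4) (hsq : ∀ x ∈ W, x * x = 1) :
    Nonempty (W ≃* Multiplicative (ZMod 2) × Multiplicative (ZMod 2)) := by
  haveI : IsKleinFour W :=
    { card_four := h4
      exponent_two := by
        haveI : Nontrivial W := Finite.one_lt_card_iff_nontrivial.1 (by omega)
        exact Monoid.exponent_eq_prime_iff Nat.prime_two |>.2 fun x hx => orderOf_eq_prime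
          (by rw [pow_two]; exact Subtype.ext (hsq x x.2)) hx }
  haveI : IsKleinFour (Multiplicative (ZMod 2) × Multiplicative (ZMod 2)) :=
    { card_four := by rw [Nat.card_prod]; simp
      exponent_two := Monoid.exponent_eq_prime_iff Nat.prime_two |>.2 fun x hx => orderOf_eq_prime
        (by revert x; decide) hx }
  exact IsKleinFour.nonempty_mulEquiv

/-- A group of order twelve with an element of order three not centralizing a normal four-group is `A₄`. -/
theorem alt_four_equiv {A W : Subgroup G} (h12 : Nat.card A = 12) (hW4 : Nat.card W = 4) (hWA : W ≤ A)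
    (hn : ∀ g ∈ A, ∀ x ∈ W, g * x * g⁻¹ ∈ W) {t : G} (htW : t ∈ W)
    (hc : ∀ g ∈ A, g * t * g⁻¹ = t → g ∈ W) : Nonempty (A ≃* alternatingGroup (Fin 4)) := by
  classical
  haveI : Fact (Nat.Prime 3) := ⟨Nat.prime_three⟩
  obtain ⟨y, hy⟩ := exists_prime_orderOf_dvd_card' (G := A) 3 (by rw [h12]; norm_num)
  set Y : Subgroup A := zpowers y with hY
  have hY3 : Nat.card Y = 3 := by rw [hY, Nat.card_zpowers, hy]
  have hYi : Y.index = 4 := by
    have := Y.card_mul_index
    rw [hY3, h12] at this; omega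
  let e4 : (A ⧸ Y) ≃ Fin 4 := Finite.equivFinOfCardEq (by rw [← Subgroup.index_eq_card, hYi])
  let f : A →* Perm (Fin 4) := e4.permCongrHom.toMonoidHom.comp (MulAction.toPermHom A (A ⧸ Y))
  have hker : f.ker = ⊥ := by
    have hle : f.ker ≤ Y := by
      intro g hg
      have h' : MulAction.toPermHom A (A ⧸ Y) g = 1 := e4.permCongrHom.injective (hg.trans (map_one _).symm)
      have : g ∈ Y.normalCore := by rw [normalCore_eq_ker]; exact h'
      exact normalCore_le Y this
    have hd : Nat.card f.ker ∣ 3 := hY3 ▸ card_dvd_of_le hle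
    rcases (Nat.dvd_prime Nat.prime_three).1 hd with r | r
    · exact card_eq_one.1 r
    · exfalso
      have heq : f.ker = Y := eq_of_le_of_card_ge hle (by rw [r, hY3])
      haveI : Y.Normal := heq ▸ MonoidHom.normal_ker f
      have hyW : (y : G) ∉ W := fun h => by
        have h' : orderOf (y : G) ∣ 4 := by
          rw [← hW4, ← Subgroup.orderOf_mk (y : G) h]; exact _root_.orderOf_dvd_natCard _
        rw [Subgroup.orderOf_coe, hy] at h'
        norm_num at h'
      refine hyW (hc y y.2 ?_)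
      have hco : (⟨t, hWA htW⟩ : A) * y * (⟨t, hWA htW⟩ : A)⁻¹ * y⁻¹ = 1 := by
        have h1 : (⟨t, hWA htW⟩ : A) * y * (⟨t, hWA htW⟩ : A)⁻¹ * y⁻¹ ∈ Y :=
          mul_mem (Subgroup.Normal.conj_mem inferInstance _ (mem_zpowers y) _) (inv_mem (mem_zpowers y))
        have h2 : ((⟨t, hWA htW⟩ : A) * y * (⟨t, hWA htW⟩ : A)⁻¹ * y⁻¹ : A).1 ∈ W := by
          show t * (y : G) * t⁻¹ * (y : G)⁻¹ ∈ W
          rw [show t * (y : G) * t⁻¹ * (y : G)⁻¹ = t * ((y : G) * t⁻¹ * (y : G)⁻¹) by group]
          exact mul_mem htW (hn _ y.2 _ (inv_mem htW))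
        refine orderOf_eq_one_iff.1 (Nat.eq_one_of_dvd_coprimes (show Nat.Coprime 3 4 by norm_num) ?_ ?_)
        · rw [← hY3, ← Subgroup.orderOf_mk _ h1]; exact _root_.orderOf_dvd_natCard _
        · rw [← Subgroup.orderOf_coe, ← hW4, ← Subgroup.orderOf_mk _ h2]; exact _root_.orderOf_dvd_natCard _
      have hco' : t * (y : G) * t⁻¹ * (y : G)⁻¹ = 1 := congrArg Subtype.val hco
      exact mul_inv_eq_iff_eq_mul.2 (mul_inv_eq_iff_eq_mul.1 (mul_inv_eq_one.1 hco')).symm
  have hinj : Function.Injective f := (MonoidHom.ker_eq_bot_iff f).1 hker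
  have hA : f.range = alternatingGroup (Fin 4) := by
    refine Equiv.Perm.eq_alternatingGroup_of_index_eq_two ?_
    have h1 := f.range.card_mul_index
    rw [← Nat.card_congr (MonoidHom.ofInjective hinj).toEquiv, h12, Nat.card_perm, Nat.card_fin,
      show Nat.factorial 4 = 24 from rfl] at h1
    omega
  exact ⟨(MonoidHom.ofInjective hinj).trans (MulEquiv.subgroupCongr hA)⟩

namespace Hyp

variable (H : Hyp z Q a σ)
include H

theorem second_invol {t : G} (ht : Outer z Q t) :
    Nonempty (Cz t ≃* (Multiplicative (ZMod 2) × Multiplicative (ZMod 2)) × alternatingGroup (Fin 5)) ∧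
      Nonempty (normalizer (((Cfsg.pCore 2 (Cz t)).map (Cz t).subtype : Subgroup G) : Set G) ≃*
        alternatingGroup (Fin 4) × alternatingGroup (Fin 5)) := by
  classical
  haveI : Fact (Nat.Prime 2) := ⟨Nat.prime_two⟩
  haveI : Fact (Nat.Prime 5) := ⟨by norm_num⟩
  obtain ⟨w, h, K, W, S, ⟨e⟩⟩ := H.kshape ht
  have hz1 : z ≠ 1 := H.data.frame.x2.ne
  have hW4 := S.card_W
  have hWsq : ∀ x ∈ W, x * x = 1 := fun x hx => S.tri.props.sq x (S.Wle hx)
  have hWC : ∀ x ∈ W, x ∈ Cz t := fun x hx => (mem_inf.1 (S.Wle hx)).2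
  have hKW : ∀ k ∈ K, ∀ x ∈ W, Commute k x := fun k hk x hx => (S.commute_W hz1 hx hk).symm
  have hK60 : Nat.card K = 60 := by rw [Nat.card_congr e.toEquiv, sixty]
  haveI : IsSimpleGroup (alternatingGroup (Fin 5)) := alternatingGroup.isSimpleGroup_five
  haveI : IsSimpleGroup K := e.isSimpleGroup
  have hKcen : ∀ k ∈ K, (∀ y ∈ K, Commute k y) → k = 1 := fun k hk hall => by
    have := alt_five_center (e ⟨k, hk⟩) fun y => by
      obtain ⟨y', rfl⟩ := e.surjective y
      rw [← map_mul, ← map_mul]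
      exact congrArg e (Subtype.ext (hall y' y'.2).eq)
    exact congrArg Subtype.val ((MulEquiv.map_eq_one_iff e).1 this)
  -- the centralizer
  let ψ : W × K →* G := MonoidHom.noncommCoprod W.subtype K.subtype fun x k => (hKW k k.2 x x.2).symm
  have hψi : Function.Injective ψ := by
    refine (injective_iff_map_eq_one ψ).2 fun p hp => ?_
    have h1 : (p.1 : G) * p.2 = 1 := hp
    have h2 : (p.2 : G) = (p.1 : G)⁻¹ := eq_inv_of_mul_eq_one_right h1
    have h3 : (p.2 : G) = 1 := S.disj _ p.2.2 (h2 ▸ inv_mem p.1.2)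
    exact Prod.ext (Subtype.ext (by rwa [h3, mul_one] at h1)) (Subtype.ext h3)
  have hψr : ψ.range = Cz t := by
    refine le_antisymm ?_ ?_
    · rintro _ ⟨p, rfl⟩
      exact mul_mem (hWC _ p.1.2) (S.le p.2.2)
    · intro g hg
      obtain ⟨k, hk, x, hx, rfl⟩ := S.decomp g hg
      exact ⟨(⟨x, hx⟩, ⟨k, hk⟩), (hKW k hk x hx).eq.symm⟩
  obtain ⟨eW⟩ := klein_equiv hW4 hWsq
  refine ⟨⟨((MonoidHom.ofInjective hψi).trans (MulEquiv.subgroupCongr hψr)).symm.trans (eW.prodCongr e)⟩, ?_⟩
  have hWcomm : ∀ g ∈ Cz t, ∀ x ∈ W, Commute g x := by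
    intro g hg x hx
    obtain ⟨k, hk, x', hx', rfl⟩ := S.decomp g hg
    exact (hKW k hk x hx).mul_left (S.tri.props.comm x' (S.Wle hx') x (S.Wle hx))
  have hcentW : ∀ g ∈ Cz t, (∀ y ∈ Cz t, Commute g y) → g ∈ W := by
    intro g hg hall
    obtain ⟨k, hk, x, hx, rfl⟩ := S.decomp g hg
    have : k = 1 := hKcen k hk fun y hy => by
      have h1 : Commute (k * x * x⁻¹) y := (hall y (S.le hy)).mul_left (hKW y hy x hx).symm.inv_left
      rwa [mul_inv_cancel_right] at h1
    rwa [this, one_mul]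
  -- the 2-core
  set C := Cz t with hC
  have hcore : (Cfsg.pCore 2 C).map C.subtype = W := by
    refine le_antisymm ?_ ?_
    · rintro _ ⟨g, hg, rfl⟩
      obtain ⟨k, hk, x, hx, he⟩ := S.decomp (g : G) g.2
      set M := (Cfsg.pCore 2 C).comap (Subgroup.inclusion S.le) with hM
      haveI : M.Normal := Subgroup.Normal.comap inferInstance _
      have hMp : IsPGroup 2 M :=
        (Cfsg.Lib.Components.isPGroup_pCore 2).comap_of_injective _ (Subgroup.inclusion_injective S.le)
      have hMbot : M = ⊥ := by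
        rcases IsSimpleGroup.eq_bot_or_eq_top_of_normal M inferInstance with r | r
        · exact r
        · exfalso
          obtain ⟨n, hn⟩ := IsPGroup.iff_card.1 hMp
          rw [r, card_top, hK60] at hn
          have : 15 ∣ 2 ^ n := ⟨4, by omega⟩
          have := (Nat.Coprime.pow_right n (show Nat.Coprime 15 2 by norm_num)).eq_one_of_dvd this
          omega
      have hWcore : (⟨x, hWC x hx⟩ : C) ∈ Cfsg.pCore 2 C := by
        haveI : (W.subgroupOf C).Normal := ⟨fun n hn g => by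
          refine mem_subgroupOf.2 ?_
          show (g : G) * n * (g : G)⁻¹ ∈ W
          rw [(hWcomm g g.2 n (mem_subgroupOf.1 hn)).eq, mul_inv_cancel_right]
          exact mem_subgroupOf.1 hn⟩
        refine Cfsg.Lib.Components.le_pCore (N := W.subgroupOf C) ?_ (mem_subgroupOf.2 hx)
        exact IsPGroup.of_card (n := 2) (by rw [Nat.card_congr (subgroupOfEquivOfLe hWC).toEquiv, hW4]; norm_num)
      have hkM : (⟨k, hk⟩ : K) ∈ M := by
        rw [hM, mem_comap]
        have hk' : (Subgroup.inclusion S.le ⟨k, hk⟩ : C) = g * (⟨x, hWC x hx⟩ : C)⁻¹ :=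
          Subtype.ext (show k = (g : G) * x⁻¹ by rw [he, mul_inv_cancel_right])
        rw [hk']
        exact mul_mem hg (inv_mem hWcore)
      rw [hMbot, mem_bot] at hkM
      show (g : G) ∈ W
      rw [he, show k = 1 from congrArg Subtype.val hkM, one_mul]
      exact hx
    · intro x hx
      refine ⟨⟨x, hWC x hx⟩, ?_, rfl⟩
      haveI : (W.subgroupOf C).Normal := ⟨fun n hn g => by
        refine mem_subgroupOf.2 ?_
        show (g : G) * n * (g : G)⁻¹ ∈ W
        rw [(hWcomm g g.2 n (mem_subgroupOf.1 hn)).eq, mul_inv_cancel_right]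
        exact mem_subgroupOf.1 hn⟩
      refine Cfsg.Lib.Components.le_pCore (N := W.subgroupOf C) ?_ (mem_subgroupOf.2 hx)
      exact IsPGroup.of_card (n := 2) (by rw [Nat.card_congr (subgroupOfEquivOfLe hWC).toEquiv, hW4]; norm_num)
  rw [hcore]
  set N := normalizer (W : Set G) with hN
  have hnW : ∀ g ∈ N, ∀ x ∈ W, g * x * g⁻¹ ∈ W := fun g hg x hx => (mem_normalizer_iff.1 hg x).1 hx
  -- fusion inside `W`
  obtain ⟨v', hv'⟩ := exists_prime_orderOf_dvd_card' (G := K) 5 (by rw [hK60]; norm_num)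
  set v : G := (v' : G) with hv
  have ov : orderOf v = 5 := by rw [hv, Subgroup.orderOf_coe, hv']
  obtain ⟨hfus, -⟩ := H.cent_shape ht (S.le v'.2) (Or.inr ov)
  have htr : ∀ x ∈ W, x ≠ 1 → ∃ g ∈ N, g * t * g⁻¹ = x := by
    intro x hx hx1
    obtain ⟨g, hg⟩ := isConj_iff.1 (hfus x (mem_Cz.2 (hKW v v'.2 x hx).symm)
      (Cfsg.Lib.InvolCalc.order_two_of_mul_self (hWsq x hx) hx1))
    have hle : C ≤ Cz x := fun y hy => mem_Cz.2 (hWcomm y hy x hx)
    have heq : C = Cz x := eq_of_le_of_card_ge hle (by rw [← hg, card_Cz_conj])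
    have hCn : ∀ y, y ∈ C → g * y * g⁻¹ ∈ C := fun y hy => by
      rw [heq, mem_Cz, ← hg]
      exact (Commute.conj_iff g).2 (mem_Cz.1 hy)
    have hCn' : ∀ y, g * y * g⁻¹ ∈ C → y ∈ C := fun y hy => by
      rw [heq, mem_Cz, ← hg] at hy
      exact mem_Cz.2 ((Commute.conj_iff g).1 hy)
    refine ⟨g, mem_normalizer_iff.2 fun y => ⟨fun hy => ?_, fun hy => ?_⟩, hg⟩
    · refine hcentW _ (hCn y (hWC y hy)) fun u hu => ?_
      have hu' : g⁻¹ * u * g ∈ C := hCn' _ (by rwa [show g * (g⁻¹ * u * g) * g⁻¹ = u by group])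
      have := (Commute.conj_iff g).2 (hWcomm _ hu' y hy).symm
      rwa [show g * (g⁻¹ * u * g) * g⁻¹ = u by group] at this
    · refine hcentW _ (hCn' y (hWC _ hy)) fun u hu => ?_
      exact (Commute.conj_iff g).1 (hWcomm _ (hCn u hu) _ hy).symm
  have hCN : C ≤ N := fun g hg => mem_normalizer_iff.2 fun x => by
    refine ⟨fun hx => ?_, fun hx => ?_⟩
    · rw [(hWcomm g hg x hx).eq, mul_inv_cancel_right]; exact hx
    · have h2 := (hWcomm g⁻¹ (inv_mem hg) _ hx).eq
      rw [show g⁻¹ * (g * x * g⁻¹) = x * g⁻¹ by group] at h2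
      rwa [mul_right_cancel h2]
  -- `N` has order 720
  have hN720 : Nat.card N = 720 := by
    let f : N ⧸ C.subgroupOf N → {x : W // x ≠ 1} := Quotient.lift
      (fun n : N => (⟨⟨(n : G) * t * (n : G)⁻¹, hnW n n.2 t S.tW⟩, fun e' => by
        have := conj_eq_one_iff.1 (congrArg Subtype.val e')
        exact (show t ≠ 1 from fun h0 => by
          rw [h0] at ht
          exact ht.2.2 (one_mem Q)) this⟩ : {x : W // x ≠ 1}))
      fun n m hnm => by
        have hnm' : (n : G)⁻¹ * m ∈ C := mem_subgroupOf.1 (QuotientGroup.leftRel_apply.1 hnm)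
        refine Subtype.ext (Subtype.ext ?_)
        show (n : G) * t * (n : G)⁻¹ = (m : G) * t * (m : G)⁻¹
        have := mul_inv_eq_iff_eq_mul.2 (mem_Cz.1 hnm').eq
        rw [show (m : G) * t * (m : G)⁻¹ = (n : G) * ((n : G)⁻¹ * m * t * ((n : G)⁻¹ * m)⁻¹) * (n : G)⁻¹ by group, this]
    have hf : Function.Bijective f := by
      constructor
      · rintro ⟨n⟩ ⟨m⟩ e'
        refine Quotient.sound (QuotientGroup.leftRel_apply.2 ?_)
        show (n : G)⁻¹ * m ∈ C
        have e'' : (n : G) * t * (n : G)⁻¹ = (m : G) * t * (m : G)⁻¹ :=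
          congrArg (fun x : {x : W // x ≠ 1} => ((x : W) : G)) e'
        refine mem_Cz.2 (mul_inv_eq_iff_eq_mul.1 ?_)
        rw [show (n : G)⁻¹ * m * t * ((n : G)⁻¹ * m)⁻¹ = (n : G)⁻¹ * ((m : G) * t * (m : G)⁻¹) * n by group, ← e'']
        group
      · rintro ⟨⟨x, hx⟩, hx1⟩
        obtain ⟨g, hgN, hg⟩ := htr x hx fun e' => hx1 (Subtype.ext e')
        exact ⟨QuotientGroup.mk ⟨g, hgN⟩, Subtype.ext (Subtype.ext hg)⟩
    have h3 : Nat.card {x : W // x ≠ 1} = 3 := by
      letI := Fintype.ofFinite W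
      rw [Nat.card_eq_fintype_card, Fintype.card_subtype_compl, Fintype.card_subtype_eq, ← Nat.card_eq_fintype_card, hW4]
    rw [card_eq_card_quotient_mul_card_subgroup (C.subgroupOf N), Nat.card_congr (Equiv.ofBijective f hf), h3,
      Nat.card_congr (subgroupOfEquivOfLe hCN).toEquiv, S.card, hK60]
  -- `N` normalizes `K`
  let πW : C →* W := (MonoidHom.fst W K).comp
    ((MonoidHom.ofInjective hψi).trans (MulEquiv.subgroupCongr hψr)).symm.toMonoidHom
  have hπ : ∀ y : C, ∃ k : K, (y : G) = (πW y : G) * k := fun y => by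
    refine ⟨(((MonoidHom.ofInjective hψi).trans (MulEquiv.subgroupCongr hψr)).symm y).2, ?_⟩
    exact (congrArg Subtype.val
      (((MonoidHom.ofInjective hψi).trans (MulEquiv.subgroupCongr hψr)).apply_symm_apply y)).symm
  have hNC : ∀ g ∈ N, ∀ y ∈ C, g * y * g⁻¹ ∈ C := fun g hg y hy => by
    have ht' : g⁻¹ * t * g ∈ W := (mem_normalizer_iff.1 hg _).2 (by
      rw [show g * (g⁻¹ * t * g) * g⁻¹ = t by group]; exact S.tW)
    have := (Commute.conj_iff g).2 (hWcomm y hy _ ht')
    rw [show g * (g⁻¹ * t * g) * g⁻¹ = t by group] at this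
    exact mem_Cz.2 this
  have hnK : ∀ g ∈ N, ∀ k ∈ K, g * k * g⁻¹ ∈ K := by
    intro g hg k hk
    let c : K →* C := ((MulAut.conj g).toMonoidHom.comp K.subtype).codRestrict C fun k' => hNC g hg _ (S.le k'.2)
    have hc : (πW.comp c).ker = ⊤ := by
      refine ((IsSimpleGroup.eq_bot_or_eq_top_of_normal _ (MonoidHom.normal_ker _))).resolve_left fun r => ?_
      have := Nat.card_le_card_of_injective _ ((MonoidHom.ker_eq_bot_iff (πW.comp c)).1 r)
      omega
    obtain ⟨k', hk'⟩ := hπ (c ⟨k, hk⟩)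
    have h1 : πW (c ⟨k, hk⟩) = 1 := (hc.ge (mem_top (⟨k, hk⟩ : K)) : _)
    rw [h1, OneMemClass.coe_one, one_mul] at hk'
    show g * k * g⁻¹ ∈ K
    rw [show g * k * g⁻¹ = (k' : G) from hk']
    exact k'.2
  haveI : (K.subgroupOf N).Normal := ⟨fun n hn g => mem_subgroupOf.2 (hnK g g.2 n (mem_subgroupOf.1 hn))⟩
  have hKN : K ≤ N := S.le.trans hCN
  let Φ : N →* MulAut (alternatingGroup (Fin 5)) :=
    (MulAut.congr ((subgroupOfEquivOfLe hKN).trans e)).toMonoidHom.comp MulAut.conjNormal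
  set A := N ⊓ centralizer (K : Set G) with hA
  have hΦker : Φ.ker = A.subgroupOf N := by
    ext n
    rw [MonoidHom.mem_ker, mem_subgroupOf, hA, mem_inf, mem_centralizer_iff]
    constructor
    · intro hn
      have h1 : (MulAut.conjNormal n : MulAut (K.subgroupOf N)) = 1 := (MulAut.congr _).injective (hn.trans (map_one _).symm)
      refine ⟨n.2, fun k hk => ?_⟩
      have := congrArg (fun y : K.subgroupOf N => ((y : N) : G))
        (DFunLike.congr_fun h1 ⟨⟨k, hKN hk⟩, mem_subgroupOf.2 hk⟩)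
      simp only [MulAut.conjNormal_apply, MulAut.one_apply, Subgroup.coe_mul, Subgroup.coe_inv] at this
      exact (mul_inv_eq_iff_eq_mul.1 this).symm
    · rintro ⟨-, hn⟩
      have h1 : (MulAut.conjNormal n : MulAut (K.subgroupOf N)) = 1 := MulEquiv.ext fun y => Subtype.ext (Subtype.ext (by
        rw [MulAut.conjNormal_apply, MulAut.one_apply]
        show (n : G) * ((y : N) : G) * (n : G)⁻¹ = ((y : N) : G)
        exact mul_inv_eq_iff_eq_mul.2 (hn _ (mem_subgroupOf.1 y.2)).symm))
      show (MulAut.congr _) (MulAut.conjNormal n) = 1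
      rw [h1, map_one]
  have hWA : W ≤ A := fun x hx => mem_inf.2 ⟨hCN (hWC x hx), mem_centralizer_iff.2 fun k hk => (hKW k hk x hx).eq⟩
  have hAt : ∀ g ∈ A, g * t * g⁻¹ = t → g ∈ W := by
    intro g hg hgt
    obtain ⟨k, hk, x, hx, rfl⟩ := S.decomp g (mem_Cz.2 (mul_inv_eq_iff_eq_mul.1 hgt))
    have : k = 1 := hKcen k hk fun y hy => by
      have h1 : Commute (k * x * x⁻¹) y :=
        (Commute.symm (mem_centralizer_iff.1 (mem_inf.1 hg).2 y hy)).mul_left (hKW y hy x hx).symm.inv_left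
      rwa [mul_inv_cancel_right] at h1
    rwa [this, one_mul]
  have hA12 : Nat.card A = 12 := by
    have h1 : Nat.card Φ.range ∣ 120 := by
      have h120 : Nat.card (MulAut (alternatingGroup (Fin 5))) = 120 := by
        rw [← Nat.card_congr (Equiv.ofBijective _ (Cfsg.Lib.SolvStruct.AltAut.conjNormal_bijective (n := 5)
          (by norm_num) (by norm_num))), Nat.card_perm, Nat.card_fin]
        rfl
      exact h120 ▸ card_subgroup_dvd_card _
    have h2 : Nat.card A * Nat.card Φ.range = 720 := by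
      rw [← hN720, card_eq_card_quotient_mul_card_subgroup Φ.ker,
        Nat.card_congr (QuotientGroup.quotientKerEquivRange Φ).toEquiv, hΦker,
        Nat.card_congr (subgroupOfEquivOfLe (show A ≤ N from inf_le_left)).toEquiv, mul_comm]
    have h3 : 4 ∣ Nat.card A := hW4 ▸ card_dvd_of_le hWA
    have h4 : Nat.card A ≤ 12 := by
      let f : A ⧸ W.subgroupOf A → {x : W // x ≠ 1} := Quotient.lift
        (fun n : A => (⟨⟨(n : G) * t * (n : G)⁻¹, hnW n (mem_inf.1 n.2).1 t S.tW⟩, fun e' => by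
          have := conj_eq_one_iff.1 (congrArg Subtype.val e')
          exact (show t ≠ 1 from fun h0 => by
            rw [h0] at ht
            exact ht.2.2 (one_mem Q)) this⟩ : {x : W // x ≠ 1}))
        fun n m hnm => by
          have hnm' : (n : G)⁻¹ * m ∈ W := mem_subgroupOf.1 (QuotientGroup.leftRel_apply.1 hnm)
          refine Subtype.ext (Subtype.ext ?_)
          show (n : G) * t * (n : G)⁻¹ = (m : G) * t * (m : G)⁻¹
          have := mul_inv_eq_iff_eq_mul.2 (mem_Cz.1 (hWC _ hnm')).eq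
          rw [show (m : G) * t * (m : G)⁻¹ = (n : G) * ((n : G)⁻¹ * m * t * ((n : G)⁻¹ * m)⁻¹) * (n : G)⁻¹ by group, this]
      have hf : Function.Injective f := by
        rintro ⟨n⟩ ⟨m⟩ e'
        refine Quotient.sound (QuotientGroup.leftRel_apply.2 ?_)
        show (n : G)⁻¹ * m ∈ W
        have e'' : (n : G) * t * (n : G)⁻¹ = (m : G) * t * (m : G)⁻¹ :=
          congrArg (fun x : {x : W // x ≠ 1} => ((x : W) : G)) e'
        refine hAt _ (mul_mem (inv_mem n.2) m.2) ?_
        rw [show (n : G)⁻¹ * m * t * ((n : G)⁻¹ * m)⁻¹ = (n : G)⁻¹ * ((m : G) * t * (m : G)⁻¹) * n by group, ← e'']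
        group
      have h5 := Nat.card_le_card_of_injective f hf
      have h6 : Nat.card {x : W // x ≠ 1} = 3 := by
        letI := Fintype.ofFinite W
        rw [Nat.card_eq_fintype_card, Fintype.card_subtype_compl, Fintype.card_subtype_eq, ← Nat.card_eq_fintype_card, hW4]
      rw [card_eq_card_quotient_mul_card_subgroup (W.subgroupOf A),
        Nat.card_congr (subgroupOfEquivOfLe hWA).toEquiv, hW4]
      omega
    have h7 : Nat.card Φ.range ≤ 120 := Nat.le_of_dvd (by norm_num) h1
    obtain ⟨q, hq⟩ := h3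
    rw [hq] at h2 h4 ⊢
    have : q ≤ 3 := by omega
    interval_cases q
    · omega
    · omega
    · exfalso
      have h90 : Nat.card Φ.range = 90 := by omega
      rw [h90] at h1
      omega
    · rfl
  obtain ⟨eA⟩ := alt_four_equiv hA12 hW4 hWA (fun g hg => hnW g (mem_inf.1 hg).1) S.tW hAt
  let χ : A × K →* G := MonoidHom.noncommCoprod A.subtype K.subtype fun g k =>
    (mem_centralizer_iff.1 (mem_inf.1 g.2).2 k k.2).symm
  have hχi : Function.Injective χ := by
    refine (injective_iff_map_eq_one χ).2 fun p hp => ?_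
    have h1 : (p.1 : G) * p.2 = 1 := hp
    have h2 : (p.2 : G) = (p.1 : G)⁻¹ := eq_inv_of_mul_eq_one_right h1
    have h3 : (p.2 : G) = 1 := hKcen _ p.2.2 fun y hy => by
      rw [h2]
      exact (Commute.symm (mem_centralizer_iff.1 (mem_inf.1 p.1.2).2 y hy)).inv_left
    exact Prod.ext (Subtype.ext (by rwa [h3, mul_one] at h1)) (Subtype.ext h3)
  have hχr : χ.range = N := by
    refine eq_of_le_of_card_ge ?_ ?_
    · rintro _ ⟨p, rfl⟩
      exact mul_mem (mem_inf.1 p.1.2).1 (hKN p.2.2)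
    · rw [hN720, ← Nat.card_congr (MonoidHom.ofInjective hχi).toEquiv, Nat.card_prod, hA12, hK60]
  exact ⟨((MonoidHom.ofInjective hχi).trans (MulEquiv.subgroupCongr hχr)).symm.trans (eA.prodCongr e)⟩

end Hyp

end Cfsg.Lib.HallJankoType
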