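import Cfsg.Agent.LocalThree.HallJankoType.Data
import Cfsg.Agent.InvolCalc.Dihedral

/-!
Involutions of `C` outside `Q` and their centralizers in `C`.
-/

set_option autoImplicit false
set_option linter.unusedSectionVars false

namespace Cfsg.Lib.HallJankoType

open Subgroup Equiv

variable {G : Type*} [Group G] [Finite G] {z : G} {Q : Subgroup G} {a : Fin 5 → G} {σ : Cz z →* Perm (Fin 5)}

def tau1 : Perm (Fin 5) := swap 0 1 * swap 2 3
def tau2 : Perm (Fin 5) := swap 0 2 * swap 1 3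

theorem perm_std : ∀ π : Perm (Fin 5), Perm.sign π = 1 → π * π = 1 → π ≠ 1 →
    ∃ ρ : Perm (Fin 5), Perm.sign ρ = 1 ∧ ρ * π * ρ⁻¹ = tau1 := by decide +kernel

theorem perm_pairs : ∀ π : Perm (Fin 5), Perm.sign π = 1 → π * π = 1 → π ≠ 1 → ∀ i, π i = i →
    ∃ j k l m, π j = k ∧ π l = m ∧ [i, j, k, l, m].Nodup := by decide +kernel

theorem perm_cent : ∀ π : Perm (Fin 5), Perm.sign π = 1 → π * tau1 = tau1 * π →
    π = 1 ∨ π = tau1 ∨ π = tau2 ∨ π = tau1 * tau2 := by decide +kernel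

theorem tau1_fix : ∀ i, tau1 i = i → i = 4 := by decide +kernel

theorem tau1_pairs : ∀ i j : Fin 5, i < j →
    ((tau1 i < tau1 j ∧ tau1 i = i ∧ tau1 j = j) ∨ (tau1 j < tau1 i ∧ tau1 j = i ∧ tau1 i = j)) →
    (i = 0 ∧ j = 1) ∨ (i = 2 ∧ j = 3) := by decide +kernel

/-- an involution of `C` outside `Q` -/
def Outer (z : G) (Q : Subgroup G) (y : G) : Prop := y ∈ Cz z ∧ y * y = 1 ∧ y ∉ Q

/-- its centralizer in `C` -/
abbrev Ey (z y : G) : Subgroup G := Cz z ⊓ centralizer ({y} : Set G)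

theorem mem_Ey {y x : G} : x ∈ Ey z y ↔ x ∈ Cz z ∧ Commute x y := by
  rw [mem_inf]
  exact and_congr_right fun _ => mem_centralizer_singleton_iff

/-- the classes fixed by a standard outer involution -/
def RSet (z : G) (a : Fin 5 → G) (q : G) : Prop :=
  Cls z q 1 ∨ Cls z q (a 4) ∨ Cls z q (a 0 * a 1) ∨ Cls z q (a 2 * a 3)

namespace Data

variable (D : Data z Q a σ)
include D

theorem zz : z * z = 1 := D.frame.x2.zz

theorem commQ {q : G} (hq : q ∈ Q) : Commute z q := D.frame.zc hq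

theorem commC {c : G} (hc : c ∈ Cz z) : Commute c z := mem_Cz.1 hc

theorem cls_conj {c q x : G} (hc : c ∈ Cz z) (h : Cls z q x) : Cls z (c * q * c⁻¹) (c * x * c⁻¹) := by
  rcases h with rfl | rfl
  · exact Or.inl rfl
  · refine Or.inr ?_
    rw [← mul_assoc c, (D.commC hc).eq]
    group

theorem cls_mul {q q' x x' : G} (hx : Commute x z) (h : Cls z q x) (h' : Cls z q' x') : Cls z (q * q') (x * x') := by
  rcases h with rfl | rfl <;> rcases h' with rfl | rfl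
  · exact Or.inl rfl
  · exact Or.inr (by rw [← mul_assoc, hx.eq, mul_assoc])
  · exact Or.inr (by rw [mul_assoc])
  · refine Or.inl ?_
    calc z * x * (z * x') = z * (x * z) * x' := by group
      _ = z * z * (x * x') := by rw [hx.eq]; group
      _ = x * x' := by rw [D.zz, one_mul]

theorem cls_self_inv {q : G} (hq : q ∈ Q) : Cls z q⁻¹ q := by
  rcases D.frame.x2.sq q hq with e | e
  · exact Or.inl (inv_eq_of_mul_eq_one_right e)
  · refine Or.inr (inv_eq_of_mul_eq_one_right ?_)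
    rw [← mul_assoc, ← (D.commQ hq).eq, mul_assoc, e, D.zz]

theorem cls_swap (i j : Fin 5) : Cls z (a i * a j) (a j * a i) := by
  by_cases h : i = j
  · subst h; exact Or.inl rfl
  · exact Or.inr (D.frame.anti j i (Ne.symm h))

theorem fixed_commute {y : G} (hy : y ∈ Cz z) (hyy : y * y = 1) (hyQ : y ∉ Q) {i : Fin 5}
    (hi : σ ⟨y, hy⟩ i = i) : Commute y (a i) := by
  have hinv : y⁻¹ = y := inv_eq_of_mul_eq_one_right hyy
  have hπ2 : σ ⟨y, hy⟩ * σ ⟨y, hy⟩ = 1 := by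
    rw [← map_mul, show (⟨y, hy⟩ : Cz z) * ⟨y, hy⟩ = 1 from Subtype.ext hyy, map_one]
  obtain ⟨j, k, l, m, hjk, hlm, hnd⟩ := perm_pairs _ (D.sign _) hπ2 (fun e => hyQ ((D.ker _).1 e)) i hi
  have hpair : ∀ {j k : Fin 5}, j ≠ k → σ ⟨y, hy⟩ j = k → y * (a j * a k) * y⁻¹ = z * (a j * a k) := by
    intro j k hne hjk
    have h1 := D.act ⟨y, hy⟩ j
    rw [hjk] at h1
    change Cls z (y * a j * y⁻¹) (a k) at h1
    have hyz := D.commC hy
    rw [← D.frame.anti j k hne]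
    rcases h1 with h1 | h1
    · have h2 : y * a k * y⁻¹ = a j := by
        rw [← h1]
        calc y * (y * a j * y⁻¹) * y⁻¹ = (y * y) * a j * (y * y)⁻¹ := by group
          _ = a j := by rw [hyy]; group
      calc y * (a j * a k) * y⁻¹ = (y * a j * y⁻¹) * (y * a k * y⁻¹) := by group
        _ = _ := by rw [h1, h2]
    · have h2 : y * a k * y⁻¹ = z * a j := by
        have h3 : a k = z * (y * a j * y⁻¹) := by rw [h1, ← mul_assoc, D.zz, one_mul]
        calc y * a k * y⁻¹ = y * z * (y * a j * y⁻¹) * y⁻¹ := by rw [h3]; group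
          _ = z * ((y * y) * a j * (y * y)⁻¹) := by rw [hyz.eq]; group
          _ = _ := by rw [hyy]; group
      calc y * (a j * a k) * y⁻¹ = (y * a j * y⁻¹) * (y * a k * y⁻¹) := by group
        _ = z * (a k * z) * a j := by rw [h1, h2]; group
        _ = (z * z) * (a k * a j) := by rw [D.frame.z_ai k]; group
        _ = _ := by rw [D.zz, one_mul]
  have hjk' : j ≠ k := by simp at hnd; tauto
  have hlm' : l ≠ m := by simp at hnd; tauto
  have hP : Commute y (a j * a k * (a l * a m)) := by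
    refine mul_inv_eq_iff_eq_mul.1 ?_
    have hc : a j * a k * z = z * (a j * a k) :=
      ((D.commQ (D.frame.mem j)).mul_right (D.commQ (D.frame.mem k))).eq.symm
    calc y * (a j * a k * (a l * a m)) * y⁻¹ = (y * (a j * a k) * y⁻¹) * (y * (a l * a m) * y⁻¹) := by group
      _ = z * (a j * a k * z) * (a l * a m) := by rw [hpair hjk' hjk, hpair hlm' hlm]; group
      _ = (z * z) * (a j * a k * (a l * a m)) := by rw [hc]; group
      _ = _ := by rw [D.zz, one_mul]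
  rcases D.frame.sum i j k l m hnd with e | e <;> rw [e]
  · exact hP
  · exact (D.commC hy).mul_right hP

section Standard

variable {y : G} (hy : y ∈ Cz z) (hyy : y * y = 1) (hσ : σ ⟨y, hy⟩ = tau1)
include hyy hσ

theorem std_act (i : Fin 5) : Cls z (y * a i * y⁻¹) (a (tau1 i)) := hσ ▸ D.act ⟨y, hy⟩ i

theorem std_notMem : y ∉ Q := fun h => by
  have := (D.ker ⟨y, hy⟩).2 h
  rw [hσ] at this
  exact absurd this (by decide)

theorem std_four : Commute y (a 4) :=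
  D.fixed_commute hy hyy (D.std_notMem hy hyy hσ) (by rw [hσ]; decide)

theorem std_pair01 : y * (a 0 * a 1) * y⁻¹ = z * (a 0 * a 1) ∧ y * (a 2 * a 3) * y⁻¹ = z * (a 2 * a 3) := by
  have aux : ∀ {j k : Fin 5}, j ≠ k → tau1 j = k → tau1 k = j → y * (a j * a k) * y⁻¹ = z * (a j * a k) := by
    intro j k hne hjk hkj
    have h1 := D.std_act hy hyy hσ j
    have h2 := D.std_act hy hyy hσ k
    rw [hjk] at h1
    rw [hkj] at h2
    have hinv : y⁻¹ = y := inv_eq_of_mul_eq_one_right hyy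
    have hyz := D.commC hy
    rw [← D.frame.anti j k hne]
    have h4 : y * (y * a j * y⁻¹) * y⁻¹ = a j := by
      calc y * (y * a j * y⁻¹) * y⁻¹ = (y * y) * a j * (y * y)⁻¹ := by group
        _ = a j := by rw [hyy]; group
    rcases h1 with h1 | h1
    · rw [h1] at h4
      calc y * (a j * a k) * y⁻¹ = (y * a j * y⁻¹) * (y * a k * y⁻¹) := by group
        _ = _ := by rw [h1, h4]
    · rw [h1] at h4
      have h5 : y * a k * y⁻¹ = z * a j := by
        calc y * a k * y⁻¹ = z * (z * y * a k * y⁻¹) := by rw [← mul_assoc, ← mul_assoc, ← mul_assoc, D.zz, one_mul]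
          _ = z * (y * (z * a k) * y⁻¹) := by rw [← hyz.eq]; group
          _ = _ := by rw [h4]
      calc y * (a j * a k) * y⁻¹ = (y * a j * y⁻¹) * (y * a k * y⁻¹) := by group
        _ = z * (a k * z) * a j := by rw [h1, h5]; group
        _ = (z * z) * (a k * a j) := by rw [D.frame.z_ai k]; group
        _ = _ := by rw [D.zz, one_mul]
  exact ⟨aux (by decide) (by decide) (by decide), aux (by decide) (by decide) (by decide)⟩

/-- classes fixed by `y` -/
theorem std_fixed {q : G} (hq : q ∈ Q) (h : Cls z (y * q * y⁻¹) q) : RSet z a q := by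
  rcases D.frame.cls q hq with e | ⟨i, e⟩ | ⟨i, j, hij, e⟩
  · exact Or.inl e
  · have h2 := D.frame.cls_trans (D.frame.cls_trans (D.frame.cls_symm (D.cls_conj hy e)) h) e
    have h3 := D.frame.cls_trans (D.frame.cls_symm (D.std_act hy hyy hσ i)) h2
    have hfix : tau1 i = i := by
      by_contra hne
      exact D.frame.inj _ _ hne h3
    exact Or.inr (Or.inl (tau1_fix i hfix ▸ e))
  · have h1 : Cls z (y * (a i * a j) * y⁻¹) (a (tau1 i) * a (tau1 j)) := by
      rw [show y * (a i * a j) * y⁻¹ = (y * a i * y⁻¹) * (y * a j * y⁻¹) by group]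
      exact D.cls_mul (D.commQ (D.frame.mem _)).symm (D.std_act hy hyy hσ i) (D.std_act hy hyy hσ j)
    have h2 := D.frame.cls_trans (D.frame.cls_trans (D.frame.cls_symm (D.cls_conj hy e)) h) e
    have h3 := D.frame.cls_trans (D.frame.cls_symm h1) h2
    have hne : tau1 i ≠ tau1 j := fun e' => hij.ne (tau1.injective e')
    rcases lt_or_gt_of_ne hne with hlt | hlt
    · obtain ⟨p1, p2⟩ := D.frame.pair _ _ _ _ hlt hij h3
      rcases tau1_pairs i j hij (Or.inl ⟨hlt, p1, p2⟩) with ⟨rfl, rfl⟩ | ⟨rfl, rfl⟩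
      exacts [Or.inr (Or.inr (Or.inl e)), Or.inr (Or.inr (Or.inr e))]
    · obtain ⟨p1, p2⟩ := D.frame.pair _ _ _ _ hlt hij (D.frame.cls_trans (D.cls_swap _ _) h3)
      rcases tau1_pairs i j hij (Or.inr ⟨hlt, p1, p2⟩) with ⟨rfl, rfl⟩ | ⟨rfl, rfl⟩
      exacts [Or.inr (Or.inr (Or.inl e)), Or.inr (Or.inr (Or.inr e))]

theorem rset_invert {q : G} (hq : RSet z a q) : y * q * y⁻¹ * q = 1 ∧
    (Commute y q → Cls z q 1 ∨ Cls z q (a 4)) := by
  have hyz := D.commC hy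
  have aux : ∀ {w : G}, w ∈ Q → Cls z q w → y * w * y⁻¹ * w = 1 → y * q * y⁻¹ * q = 1 := by
    intro w hw e h1
    rcases e with rfl | rfl
    · exact h1
    · have hwz := D.commQ hw
      calc y * (z * w) * y⁻¹ * (z * w) = (y * z) * w * y⁻¹ * (z * w) := by group
        _ = z * ((y * w * y⁻¹) * z) * w := by rw [hyz.eq]; group
        _ = z * (z * (y * w * y⁻¹)) * w := by rw [(D.commQ (D.norm y hy w hw)).eq]
        _ = (z * z) * (y * w * y⁻¹ * w) := by group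
        _ = 1 := by rw [h1, D.zz, one_mul]
  have hsq2 : ∀ {j k : Fin 5}, j ≠ k → z * (a j * a k) * (a j * a k) = 1 := fun {j k} hne => by
    rw [← D.frame.anti j k hne, show a k * a j * (a j * a k) = a k * (a j * a j) * a k by group,
      D.frame.sq, mul_one, D.frame.sq]
  obtain ⟨p01, p23⟩ := D.std_pair01 hy hyy hσ
  have hne : ∀ {j k : Fin 5}, j ≠ k → y * (a j * a k) * y⁻¹ = z * (a j * a k) → Cls z q (a j * a k) → ¬ Commute y q := by
    intro j k hne hp e hc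
    have hc' : Commute y (a j * a k) := by
      rcases e with rfl | rfl
      · exact hc
      · simpa [← mul_assoc, D.zz] using hyz.mul_right hc
    rw [hc'.eq, mul_inv_cancel_right] at hp
    exact D.frame.x2.ne (mul_eq_right.mp hp.symm)
  rcases hq with e | e | e | e
  · exact ⟨aux (one_mem Q) e (by simp), fun _ => Or.inl e⟩
  · exact ⟨aux (D.frame.mem 4) e (by rw [(D.std_four hy hyy hσ).eq, mul_inv_cancel_right, D.frame.sq]),
      fun _ => Or.inr e⟩
  · exact ⟨aux (mul_mem (D.frame.mem _) (D.frame.mem _)) e (by rw [p01, hsq2 (by decide)]),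
      fun h => absurd h (hne (by decide) p01 e)⟩
  · exact ⟨aux (mul_mem (D.frame.mem _) (D.frame.mem _)) e (by rw [p23, hsq2 (by decide)]),
      fun h => absurd h (hne (by decide) p23 e)⟩

/-- the outer involutions over the same permutation are conjugate under `Q` -/
theorem std_conj {x : G} (hx : x ∈ Cz z) (hxx : x * x = 1) (hσx : σ ⟨x, hx⟩ = tau1) :
    ∃ q ∈ Q, q * y * q⁻¹ = x := by
  have hinv : y⁻¹ = y := inv_eq_of_mul_eq_one_right hyy
  set u := y * x with hu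
  have huQ : u ∈ Q := (D.ker ⟨u, mul_mem hy hx⟩).1 (by
    rw [show (⟨u, mul_mem hy hx⟩ : Cz z) = ⟨y, hy⟩ * ⟨x, hx⟩ from rfl, map_mul, hσ, hσx]
    decide)
  have hxu : x = y * u := by rw [hu, ← mul_assoc, hyy, one_mul]
  have huR : RSet z a u := D.std_fixed hy hyy hσ huQ (by
    have h1 : y * u * y⁻¹ = u⁻¹ := by
      refine eq_inv_of_mul_eq_one_left ?_
      rw [hinv, show y * u * y * u = (y * u) * (y * u) by group, ← hxu, hxx]
    rw [h1]
    exact D.cls_self_inv huQ)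
  -- it is enough to reach the class of `u`
  suffices hex : ∃ q ∈ Q, Cls z u (y * q * y⁻¹ * q⁻¹) by
    obtain ⟨q, hq, e⟩ := hex
    have hval : ∀ q : G, y * q * y⁻¹ * q⁻¹ = u → q * y * q⁻¹ = x := fun q e => by
      rw [hxu, ← e, hinv, show y * (y * q * y * q⁻¹) = (y * y) * (q * y * q⁻¹) by group, hyy, one_mul]
    rcases e with e | e
    · exact ⟨q, hq, hval q e.symm⟩
    · obtain ⟨p01, -⟩ := D.std_pair01 hy hyy hσ
      refine ⟨q * (a 0 * a 1), mul_mem hq (mul_mem (D.frame.mem _) (D.frame.mem _)), hval _ ?_⟩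
      rw [e]
      calc y * (q * (a 0 * a 1)) * y⁻¹ * (q * (a 0 * a 1))⁻¹
          = (y * q * y⁻¹) * ((y * (a 0 * a 1) * y⁻¹) * (a 0 * a 1)⁻¹) * q⁻¹ := by group
        _ = (y * q * y⁻¹) * z * q⁻¹ := by rw [p01, mul_inv_cancel_right]
        _ = z * (y * q * y⁻¹ * q⁻¹) := by
            rw [← (D.commQ (D.norm y hy q hq)).eq]; group
  have hdel : ∀ i : Fin 5, Cls z (y * a i * y⁻¹ * (a i)⁻¹) (a i * a (tau1 i)) := fun i => by
    rw [inv_eq_of_mul_eq_one_right (D.frame.sq i)]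
    exact D.frame.cls_trans (D.cls_mul (D.commQ (D.frame.mem _)).symm (D.std_act hy hyy hσ i) (Or.inl rfl))
      (D.cls_swap _ _)
  rcases huR with e | e | e | e
  · exact ⟨1, one_mem _, by simpa using e⟩
  · refine ⟨a 0 * a 2, mul_mem (D.frame.mem _) (D.frame.mem _), D.frame.cls_trans e (D.frame.cls_symm ?_)⟩
    have e0 := hdel 0
    have e2 := hdel 2
    have h02 : y * (a 0 * a 2) * y⁻¹ * (a 0 * a 2)⁻¹ =
        (y * a 0 * y⁻¹) * (y * a 2 * y⁻¹ * (a 2)⁻¹) * (a 0)⁻¹ := by group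
    rw [h02]
    have hm : ∀ i, Commute (a i) z := fun i => (D.commQ (D.frame.mem i)).symm
    have step : Cls z ((y * a 0 * y⁻¹) * (y * a 2 * y⁻¹ * (a 2)⁻¹) * (a 0)⁻¹) (a 1 * (a 2 * a 3) * a 0) := by
      rw [inv_eq_of_mul_eq_one_right (D.frame.sq 0)]
      exact D.cls_mul ((hm 1).mul_left ((hm 2).mul_left (hm 3)))
        (D.cls_mul (hm 1) (D.std_act hy hyy hσ 0) e2) (Or.inl rfl)
    refine D.frame.cls_trans step (D.frame.cls_trans ?_ (D.frame.cls_symm (D.frame.sum 4 2 3 0 1 (by decide))))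
    refine D.frame.cls_trans (x := a 2 * a 3 * a 1 * a 0) (D.cls_mul ((hm 2).mul_left ((hm 3).mul_left (hm 1)) |> fun h => by simpa [mul_assoc] using h) ?_ (Or.inl rfl)) ?_
    · rw [← mul_assoc (a 1)]
      refine D.frame.cls_trans (D.cls_mul ((hm 2).mul_left (hm 1)) (D.cls_swap 1 2) (Or.inl rfl)) ?_
      rw [mul_assoc, mul_assoc (a 2) (a 3)]
      exact D.cls_mul (hm 2) (Or.inl rfl) (D.cls_swap 1 3)
    · rw [mul_assoc (a 2 * a 3)]
      exact D.cls_mul ((hm 2).mul_left (hm 3)) (Or.inl rfl) (D.cls_swap 1 0)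
  · exact ⟨a 0, D.frame.mem 0, D.frame.cls_trans e (D.frame.cls_symm (hdel 0))⟩
  · exact ⟨a 2, D.frame.mem 2, D.frame.cls_trans e (D.frame.cls_symm (hdel 2))⟩

end Standard

theorem sigma_inv_sq {x : G} (hx : x ∈ Cz z) (hxx : x * x = 1) : σ ⟨x, hx⟩ * σ ⟨x, hx⟩ = 1 := by
  rw [← map_mul, show (⟨x, hx⟩ : Cz z) * ⟨x, hx⟩ = 1 from Subtype.ext hxx, map_one]

/-- any element of `C` outside `Q` with square in `Q` moves to standard position -/
theorem to_std {x : G} (hx : x ∈ Cz z) (hsq : x * x ∈ Q) (hxQ : x ∉ Q) :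
    ∃ c, ∃ hc : c ∈ Cz z, σ ⟨c * x * c⁻¹, mul_mem (mul_mem hc hx) (inv_mem hc)⟩ = tau1 := by
  have h2 : σ ⟨x, hx⟩ * σ ⟨x, hx⟩ = 1 := by
    rw [← map_mul]; exact (D.ker _).2 hsq
  obtain ⟨ρ, hρ, e⟩ := perm_std _ (D.sign _) h2 (fun h => hxQ ((D.ker _).1 h))
  obtain ⟨c, rfl⟩ := D.surj ρ hρ
  refine ⟨c, c.2, ?_⟩
  rw [← e, ← map_inv, ← map_mul, ← map_mul]
  rfl

theorem outer_conj' {y c : G} (hy : Outer z Q y) (hc : c ∈ Cz z) : Outer z Q (c * y * c⁻¹) := by
  refine ⟨mul_mem (mul_mem hc hy.1) (inv_mem hc), ?_, fun h => hy.2.2 ?_⟩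
  · rw [show c * y * c⁻¹ * (c * y * c⁻¹) = c * (y * y) * c⁻¹ by group, hy.2.1]; group
  · have := D.norm c⁻¹ (inv_mem hc) _ h
    simpa [mul_assoc] using this

/-- all outer involutions are conjugate in `C` -/
theorem outer_conj {x y : G} (hx : Outer z Q x) (hy : Outer z Q y) : ∃ c ∈ Cz z, c * x * c⁻¹ = y := by
  obtain ⟨c, hc, ec⟩ := D.to_std hx.1 (by rw [hx.2.1]; exact one_mem _) hx.2.2
  obtain ⟨d, hd, ed⟩ := D.to_std hy.1 (by rw [hy.2.1]; exact one_mem _) hy.2.2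
  obtain ⟨q, hq, eq⟩ := D.std_conj _ (D.outer_conj' hx hc).2.1 ec _ (D.outer_conj' hy hd).2.1 ed
  refine ⟨d⁻¹ * q * c, mul_mem (mul_mem (inv_mem hd) (D.le hq)) hc, ?_⟩
  calc d⁻¹ * q * c * x * (d⁻¹ * q * c)⁻¹ = d⁻¹ * (q * (c * x * c⁻¹) * q⁻¹) * d := by group
    _ = y := by rw [eq]; group

/-- elements outside `Q` whose square is central are involutions -/
theorem outer_of_sq {y₀ x : G} (hy₀ : Outer z Q y₀) (hx : x ∈ Cz z) (hxQ : x ∉ Q)
    (hsq : x * x = 1 ∨ x * x = z) : x * x = 1 := by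
  have hsqQ : x * x ∈ Q := by rcases hsq with e | e <;> rw [e]; exacts [one_mem _, D.frame.x2.mem]
  obtain ⟨c, hc, ec⟩ := D.to_std hx hsqQ hxQ
  obtain ⟨d, hd, ed⟩ := D.to_std hy₀.1 (by rw [hy₀.2.1]; exact one_mem _) hy₀.2.2
  set y := d * y₀ * d⁻¹
  have hyO := D.outer_conj' hy₀ hd
  have hinv : y⁻¹ = y := inv_eq_of_mul_eq_one_right hyO.2.1
  set x' := c * x * c⁻¹ with hx'
  have hx'C : x' ∈ Cz z := mul_mem (mul_mem hc hx) (inv_mem hc)
  have hx'sq : x' * x' = x * x := by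
    rw [hx', show c * x * c⁻¹ * (c * x * c⁻¹) = c * (x * x) * c⁻¹ by group]
    rcases hsq with e | e <;> rw [e]
    · group
    · rw [(D.commC hc).eq, mul_inv_cancel_right]
  set q := y * x' with hq
  have hqQ : q ∈ Q := (D.ker ⟨q, mul_mem hyO.1 hx'C⟩).1 (by
    rw [show (⟨q, mul_mem hyO.1 hx'C⟩ : Cz z) = ⟨y, hyO.1⟩ * ⟨x', hx'C⟩ from rfl, map_mul, ed, ec]
    decide)
  have hxq : x' = y * q := by rw [hq, ← mul_assoc, hyO.2.1, one_mul]
  have hprod : y * q * y⁻¹ * q = x' * x' := by rw [hxq, hinv]; group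
  have hR : RSet z a q := D.std_fixed hyO.1 hyO.2.1 ed hqQ (by
    have e1 : y * q * y⁻¹ = x' * x' * q⁻¹ := by rw [← hprod, mul_inv_cancel_right]
    rw [e1, hx'sq]
    refine D.frame.cls_trans ?_ (D.cls_self_inv hqQ)
    rcases hsq with e | e <;> rw [e]
    · exact Or.inl (one_mul _)
    · exact Or.inr rfl)
  rw [← hx'sq, ← hprod]
  exact (D.rset_invert hyO.1 hyO.2.1 ed hR).1

/-- an outer involution over `(02)(13)` commuting with a given standard one -/
theorem exists_second {y : G} (hy : y ∈ Cz z) (hyy : y * y = 1) (hσ : σ ⟨y, hy⟩ = tau1) :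
    ∃ s, ∃ hs : s ∈ Cz z, s * s = 1 ∧ σ ⟨s, hs⟩ = tau2 ∧ Commute s y := by
  have hyQ := D.std_notMem hy hyy hσ
  obtain ⟨ρ, hρ, eρ⟩ : ∃ ρ : Perm (Fin 5), Perm.sign ρ = 1 ∧ ρ * tau1 * ρ⁻¹ = tau2 := by decide +kernel
  obtain ⟨c, rfl⟩ := D.surj ρ hρ
  set s₀ : G := (c : G) * y * (c : G)⁻¹ with hs₀
  have hs₀O := D.outer_conj' (⟨hy, hyy, hyQ⟩ : Outer z Q y) c.2
  have hσs₀ : σ ⟨s₀, hs₀O.1⟩ = tau2 := by
    rw [← eρ, ← hσ, ← map_inv, ← map_mul, ← map_mul]
    rfl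
  have hinv : y⁻¹ = y := inv_eq_of_mul_eq_one_right hyy
  have hsinv : s₀⁻¹ = s₀ := inv_eq_of_mul_eq_one_right hs₀O.2.1
  have hw := D.outer_conj' (⟨hy, hyy, hyQ⟩ : Outer z Q y) hs₀O.1
  rw [hsinv] at hw
  set r := y * (s₀ * y * s₀) with hr
  have hσw : σ ⟨s₀ * y * s₀, hw.1⟩ = tau1 := by
    rw [show (⟨s₀ * y * s₀, hw.1⟩ : Cz z) = ⟨s₀, hs₀O.1⟩ * ⟨y, hy⟩ * ⟨s₀, hs₀O.1⟩ from rfl, map_mul, map_mul, hσ, hσs₀]
    decide
  have hrQ : r ∈ Q := (D.ker ⟨r, mul_mem hy hw.1⟩).1 (by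
    rw [show (⟨r, mul_mem hy hw.1⟩ : Cz z) = ⟨y, hy⟩ * ⟨s₀ * y * s₀, hw.1⟩ from rfl, map_mul, hσ, hσw]
    decide)
  have hyr : s₀ * y * s₀ = y * r := by rw [hr, ← mul_assoc y y, hyy, one_mul]
  have hrR : RSet z a r := D.std_fixed hy hyy hσ hrQ (by
    have e1 : y * r * y⁻¹ = r⁻¹ := eq_inv_of_mul_eq_one_left (by
      rw [hinv, show y * r * y * r = (y * r) * (y * r) by group, ← hyr]; exact hw.2.1)
    rw [e1]; exact D.cls_self_inv hrQ)
  have hrs : r * (s₀ * r * s₀) = 1 := by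
    have : s₀ * (s₀ * y * s₀) * s₀ = y := by
      calc s₀ * (s₀ * y * s₀) * s₀ = (s₀ * s₀) * y * (s₀ * s₀) := by group
        _ = y := by rw [hs₀O.2.1, one_mul, mul_one]
    rw [hyr] at this
    have e2 : s₀ * y * s₀ * (s₀ * r * s₀) = y := by
      calc s₀ * y * s₀ * (s₀ * r * s₀) = s₀ * y * (s₀ * s₀) * r * s₀ := by group
        _ = y := by rw [hs₀O.2.1, mul_one, mul_assoc s₀ y r, this]
    rw [hyr, mul_assoc] at e2
    exact mul_eq_left.mp e2
  have hsr : Cls z (s₀ * r * s₀⁻¹) r := by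
    rw [hsinv, eq_inv_of_mul_eq_one_right hrs]
    exact D.cls_self_inv hrQ
  have hact : ∀ i, Cls z (s₀ * a i * s₀⁻¹) (a (tau2 i)) := fun i => hσs₀ ▸ D.act ⟨s₀, hs₀O.1⟩ i
  -- a product of an interchanged pair is impossible
  have hpairs : ∀ i j : Fin 5, i < j → tau2 i < tau2 j → Cls z r (a i * a j) → tau2 i = i ∧ tau2 j = j := by
    intro i j hij hlt e
    have h1 : Cls z (s₀ * (a i * a j) * s₀⁻¹) (a (tau2 i) * a (tau2 j)) := by
      rw [show s₀ * (a i * a j) * s₀⁻¹ = (s₀ * a i * s₀⁻¹) * (s₀ * a j * s₀⁻¹) by group]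
      exact D.cls_mul (D.commQ (D.frame.mem _)).symm (hact i) (hact j)
    exact D.frame.pair _ _ _ _ hlt hij (D.frame.cls_trans (D.frame.cls_symm h1)
      (D.frame.cls_trans (D.frame.cls_trans (D.frame.cls_symm (D.cls_conj hs₀O.1 e)) hsr) e))
  have hnot : ¬ (r = z) := by
    intro e
    have hx : y * s₀ ∉ Q := fun h => by
      have := (D.ker ⟨y * s₀, mul_mem hy hs₀O.1⟩).2 h
      rw [show (⟨y * s₀, mul_mem hy hs₀O.1⟩ : Cz z) = ⟨y, hy⟩ * ⟨s₀, hs₀O.1⟩ from rfl, map_mul, hσ, hσs₀] at this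
      exact absurd this (by decide)
    have hsq : y * s₀ * (y * s₀) = z := by rw [← e, hr]; group
    have h1 := D.outer_of_sq (⟨hy, hyy, hyQ⟩ : Outer z Q y) (mul_mem hy hs₀O.1) hx (Or.inr hsq)
    exact D.frame.x2.ne (hsq.symm.trans h1)
  rcases hrR with e | e | e | e
  · rcases e with e | e
    · refine ⟨s₀, hs₀O.1, hs₀O.2.1, hσs₀, ?_⟩
      rw [e, mul_one] at hyr
      calc s₀ * y = (s₀ * y * s₀) * s₀ := by rw [mul_assoc (s₀ * y), hs₀O.2.1, mul_one]
        _ = y * s₀ := by rw [hyr]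
    · exact absurd (by rw [e, mul_one]) hnot
  · -- conjugate by a moved point
    set q := a 0 with hqdef
    have hqQ := D.frame.mem 0
    have hqinv : q⁻¹ = q := inv_eq_of_mul_eq_one_right (D.frame.sq 0)
    set s := q * s₀ * q⁻¹ with hs
    have hsO := D.outer_conj' hs₀O (D.le hqQ)
    have hσsq : σ ⟨s, hsO.1⟩ = tau2 := by
      have hq1 : σ ⟨q, D.le hqQ⟩ = 1 := (D.ker _).2 hqQ
      rw [show (⟨s, hsO.1⟩ : Cz z) = ⟨q, D.le hqQ⟩ * ⟨s₀, hs₀O.1⟩ * ⟨q, D.le hqQ⟩⁻¹ from rfl, map_mul, map_mul,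
        map_inv, hq1, hσs₀]
      group
    refine ⟨s, hsO.1, hsO.2.1, hσsq, ?_⟩
    -- compute `y (s y s)`
    have hw' := D.outer_conj' (⟨hy, hyy, hyQ⟩ : Outer z Q y) hsO.1
    set r' := y * (s * y * s⁻¹) with hr'
    have hr'cls : Cls z r' 1 := by
      set u := y * (q * y * q⁻¹) with hu
      have hu' : Cls z u (a 0 * a 1) := by
        rw [hu, show y * (q * y * q⁻¹) = (y * q * y⁻¹) * (y * y) * q⁻¹ by group, hyy, mul_one, hqinv, hqdef]
        exact D.frame.cls_trans (D.cls_mul (D.commQ (D.frame.mem _)).symm (D.std_act hy hyy hσ 0) (Or.inl rfl))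
          (D.cls_swap _ _)
      have hqy : q⁻¹ * y * q = y * u := by rw [hu, ← mul_assoc, hyy, one_mul, hqinv]
      have hu2 : Cls z (s₀ * u * s₀⁻¹) (a 2 * a 3) := by
        refine D.frame.cls_trans (D.cls_conj hs₀O.1 hu') ?_
        rw [show s₀ * (a 0 * a 1) * s₀⁻¹ = (s₀ * a 0 * s₀⁻¹) * (s₀ * a 1 * s₀⁻¹) by group]
        exact D.cls_mul (D.commQ (D.frame.mem _)).symm (hact 0) (hact 1)
      have hcomp : r' = u * (q * (r * (s₀ * u * s₀⁻¹)) * q⁻¹) := by
        calc r' = y * (q * (s₀ * (q⁻¹ * y * q) * s₀⁻¹) * q⁻¹) := by rw [hr', hs]; group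
          _ = y * (q * ((s₀ * y * s₀⁻¹) * (s₀ * u * s₀⁻¹)) * q⁻¹) := by rw [hqy]; group
          _ = y * (q * y * q⁻¹) * (q * (r * (s₀ * u * s₀⁻¹)) * q⁻¹) := by
              rw [hsinv, hyr]; group
          _ = _ := by rw [hu]
      rw [hcomp]
      have hm : ∀ i, Commute (a i) z := fun i => (D.commQ (D.frame.mem i)).symm
      have hconjq : ∀ {w : G}, w ∈ Q → Cls z (q * w * q⁻¹) w := fun {w} hw => D.frame.x2.conj_cases hqQ hw
      have h1 : Cls z (q * (r * (s₀ * u * s₀⁻¹)) * q⁻¹) (a 4 * (a 2 * a 3)) :=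
        D.frame.cls_trans (D.cls_conj (D.le hqQ) (D.cls_mul (hm 4) e hu2))
          (hconjq (mul_mem (D.frame.mem _) (mul_mem (D.frame.mem _) (D.frame.mem _))))
      refine D.frame.cls_trans (D.cls_mul ((hm 0).mul_left (hm 1)) hu' h1) ?_
      have h4c : Cls z (a 0 * a 1 * a 4) (a 4 * (a 0 * a 1)) := by
        rcases D.frame.x2.conj_cases (mul_mem (D.frame.mem 0) (D.frame.mem 1)) (D.frame.mem 4) with h | h
        · exact Or.inl (mul_inv_eq_iff_eq_mul.mp h)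
        · exact Or.inr (by rw [mul_inv_eq_iff_eq_mul.mp h, mul_assoc z])
      refine D.frame.cls_trans (x := a 4 * (a 0 * a 1 * (a 2 * a 3))) ?_
        (D.frame.cls_trans (D.cls_mul (hm 4) (Or.inl rfl) (D.frame.cls_symm (D.frame.sum 4 0 1 2 3 (by decide))))
          (Or.inl (D.frame.sq 4)))
      rw [← mul_assoc, ← mul_assoc (a 4)]
      exact D.cls_mul ((hm 4).mul_left ((hm 0).mul_left (hm 1))) h4c (Or.inl rfl)
    have hsinv' : s⁻¹ = s := inv_eq_of_mul_eq_one_right hsO.2.1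
    have hys : y * s ∉ Q := fun h => by
      have := (D.ker ⟨y * s, mul_mem hy hsO.1⟩).2 h
      rw [show (⟨y * s, mul_mem hy hsO.1⟩ : Cz z) = ⟨y, hy⟩ * ⟨s, hsO.1⟩ from rfl, map_mul, hσ, hσsq] at this
      exact absurd this (by decide)
    have hsq1 : y * s * (y * s) = r' := by rw [hr', hsinv']; group
    have hsq' : y * s * (y * s) = 1 ∨ y * s * (y * s) = z := by
      rw [hsq1]
      rcases hr'cls with e' | e'
      · exact Or.inl e'
      · exact Or.inr (by rw [e', mul_one])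
    have h1 := D.outer_of_sq (⟨hy, hyy, hyQ⟩ : Outer z Q y) (mul_mem hy hsO.1) hys hsq'
    calc s * y = y * (y * s * (y * s)) * s := by
          rw [show y * (y * s * (y * s)) * s = (y * y) * s * y * (s * s) by group, hyy, hsO.2.1, one_mul, mul_one]
      _ = y * s := by rw [h1, mul_one]
  · exact absurd (hpairs 0 1 (by decide) (by decide) e).1 (by decide)
  · exfalso
    have h1 : Cls z (s₀ * (a 2 * a 3) * s₀⁻¹) (a 0 * a 1) := by
      rw [show s₀ * (a 2 * a 3) * s₀⁻¹ = (s₀ * a 2 * s₀⁻¹) * (s₀ * a 3 * s₀⁻¹) by group]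
      exact D.cls_mul (D.commQ (D.frame.mem _)).symm (hact 2) (hact 3)
    have := D.frame.pair 0 1 2 3 (by decide) (by decide) (D.frame.cls_trans (D.frame.cls_symm h1)
      (D.frame.cls_trans (D.frame.cls_trans (D.frame.cls_symm (D.cls_conj hs₀O.1 e)) hsr) e))
    exact absurd this.1 (by decide)

end Data

end Cfsg.Lib.HallJankoType
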