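import Cfsg.Agent.SolvStruct.AltAut
import Cfsg.Agent.LocalThree.HallJankoType.Involutions

/-!
Facts about the alternating group of degree five.
-/

set_option autoImplicit false

namespace Cfsg.Lib.HallJankoType

open Equiv

theorem perm_cent_std : ∀ σ : Perm (Fin 5), σ * tau1 = tau1 * σ → σ ≠ 1 → ∀ b : Perm (Fin 5),
    b * b * b = 1 → σ * b = b * σ → b * tau1 * b⁻¹ * tau1 = tau1 * (b * tau1 * b⁻¹) → b * tau1 * b⁻¹ = tau1 := by
  decide +kernel

theorem perm_cent_four {σ a b : Perm (Fin 5)} (hσ : σ ≠ 1) (ha : σ * a = a * σ) (haa : a * a = 1) (ha1 : a ≠ 1)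
    (hs : Perm.sign a = 1) (hb : σ * b = b * σ) (h3 : b * b * b = 1)
    (hc : b * a * b⁻¹ * a = a * (b * a * b⁻¹)) : b * a * b⁻¹ = a := by
  obtain ⟨ρ, -, hρ⟩ := perm_std a hs haa ha1
  refine (MulAut.conj ρ).injective ?_
  have h := perm_cent_std (MulAut.conj ρ σ) ?_ ?_ (MulAut.conj ρ b) ?_ ?_ ?_
  · rw [map_mul, map_mul, map_inv, show MulAut.conj ρ a = tau1 from hρ]
    exact h
  · rw [← show MulAut.conj ρ a = tau1 from hρ, ← map_mul, ha, map_mul]
  · rwa [ne_eq, map_eq_one_iff _ (MulAut.conj ρ).injective]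
  · rw [← map_mul, ← map_mul, h3, map_one]
  · rw [← map_mul, hb, map_mul]
  · simp only [← show MulAut.conj ρ a = tau1 from hρ, ← map_inv, ← map_mul, hc]

theorem perm_three : ∀ t : Perm (Fin 5), t * t * t = 1 → t ≠ 1 → t.support.card = 3 := by decide +kernel

/-- the solutions of `x * x = 1` in the alternating group -/
def invList : List (Perm (Fin 5)) :=
  [1, swap 1 2 * swap 3 4, swap 1 3 * swap 2 4, swap 1 4 * swap 2 3, swap 0 1 * swap 3 4, swap 0 1 * swap 2 3, swap 0 1 * swap 2 4, swap 0 2 * swap 3 4, swap 0 2 * swap 1 3, swap 0 2 * swap 1 4, swap 0 3 * swap 2 4, swap 0 3 * swap 1 2, swap 0 3 * swap 1 4, swap 0 4 * swap 2 3, swap 0 4 * swap 1 2, swap 0 4 * swap 1 3]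

theorem invList_spec : ∀ p : Perm (Fin 5), (p * p = 1 ∧ Perm.sign p = 1) ↔ p ∈ invList := by decide +kernel

theorem invList_pairs : ((invList.toFinset ×ˢ invList.toFinset).filter fun p =>
    p.1 ≠ 1 ∧ (p.1 * p.2) ^ 15 = 1).card = 195 := by decide +kernel

theorem alt_five_pairs : Nat.card {p : alternatingGroup (Fin 5) × alternatingGroup (Fin 5) //
    p.1 * p.1 = 1 ∧ p.1 ≠ 1 ∧ p.2 * p.2 = 1 ∧ (p.1 * p.2) ^ 15 = 1} = 195 := by
  rw [← invList_pairs, ← Fintype.card_coe, Nat.card_eq_fintype_card]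
  refine Fintype.card_congr
    { toFun := fun p => ⟨(p.1.1.1, p.1.2.1), ?_⟩
      invFun := fun p => ⟨(⟨p.1.1, ?_⟩, ⟨p.1.2, ?_⟩), ?_⟩
      left_inv := fun p => rfl
      right_inv := fun p => rfl }
  · obtain ⟨h1, h2, h3, h4⟩ := p.2
    simp only [Finset.mem_filter, Finset.mem_product, List.mem_toFinset, ← invList_spec]
    exact ⟨⟨⟨congrArg Subtype.val h1, p.1.1.2⟩, congrArg Subtype.val h3, p.1.2.2⟩,
      fun e => h2 (Subtype.ext e), congrArg Subtype.val h4⟩
  · have h := p.2
    simp only [Finset.mem_filter, Finset.mem_product, List.mem_toFinset, ← invList_spec] at h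
    exact h.1.1.2
  · have h := p.2
    simp only [Finset.mem_filter, Finset.mem_product, List.mem_toFinset, ← invList_spec] at h
    exact h.1.2.2
  · have h := p.2
    simp only [Finset.mem_filter, Finset.mem_product, List.mem_toFinset, ← invList_spec] at h
    exact ⟨Subtype.ext h.1.1.1, fun e => h.2.1 (congrArg Subtype.val e), Subtype.ext h.1.2.1, Subtype.ext h.2.2⟩

/-- An automorphism of `A₅` fixing a four-group and an element of order three normalising it is trivial. -/
theorem alt_five_aut {φ : MulAut (alternatingGroup (Fin 5))} {a b : alternatingGroup (Fin 5)}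
    (ha : a * a = 1) (ha1 : a ≠ 1) (hb : b * b * b = 1) (hc : b * a * b⁻¹ * a = a * (b * a * b⁻¹))
    (hne : b * a * b⁻¹ ≠ a) (fa : φ a = a) (fb : φ b = b) : φ = 1 := by
  obtain ⟨σ, rfl⟩ := Cfsg.Lib.SolvStruct.AltAut.exists_conjNormal_eq (n := 5) (by norm_num) φ fun t ht => by
    rw [← card_support_eq_three_iff]
    have h3 : t * t * t = 1 := Subtype.ext (by
      have h := pow_orderOf_eq_one (t : Perm (Fin 5))
      rw [ht.orderOf, pow_succ, pow_two] at h
      exact h)
    refine perm_three _ (congrArg Subtype.val (show φ t * φ t * φ t = 1 by rw [← map_mul, ← map_mul, h3, map_one])) ?_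
    intro e
    have e' : φ t = 1 := Subtype.ext e
    rw [map_eq_one_iff φ φ.injective] at e'
    exact ht.isCycle.ne_one (congrArg Subtype.val e')
  have hcomm : ∀ x : alternatingGroup (Fin 5), MulAut.conjNormal σ x = x → σ * x = x * σ := fun x hx => by
    have := congrArg Subtype.val hx
    rw [MulAut.conjNormal_apply] at this
    exact mul_inv_eq_iff_eq_mul.1 this
  by_cases hσ : σ = 1
  · rw [hσ, map_one]
  · exact absurd (Subtype.ext (perm_cent_four hσ (hcomm a fa) (congrArg Subtype.val ha)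
      (fun e => ha1 (Subtype.ext e)) (Equiv.Perm.mem_alternatingGroup.1 a.2) (hcomm b fb) (congrArg Subtype.val hb)
      (congrArg Subtype.val hc))) hne

end Cfsg.Lib.HallJankoType
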