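import Cfsg.Agent.InvolCalc.Dihedral
import Mathlib.GroupTheory.GroupAction.ConjAct

/-!
The Thompson order formula for two classes of involutions.
-/

set_option autoImplicit false
set_option linter.unusedSectionVars false

namespace Cfsg.Lib.HallJankoType

open Subgroup

variable {G : Type*} [Group G] [Finite G]

/-- the central involution of the dihedral group generated by a pair -/
noncomputable def pairInvol (x y : G) : G := (x * y) ^ (orderOf (x * y) / 2)

/-- pairs from the classes of `z` and `t` with central involution `u` -/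
def PairSet (z t u : G) : Set (G × G) := {p | IsConj z p.1 ∧ IsConj t p.2 ∧ pairInvol p.1 p.2 = u}

theorem pairInvol_conj (g x y : G) : pairInvol (g * x * g⁻¹) (g * y * g⁻¹) = g * pairInvol x y * g⁻¹ := by
  have h : g * x * g⁻¹ * (g * y * g⁻¹) = MulAut.conj g (x * y) := by simp [mul_assoc]
  rw [pairInvol, h, MulEquiv.orderOf_eq, ← map_pow]
  rfl

theorem order_two_of_conj {x y : G} (hx : orderOf x = 2) (h : IsConj x y) : orderOf y = 2 := by
  obtain ⟨g, rfl⟩ := isConj_iff.1 h
  rw [← hx]
  exact MulEquiv.orderOf_eq (MulAut.conj g) x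

theorem even_of_not_conj {x y : G} (hx : orderOf x = 2) (hy : orderOf y = 2) (h : ¬ IsConj x y) :
    Even (orderOf (x * y)) := by
  by_contra he
  obtain ⟨d, -, hd⟩ := Cfsg.Lib.InvolCalc.conj_of_odd hx hy (Nat.not_even_iff_odd.1 he)
  exact h (isConj_iff.2 ⟨d, hd⟩)

theorem card_class_mul (z : G) : Nat.card {x // IsConj z x} * Nat.card (centralizer ({z} : Set G)) = Nat.card G := by
  have key : ∀ g g' : G, g⁻¹ * g' ∈ centralizer ({z} : Set G) ↔ g * z * g⁻¹ = g' * z * g'⁻¹ := fun g g' => by
    rw [mem_centralizer_singleton_iff, mul_inv_eq_iff_eq_mul]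
    constructor
    · intro h
      calc g * z = g * (z * (g⁻¹ * g')) * g'⁻¹ * g := by group
        _ = g' * z * g'⁻¹ * g := by rw [← h]; group
    · intro h
      calc g⁻¹ * g' * z = g⁻¹ * (g' * z * g'⁻¹ * g) * g⁻¹ * g' := by group
        _ = z * (g⁻¹ * g') := by rw [← h]; group
  let f : G ⧸ centralizer ({z} : Set G) → {x // IsConj z x} :=
    Quotient.lift (fun g : G => (⟨g * z * g⁻¹, isConj_iff.2 ⟨g, rfl⟩⟩ : {x // IsConj z x}))
      fun g g' h => Subtype.ext ((key g g').1 (QuotientGroup.leftRel_apply.1 h))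
  have hf : Function.Bijective f := by
    constructor
    · intro x y
      induction x using Quotient.inductionOn with
      | _ g => induction y using Quotient.inductionOn with
        | _ g' => exact fun h => Quotient.sound (QuotientGroup.leftRel_apply.2 ((key g g').2 (congrArg Subtype.val h)))
    · rintro ⟨x, hx⟩
      obtain ⟨g, rfl⟩ := isConj_iff.1 hx
      exact ⟨Quotient.mk'' g, rfl⟩
  rw [← Nat.card_congr (Equiv.ofBijective f hf), ← card_eq_card_quotient_mul_card_subgroup]

theorem pairSet_card_conj (z t : G) {u v : G} (h : IsConj u v) :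
    Nat.card (PairSet z t u) = Nat.card (PairSet z t v) := by
  obtain ⟨g, rfl⟩ := isConj_iff.1 h
  refine Nat.card_congr
    { toFun := fun p => ⟨(g * p.1.1 * g⁻¹, g * p.1.2 * g⁻¹), p.2.1.trans (isConj_iff.2 ⟨g, rfl⟩),
        p.2.2.1.trans (isConj_iff.2 ⟨g, rfl⟩), by rw [pairInvol_conj, p.2.2.2]⟩
      invFun := fun p => ⟨(g⁻¹ * p.1.1 * g⁻¹⁻¹, g⁻¹ * p.1.2 * g⁻¹⁻¹), p.2.1.trans (isConj_iff.2 ⟨g⁻¹, rfl⟩),
        p.2.2.1.trans (isConj_iff.2 ⟨g⁻¹, rfl⟩), by rw [pairInvol_conj, p.2.2.2]; group⟩
      left_inv := fun p => Subtype.ext (Prod.ext (by simp [mul_assoc]) (by simp [mul_assoc]))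
      right_inv := fun p => Subtype.ext (Prod.ext (by simp [mul_assoc]) (by simp [mul_assoc])) }

theorem two_class_formula {z t : G} (hz : orderOf z = 2) (ht : orderOf t = 2) (hzt : ¬ IsConj z t)
    (hcls : ∀ x : G, orderOf x = 2 → IsConj z x ∨ IsConj t x) :
    Nat.card G = Nat.card (PairSet z t z) * Nat.card (centralizer ({t} : Set G)) +
      Nat.card (PairSet z t t) * Nat.card (centralizer ({z} : Set G)) := by
  classical
  letI := Fintype.ofFinite G
  set Az := Nat.card (PairSet z t z) with hAz
  set At := Nat.card (PairSet z t t) with hAt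
  set nz := Nat.card {x // IsConj z x} with hnz
  set nt := Nat.card {x // IsConj t x} with hnt
  set S : Finset (G × G) := Finset.univ.filter fun p => IsConj z p.1 ∧ IsConj t p.2 with hS
  set I : Finset G := Finset.univ.filter fun u => IsConj z u ∨ IsConj t u with hI
  have hmaps : ∀ p ∈ S, pairInvol p.1 p.2 ∈ I := by
    intro p hp
    simp only [hS, Finset.mem_filter, Finset.mem_univ, true_and] at hp
    have h1 := order_two_of_conj hz hp.1
    have h2 := order_two_of_conj ht hp.2
    have he := even_of_not_conj h1 h2 fun e => hzt ((hp.1.trans e).trans hp.2.symm)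
    simp only [hI, Finset.mem_filter, Finset.mem_univ, true_and]
    exact hcls _ (Cfsg.Lib.InvolCalc.central_spec h1 h2 he).1
  have hfib : ∀ u, (S.filter fun p => pairInvol p.1 p.2 = u).card = Nat.card (PairSet z t u) := fun u => by
    rw [Nat.card_coe_set_eq, ← Set.ncard_coe_finset]
    congr 1
    ext p
    simp only [hS, PairSet, Finset.coe_filter, Finset.mem_filter, Finset.mem_univ, true_and, Set.mem_setOf_eq, and_assoc]
  have hsum := Finset.card_eq_sum_card_fiberwise hmaps
  simp only [hfib] at hsum
  have hScard : S.card = nz * nt := by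
    rw [hnz, hnt, Nat.card_eq_fintype_card, Nat.card_eq_fintype_card, Fintype.card_subtype, Fintype.card_subtype,
      ← Finset.card_product]
    congr 1
    ext p
    simp [hS]
  have hIeq : I = (Finset.univ.filter fun u => IsConj z u) ∪ (Finset.univ.filter fun u => IsConj t u) := by
    ext u
    simp [hI]
  have hdisj : Disjoint (Finset.univ.filter fun u => IsConj z u) (Finset.univ.filter fun u => IsConj t u) :=
    Finset.disjoint_filter.2 fun u _ h1 h2 => hzt (h1.trans h2.symm)
  rw [hIeq, Finset.sum_union hdisj, hScard] at hsum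
  have s1 : ∑ u ∈ Finset.univ.filter (fun u => IsConj z u), Nat.card (PairSet z t u) = nz * Az := by
    rw [Finset.sum_eq_card_nsmul (b := Az) fun u hu => ?_, smul_eq_mul, hnz, Nat.card_eq_fintype_card, Fintype.card_subtype]
    exact (pairSet_card_conj z t (Finset.mem_filter.1 hu).2).symm
  have s2 : ∑ u ∈ Finset.univ.filter (fun u => IsConj t u), Nat.card (PairSet z t u) = nt * At := by
    rw [Finset.sum_eq_card_nsmul (b := At) fun u hu => ?_, smul_eq_mul, hnt, Nat.card_eq_fintype_card, Fintype.card_subtype]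
    exact (pairSet_card_conj z t (Finset.mem_filter.1 hu).2).symm
  rw [s1, s2] at hsum
  have hcz := card_class_mul z
  have hct := card_class_mul t
  set cz := Nat.card (centralizer ({z} : Set G))
  set ct := Nat.card (centralizer ({t} : Set G))
  have hpos : 0 < nz * nt := by
    have : Nonempty {x // IsConj z x} := ⟨⟨z, IsConj.refl z⟩⟩
    have : Nonempty {x // IsConj t x} := ⟨⟨t, IsConj.refl t⟩⟩
    exact Nat.mul_pos Nat.card_pos Nat.card_pos
  refine Nat.eq_of_mul_eq_mul_left hpos ?_
  calc nz * nt * Nat.card G = (nz * Az + nt * At) * Nat.card G := by rw [hsum]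
    _ = nz * Az * (nt * ct) + nt * At * (nz * cz) := by rw [hcz, hct]; ring
    _ = _ := by ring

end Cfsg.Lib.HallJankoType
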