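import Cfsg.Agent.LocalThree.HallJankoType.SylowFive
import Cfsg.Agent.LocalThree.DihedralEightGeneral

/-!
The centralizer of an element of order three commuting with `z`: modulo that element it has order 168 or 360.
-/

set_option autoImplicit false
set_option linter.unusedSectionVars false
set_option linter.style.haveILetI false

namespace Cfsg.Lib.HallJankoType

open Subgroup Equiv

universe u

variable {G : Type u} [Group G] [Finite G] {z : G} {Q : Subgroup G} {a : Fin 5 → G} {σ : Cz z →* Perm (Fin 5)}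

theorem perm_to_cyc3 : ∀ ρ : Perm (Fin 5), ρ ^ 3 = 1 → ρ ≠ 1 →
    ∃ π : Perm (Fin 5), Perm.sign π = 1 ∧ π * ρ * π⁻¹ = cyc3 := by decide +kernel

theorem cyc3_fixed : ∀ i, cyc3 i = i → i = 3 ∨ i = 4 := by decide +kernel

theorem cyc3_pair : ∀ i j : Fin 5, i < j → ((cyc3 i = i ∧ cyc3 j = j) ∨ (cyc3 i = j ∧ cyc3 j = i)) → i = 3 ∧ j = 4 := by
  decide +kernel

theorem card_sl3 : Nat.card (Matrix.SpecialLinearGroup (Fin 3) (ZMod 2)) = 168 := by
  rw [Nat.card_eq_fintype_card]; decide +kernel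

theorem card_cent_transposition (n : ℕ) (e : ℕ) (π : Perm (Fin n))
    (h : (Finset.univ.filter fun g : Perm (Fin n) => g * π = π * g).card = e) :
    Nat.card (centralizer ({π} : Set (Perm (Fin n)))) = e := by
  rw [← h, ← Fintype.card_coe, ← Nat.card_eq_fintype_card]
  exact Nat.card_congr (Equiv.subtypeEquivRight fun g => by simp [mem_centralizer_singleton_iff])

theorem four_trans : (Finset.univ.filter fun g : Perm (Fin 4) => g * swap 0 1 = swap 0 1 * g).card = 4 := by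
  decide +kernel

theorem five_trans : (Finset.univ.filter fun g : Perm (Fin 5) => g * swap 0 1 = swap 0 1 * g).card = 12 := by
  decide +kernel

theorem transposition_ne_eight {n e : ℕ} (hn : 2 ≤ n) {L : Type*} [Group L] [Finite L] (ψ : L ≃* Perm (Fin n))
    (π : Perm (Fin n)) (hπ : orderOf π = 2)
    (hc : (Finset.univ.filter fun g : Perm (Fin n) => g * π = π * g).card = e) (he : e ≠ 8)
    (hall : ∀ v : L, orderOf v = 2 → Nat.card (centralizer ({v} : Set L)) = 8) : False := by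
  refine he ?_
  rw [← card_cent_transposition n e π hc, ← hall (ψ.symm π) (by rw [MulEquiv.orderOf_eq, hπ])]
  refine Nat.card_congr (ψ.symm.toEquiv.subtypeEquiv fun g => ?_)
  rw [mem_centralizer_singleton_iff, mem_centralizer_singleton_iff]
  show _ ↔ ψ.symm g * ψ.symm π = ψ.symm π * ψ.symm g
  rw [← map_mul, ← map_mul, ψ.symm.injective.eq_iff]

namespace Data

variable (D : Data z Q a σ)
include D

theorem cyc_ne : a 3 * a 4 ≠ a 4 * a 3 := fun e => by
  have := D.frame.anti 3 4 (by decide)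
  rw [← e] at this
  exact D.frame.x2.ne (mul_eq_right.mp this.symm)

theorem cent_cyc3 {h : G} (hh : h ∈ Cz z) (o3 : orderOf h = 3) (hσ : σ ⟨h, hh⟩ = cyc3) :
    Commute h (a 3) ∧ Commute h (a 4) ∧
      ∀ c ∈ Cz z, Commute c h → ∃ q, ∃ i : ℕ, c = q * h ^ i ∧
        (Cls z q 1 ∨ Cls z q (a 3) ∨ Cls z q (a 4) ∨ Cls z q (a 3 * a 4)) := by
  have hodd : Odd (orderOf h) := by rw [o3]; decide
  have hfix : ∀ j, cyc3 j = j → Commute h (a j) := by
    intro j hj
    have h0 := D.act ⟨h, hh⟩ j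
    rw [hσ, hj] at h0
    change Cls z (h * a j * h⁻¹) (a j) at h0
    have hc2 : Commute (h ^ 2 ^ 1) (a j) := by
      have e2 : h ^ 2 * a j * (h ^ 2)⁻¹ = h * (h * a j * h⁻¹) * h⁻¹ := by simp [pow_two, mul_assoc]
      refine mul_inv_eq_iff_eq_mul.1 ?_
      rw [pow_one, e2]
      rcases h0 with h0 | h0
      · rw [h0, h0]
      · rw [h0, ← mul_assoc h z, (D.commC hh).eq, show z * h * a j * h⁻¹ = z * (h * a j * h⁻¹) by group, h0,
          ← mul_assoc, D.zz, one_mul]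
    exact Cfsg.Lib.LargeExtra.commute_of_pow (n := 1) hodd hc2
  refine ⟨hfix 3 (by decide +kernel), hfix 4 (by decide +kernel), fun c hc hch => ?_⟩
  have hρ3 : cyc3 ^ 3 = 1 := by decide +kernel
  obtain ⟨i, hi⟩ := perm_three_cent cyc3 hρ3 (by decide +kernel) (σ ⟨c, hc⟩)
    (by rw [← hσ, ← map_mul, ← map_mul]; exact congrArg σ (Subtype.ext hch.eq)) (D.sign _)
  set q := c * (h ^ (i : ℕ))⁻¹ with hq
  have hqC : q ∈ Cz z := mul_mem hc (inv_mem (pow_mem hh _))
  have hqQ : q ∈ Q := (D.ker ⟨q, hqC⟩).1 (by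
    rw [show (⟨q, hqC⟩ : Cz z) = ⟨c, hc⟩ * (⟨h, hh⟩ ^ (i : ℕ))⁻¹ from rfl, map_mul, map_inv, map_pow, hσ, hi, mul_inv_cancel])
  have hqh : Commute h q := by rw [hq]; exact hch.symm.mul_right ((Commute.refl h).pow_right _).inv_right
  have hfq : h * q * h⁻¹ = q := by rw [hqh.eq, mul_inv_cancel_right]
  refine ⟨q, i, by rw [hq, inv_mul_cancel_right], ?_⟩
  rcases D.frame.cls q hqQ with e | ⟨j, e⟩ | ⟨j, l, hjl, e⟩
  · exact Or.inl e
  · have h1 : cyc3 j = j := by
      refine D.frame.unique (q := q) ?_ e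
      have := D.frame.cls_trans (hfq ▸ D.cls_conj hh e) (D.act ⟨h, hh⟩ j)
      rwa [hσ] at this
    rcases cyc3_fixed j h1 with rfl | rfl
    exacts [Or.inr (Or.inl e), Or.inr (Or.inr (Or.inl e))]
  · have hc2 : Cls z (a j * a l) (a (cyc3 j) * a (cyc3 l)) := by
      refine D.frame.cls_trans (D.frame.cls_symm e) (D.frame.cls_trans (hfq ▸ D.cls_conj hh e) ?_)
      rw [show h * (a j * a l) * h⁻¹ = h * a j * h⁻¹ * (h * a l * h⁻¹) by group, ← hσ]
      exact D.cls_mul (D.commC (D.le (D.frame.mem _))) (D.act ⟨h, hh⟩ j) (D.act ⟨h, hh⟩ l)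
    obtain ⟨rfl, rfl⟩ := cyc3_pair j l hjl (by
      rcases lt_trichotomy (cyc3 j) (cyc3 l) with h' | h' | h'
      · obtain ⟨h1, h2⟩ := D.frame.pair _ _ _ _ hjl h' hc2
        exact Or.inl ⟨h1.symm, h2.symm⟩
      · exact absurd (cyc3.injective h') hjl.ne
      · obtain ⟨h1, h2⟩ := D.frame.pair _ _ _ _ hjl h' (D.frame.cls_trans hc2 (D.cls_swap _ _))
        exact Or.inr ⟨h2.symm, h1.symm⟩)
    exact Or.inr (Or.inr (Or.inr e))

theorem exists_std_three {h : G} (hh : h ∈ Cz z) (o3 : orderOf h = 3) :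
    ∃ c ∈ Cz z, ∃ hh' : c * h * c⁻¹ ∈ Cz z, orderOf (c * h * c⁻¹) = 3 ∧ σ ⟨c * h * c⁻¹, hh'⟩ = cyc3 := by
  have h3 : σ ⟨h, hh⟩ ^ 3 = 1 := by
    rw [← map_pow, show (⟨h, hh⟩ : Cz z) ^ 3 = 1 from
      Subtype.ext (by rw [SubmonoidClass.coe_pow, ← o3]; exact pow_orderOf_eq_one h), map_one]
  have h1 : σ ⟨h, hh⟩ ≠ 1 := fun e => by
    have hQ : h ∈ Q := (D.ker _).1 e
    have := orderOf_dvd_natCard (⟨h, hQ⟩ : Q)
    rw [Subgroup.orderOf_mk, o3, D.frame.card] at this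
    norm_num at this
  obtain ⟨π, hπ, e⟩ := perm_to_cyc3 _ h3 h1
  obtain ⟨c, rfl⟩ := D.surj π hπ
  refine ⟨c, c.2, (c * ⟨h, hh⟩ * c⁻¹ : Cz z).2, ?_, ?_⟩
  · rw [show (c : G) * h * (c : G)⁻¹ = MulAut.conj (c : G) h from rfl, MulEquiv.orderOf_eq, o3]
  · rw [show (⟨(c : G) * h * (c : G)⁻¹, (c * ⟨h, hh⟩ * c⁻¹ : Cz z).2⟩ : Cz z) = c * ⟨h, hh⟩ * c⁻¹ from rfl, map_mul,
      map_mul, map_inv, e]

theorem eight {q : G} : (Cls z q 1 ∨ Cls z q (a 3) ∨ Cls z q (a 4) ∨ Cls z q (a 3 * a 4)) →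
    q = 1 ∨ q = a 3 * a 4 ∨ q = z ∨ q = (a 3 * a 4)⁻¹ ∨ q = a 3 ∨ q = a 3 * (a 3 * a 4) ∨ q = a 3 * z ∨
      q = a 3 * (a 3 * a 4)⁻¹ := by
  have i3 := inv_eq_of_mul_eq_one_right (D.frame.sq 3)
  have i4 := inv_eq_of_mul_eq_one_right (D.frame.sq 4)
  have hri : (a 3 * a 4)⁻¹ = z * (a 3 * a 4) := by rw [mul_inv_rev, i3, i4, D.frame.anti 3 4 (by decide)]
  have hz3 : a 3 * z = z * a 3 := D.frame.z_ai 3
  rintro ((e | e) | (e | e) | (e | e) | (e | e))
  · exact Or.inl e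
  · exact Or.inr (Or.inr (Or.inl (by rw [e, mul_one])))
  · exact Or.inr (Or.inr (Or.inr (Or.inr (Or.inl e))))
  · exact Or.inr (Or.inr (Or.inr (Or.inr (Or.inr (Or.inr (Or.inl (by rw [e, hz3])))))))
  · exact Or.inr (Or.inr (Or.inr (Or.inr (Or.inr (Or.inl (by rw [e, ← mul_assoc, D.frame.sq, one_mul]))))))
  · refine Or.inr (Or.inr (Or.inr (Or.inr (Or.inr (Or.inr (Or.inr ?_))))))
    rw [e, hri, ← mul_assoc, hz3, mul_assoc, ← mul_assoc (a 3), D.frame.sq, one_mul]
  · exact Or.inr (Or.inl e)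
  · exact Or.inr (Or.inr (Or.inr (Or.inl (e.trans hri.symm))))

theorem card_cent_three {h : G} (hh : h ∈ Cz z) (o3 : orderOf h = 3) : Nat.card ↥(Cz h ⊓ Cz z) = 24 := by
  classical
  obtain ⟨c, hc, hh', o3', hσ⟩ := D.exists_std_three hh o3
  set k := c * h * c⁻¹ with hk
  have e : Nat.card ↥(Cz h ⊓ Cz z) = Nat.card ↥(Cz k ⊓ Cz z) := by
    have hcz : c * z * c⁻¹ = z := mul_inv_eq_iff_eq_mul.2 (D.commC hc).eq
    refine Nat.card_congr ((MulAut.conj c).toEquiv.subtypeEquiv fun x => ?_)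
    show x ∈ Cz h ⊓ Cz z ↔ c * x * c⁻¹ ∈ Cz k ⊓ Cz z
    rw [mem_inf, mem_inf, mem_Cz, mem_Cz, mem_Cz, mem_Cz, ← Commute.conj_iff c (a := x) (b := h)]
    conv_lhs => arg 2; rw [← Commute.conj_iff c, hcz]
  rw [e]
  obtain ⟨c3, c4, hlist⟩ := D.cent_cyc3 hh' o3' hσ
  have hD : ∀ q, (Cls z q 1 ∨ Cls z q (a 3) ∨ Cls z q (a 4) ∨ Cls z q (a 3 * a 4)) → q ∈ Cz k ⊓ Cz z ∧ q ∈ Q := by
    intro q hq
    have hkz : Commute k z := D.commC hh'
    have hbase : ∀ x, (x = 1 ∨ x = a 3 ∨ x = a 4 ∨ x = a 3 * a 4) → Commute x k ∧ x ∈ Q := by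
      rintro x (rfl | rfl | rfl | rfl)
      exacts [⟨Commute.one_left k, one_mem Q⟩, ⟨c3.symm, D.frame.mem 3⟩, ⟨c4.symm, D.frame.mem 4⟩,
        ⟨c3.symm.mul_left c4.symm, mul_mem (D.frame.mem 3) (D.frame.mem 4)⟩]
    obtain ⟨x, hx, hqx⟩ : ∃ x, (x = 1 ∨ x = a 3 ∨ x = a 4 ∨ x = a 3 * a 4) ∧ Cls z q x := by
      rcases hq with r | r | r | r
      exacts [⟨1, Or.inl rfl, r⟩, ⟨_, Or.inr (Or.inl rfl), r⟩, ⟨_, Or.inr (Or.inr (Or.inl rfl)), r⟩,
        ⟨_, Or.inr (Or.inr (Or.inr rfl)), r⟩]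
    obtain ⟨hxk, hxQ⟩ := hbase x hx
    rcases hqx with rfl | rfl
    · exact ⟨⟨mem_Cz.2 hxk, D.le hxQ⟩, hxQ⟩
    · exact ⟨⟨mem_Cz.2 (hkz.symm.mul_left hxk), D.le (mul_mem D.frame.x2.mem hxQ)⟩, mul_mem D.frame.x2.mem hxQ⟩
  let pts : Bool → Fin 4 → G := fun b i => (if b then z else 1) * ![1, a 3, a 4, a 3 * a 4] i
  have hcls : ∀ b i, Cls z (pts b i) (![1, a 3, a 4, a 3 * a 4] i) := fun b i => by cases b <;> simp [pts, Cls]
  have hok : ∀ b i, Cls z (pts b i) 1 ∨ Cls z (pts b i) (a 3) ∨ Cls z (pts b i) (a 4) ∨ Cls z (pts b i) (a 3 * a 4) :=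
    fun b i => by
      have := hcls b i
      fin_cases i
      exacts [Or.inl this, Or.inr (Or.inl this), Or.inr (Or.inr (Or.inl this)), Or.inr (Or.inr (Or.inr this))]
  have hkin : ∀ i : ℕ, k ^ i ∈ Cz k ⊓ Cz z := fun i => ⟨mem_Cz.2 ((Commute.refl k).pow_left i), pow_mem hh' i⟩
  let f : (Bool × Fin 4) × Fin 3 → ↥(Cz k ⊓ Cz z) := fun p =>
    ⟨pts p.1.1 p.1.2 * k ^ (p.2 : ℕ), mul_mem (hD _ (hok _ _)).1 (hkin _)⟩
  have hf : Function.Bijective f := by
    constructor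
    · rintro ⟨⟨b, i⟩, n⟩ ⟨⟨b', i'⟩, n'⟩ he
      have e1 : pts b i * k ^ (n : ℕ) = pts b' i' * k ^ (n' : ℕ) := congrArg Subtype.val he
      have hσn : cyc3 ^ (n : ℕ) = cyc3 ^ (n' : ℕ) := by
        have h1 := congrArg σ (Subtype.ext e1 :
          (⟨pts b i, D.le (hD _ (hok b i)).2⟩ : Cz z) * ⟨k, hh'⟩ ^ (n : ℕ) =
            ⟨pts b' i', D.le (hD _ (hok b' i')).2⟩ * ⟨k, hh'⟩ ^ (n' : ℕ))
        rwa [map_mul, map_mul, (D.ker ⟨pts b i, D.le (hD _ (hok b i)).2⟩).2 (hD _ (hok b i)).2,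
          (D.ker ⟨pts b' i', D.le (hD _ (hok b' i')).2⟩).2 (hD _ (hok b' i')).2, one_mul, one_mul,
          map_pow, map_pow, hσ] at h1
      obtain rfl : n = n' := (by decide +kernel : ∀ n n' : Fin 3, cyc3 ^ (n : ℕ) = cyc3 ^ (n' : ℕ) → n = n') n n' hσn
      have e2 := mul_right_cancel e1
      have hij : i = i' := by
        have hc : Cls z (![1, a 3, a 4, a 3 * a 4] i) (![1, a 3, a 4, a 3 * a 4] i') :=
          D.frame.cls_trans (D.frame.cls_symm (hcls b i)) (e2 ▸ hcls b' i')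
        have n3 := D.frame.ne1 3
        have n4 := D.frame.ne1 4
        have n34 := D.frame.inj 3 4 (by decide)
        have m1 : ∀ j : Fin 5, (j = 3 ∨ j = 4) → ¬ Cls z (a 3 * a 4) (a j) := by
          intro j hj hc'
          have hm : ∀ j, Commute (a j) z := fun j => (D.commQ (D.frame.mem j)).symm
          rcases hj with rfl | rfl
          · rcases hc' with r | r
            · exact D.frame.ne1 4 (Or.inl (mul_eq_left.mp r))
            · exact D.frame.ne1 4 (Or.inr (by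
                rw [mul_one]; exact mul_left_cancel (r.trans (hm 3).eq.symm)))
          · rcases hc' with r | r
            · exact D.frame.ne1 3 (Or.inl (mul_eq_right.mp r))
            · exact D.frame.ne1 3 (Or.inr (by rw [mul_one]; exact mul_right_cancel r))
        have m0 : ¬ Cls z (a 3 * a 4) 1 := by
          rintro (r | r)
          · exact n34 (Or.inl (by rw [eq_inv_of_mul_eq_one_left r, inv_eq_of_mul_eq_one_right (D.frame.sq 4)]))
          · rw [mul_one] at r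
            exact n34 (Or.inr (by rw [← r, mul_assoc, D.frame.sq, mul_one]))
        fin_cases i <;> fin_cases i' <;> first | rfl | (exfalso; first
          | exact n3 hc | exact n3 (D.frame.cls_symm hc) | exact n4 hc | exact n4 (D.frame.cls_symm hc)
          | exact n34 hc | exact n34 (D.frame.cls_symm hc) | exact m0 hc | exact m0 (D.frame.cls_symm hc)
          | exact m1 3 (Or.inl rfl) hc | exact m1 3 (Or.inl rfl) (D.frame.cls_symm hc)
          | exact m1 4 (Or.inr rfl) hc | exact m1 4 (Or.inr rfl) (D.frame.cls_symm hc))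
      subst hij
      have e3 : (if b then z else 1) = if b' then z else 1 := mul_right_cancel e2
      cases b <;> cases b' <;> simp_all [D.frame.x2.ne, D.frame.x2.ne.symm]
    · rintro ⟨g, hgk, hgz⟩
      obtain ⟨q, i, rfl, hq⟩ := hlist g hgz (mem_Cz.1 hgk)
      have hi : k ^ i = k ^ (i % 3) := by rw [← o3', pow_mod_orderOf]
      rcases hq with (r | r) | (r | r) | (r | r) | (r | r) <;>
        [refine ⟨((false, 0), ⟨i % 3, Nat.mod_lt _ (by norm_num)⟩), Subtype.ext ?_⟩;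
         refine ⟨((true, 0), ⟨i % 3, Nat.mod_lt _ (by norm_num)⟩), Subtype.ext ?_⟩;
         refine ⟨((false, 1), ⟨i % 3, Nat.mod_lt _ (by norm_num)⟩), Subtype.ext ?_⟩;
         refine ⟨((true, 1), ⟨i % 3, Nat.mod_lt _ (by norm_num)⟩), Subtype.ext ?_⟩;
         refine ⟨((false, 2), ⟨i % 3, Nat.mod_lt _ (by norm_num)⟩), Subtype.ext ?_⟩;
         refine ⟨((true, 2), ⟨i % 3, Nat.mod_lt _ (by norm_num)⟩), Subtype.ext ?_⟩;
         refine ⟨((false, 3), ⟨i % 3, Nat.mod_lt _ (by norm_num)⟩), Subtype.ext ?_⟩;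
         refine ⟨((true, 3), ⟨i % 3, Nat.mod_lt _ (by norm_num)⟩), Subtype.ext ?_⟩] <;>
        simp [f, pts, r, hi]
  rw [← Nat.card_congr (Equiv.ofBijective f hf), Nat.card_prod, Nat.card_prod, Nat.card_eq_fintype_card, Fintype.card_bool,
    Nat.card_fin, Nat.card_fin]

end Data

namespace Hyp

variable (H : Hyp z Q a σ)
include H

theorem three_std {h : G} (hh : h ∈ Cz z) (o3 : orderOf h = 3) (hσ : σ ⟨h, hh⟩ = cyc3) :
    (∀ v ∈ Cz h, orderOf v = 2 → IsConj z v) ∧ (Nat.card (Cz h) = 3 * 168 ∨ Nat.card (Cz h) = 3 * 360) := by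
  classical
  have D := H.data
  obtain ⟨c3, c4, hlist⟩ := D.cent_cyc3 hh o3 hσ
  set L := Cz h with hL
  have hhL : h ∈ L := mem_Cz.2 (Commute.refl h)
  set Z := (zpowers h).subgroupOf L with hZ
  haveI hZn : Z.Normal := ⟨fun n hn g => by
    obtain ⟨j, hj⟩ := mem_zpowers_iff.1 (mem_subgroupOf.1 hn)
    have : g * n * g⁻¹ = n := Subtype.ext (mul_inv_eq_iff_eq_mul.2 (hj ▸ ((mem_Cz.1 g.2).zpow_right j)).eq)
    rwa [this]⟩
  let π : L →* L ⧸ Z := QuotientGroup.mk' Z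
  have hπh : π ⟨h, hhL⟩ = 1 := (QuotientGroup.eq_one_iff _).2 (mem_subgroupOf.2 (mem_zpowers h))
  have hord : ∀ x : G, x ∈ zpowers h → orderOf x ∣ 3 := fun x hx => by
    obtain ⟨j, rfl⟩ := mem_zpowers_iff.1 hx
    rw [← o3]
    exact orderOf_dvd_of_pow_eq_one (by rw [← zpow_natCast, ← zpow_mul, mul_comm, zpow_mul, zpow_natCast,
      pow_orderOf_eq_one, one_zpow])
  have hlift : ∀ x : L, (x : G) * x = 1 → (x : G) ≠ 1 → π x ≠ 1 := fun x hxx hx1 e => hx1 (by
    have h1 := mem_subgroupOf.1 ((QuotientGroup.eq_one_iff x).1 e)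
    exact orderOf_eq_one_iff.1 (Nat.eq_one_of_dvd_coprimes (by norm_num)
      (orderOf_dvd_of_pow_eq_one (by rw [pow_two]; exact hxx) : orderOf (x : G) ∣ 2) (hord _ h1)))
  -- centralizers of involutions of the quotient come from those above
  have hlift2 : ∀ x : L, (x : G) * x = 1 → ∀ g : L, Commute (π g) (π x) → Commute g x := by
    intro x hxx g hg
    have h1 : g * x * g⁻¹ * x⁻¹ ∈ Z := by
      rw [← QuotientGroup.eq_one_iff, ← QuotientGroup.mk'_apply Z, map_mul, map_mul, map_mul, map_inv, map_inv]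
      show π g * π x * (π g)⁻¹ * (π x)⁻¹ = 1
      rw [hg.eq, mul_inv_cancel_right, mul_inv_cancel]
    obtain ⟨j, hj⟩ := mem_zpowers_iff.1 (mem_subgroupOf.1 h1)
    simp only [Subgroup.coe_mul, InvMemClass.coe_inv] at hj
    have hju : (g : G) * x * (g : G)⁻¹ = h ^ j * x := by rw [hj, inv_mul_cancel_right]
    have hsq1 : h ^ j * (x : G) * (h ^ j * x) = 1 := by
      rw [← hju, show (g : G) * x * (g : G)⁻¹ * ((g : G) * x * (g : G)⁻¹) = g * ((x : G) * x) * (g : G)⁻¹ by group, hxx]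
      group
    have hc : Commute (h ^ j) (x : G) := (mem_Cz.1 x.2).symm.zpow_left j
    rw [show h ^ j * (x : G) * (h ^ j * x) = h ^ j * (x * h ^ j) * x by group, ← hc.eq,
      show h ^ j * (h ^ j * (x : G)) * x = h ^ j * h ^ j * (x * x) by group, hxx, mul_one] at hsq1
    have hxj : h ^ j = 1 := orderOf_eq_one_iff.1 (Nat.eq_one_of_dvd_coprimes (by norm_num)
      (orderOf_dvd_of_pow_eq_one (by rw [pow_two]; exact hsq1) : orderOf (h ^ j) ∣ 2) (hord _ (zpow_mem (mem_zpowers h) j)))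
    rw [hxj, one_mul] at hju
    exact Subtype.ext (mul_inv_eq_iff_eq_mul.1 hju)
  have hzL : z ∈ L := mem_Cz.2 (D.commC hh).symm
  have h3L : a 3 ∈ L := mem_Cz.2 c3.symm
  have h4L : a 4 ∈ L := mem_Cz.2 c4.symm
  set zL : L := ⟨z, hzL⟩
  set uL : L := ⟨a 3, h3L⟩
  set rL : L := ⟨a 3, h3L⟩ * ⟨a 4, h4L⟩
  have hrr : rL * rL = zL := Subtype.ext (by
    show a 3 * a 4 * (a 3 * a 4) = z
    rw [show a 3 * a 4 * (a 3 * a 4) = a 3 * (a 4 * a 3) * a 4 by group, D.frame.anti 3 4 (by decide),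
      show a 3 * (z * (a 3 * a 4)) * a 4 = a 3 * z * a 3 * (a 4 * a 4) by group, D.frame.sq, mul_one, D.frame.z_ai,
      mul_assoc, D.frame.sq, mul_one])
  have hur : uL * rL * uL = rL⁻¹ := Subtype.ext (by
    show a 3 * (a 3 * a 4) * a 3 = (a 3 * a 4)⁻¹
    rw [← mul_assoc, D.frame.sq, one_mul, mul_inv_rev, inv_eq_of_mul_eq_one_right (D.frame.sq 3),
      inv_eq_of_mul_eq_one_right (D.frame.sq 4)])
  have huz : uL * zL = zL * uL := Subtype.ext (D.frame.z_ai 3)
  have hoz : orderOf (π zL) = 2 := Cfsg.Lib.InvolCalc.order_two_of_mul_self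
    (by rw [← map_mul, show zL * zL = 1 from Subtype.ext D.zz, map_one]) (hlift zL D.zz D.frame.x2.ne)
  have hou : orderOf (π uL) = 2 := Cfsg.Lib.InvolCalc.order_two_of_mul_self
    (by rw [← map_mul, show uL * uL = 1 from Subtype.ext (D.frame.sq 3), map_one])
    (hlift uL (D.frame.sq 3) fun e => D.frame.ne1 3 (Or.inl e))
  have hcard8 : ∀ x : L, (x : G) * x = 1 → (x : G) ≠ 1 → Nat.card ↥(Cz h ⊓ Cz (x : G)) = 24 →
      Nat.card (centralizer ({π x} : Set (L ⧸ Z))) = 8 := by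
    intro x hxx _ h24
    set C' : Subgroup L := centralizer ({x} : Set L)
    have hC' : Nat.card C' = 24 := by
      rw [← h24]
      exact Nat.card_congr
        { toFun := fun g => ⟨g.1.1, g.1.2, mem_Cz.2 (congrArg Subtype.val (mem_centralizer_singleton_iff.1 g.2))⟩
          invFun := fun g => ⟨⟨g.1, g.2.1⟩, mem_centralizer_singleton_iff.2 (Subtype.ext (mem_Cz.1 g.2.2).eq)⟩
          left_inv := fun g => rfl
          right_inv := fun g => rfl }
    have heq : centralizer ({π x} : Set (L ⧸ Z)) = C'.map π := by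
      ext y
      constructor
      · intro hy
        obtain ⟨g, rfl⟩ := QuotientGroup.mk'_surjective Z y
        exact ⟨g, mem_centralizer_singleton_iff.2 (hlift2 x hxx g (mem_centralizer_singleton_iff.1 hy)).eq, rfl⟩
      · rintro ⟨g, hg, rfl⟩
        exact mem_centralizer_singleton_iff.2 (by rw [← map_mul, ← map_mul, mem_centralizer_singleton_iff.1 hg])
    have hZC : Z ≤ C' := fun n hn => mem_centralizer_singleton_iff.2 (Subtype.ext (by
      obtain ⟨j, hj⟩ := mem_zpowers_iff.1 (mem_subgroupOf.1 hn)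
      show (n : G) * x = x * n
      rw [← hj]; exact ((mem_Cz.1 x.2).symm.zpow_left j).eq))
    let g := π.domRestrict C'
    have hgk : Nat.card g.ker = 3 := by
      have h1 : Nat.card Z = 3 := by
        rw [hZ, Nat.card_congr (subgroupOfEquivOfLe (zpowers_le.2 hhL)).toEquiv, Nat.card_zpowers, o3]
      refine Eq.trans ?_ h1
      exact Nat.card_congr
        { toFun := fun y => ⟨y.1.1, (QuotientGroup.eq_one_iff _).1 y.2⟩
          invFun := fun y => ⟨⟨y.1, hZC y.2⟩, (QuotientGroup.eq_one_iff _).2 y.2⟩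
          left_inv := fun y => rfl
          right_inv := fun y => rfl }
    have h := card_eq_card_quotient_mul_card_subgroup g.ker
    rw [Nat.card_congr (QuotientGroup.quotientKerEquivRange g).toEquiv, hgk, hC',
      show g.range = C'.map π from MonoidHom.domRestrict_range ..] at h
    rw [heq]; omega
  have hC8 := hcard8 zL D.zz D.frame.x2.ne (D.card_cent_three hh o3)
  have hd : Cfsg.Lib.DihedralEight.Data (π zL) (π rL) (π uL) := by
    refine ⟨hoz, by rw [← map_mul, hrr], hou, by rw [← map_mul, ← map_mul, huz],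
      by rw [← map_mul, ← map_mul, hur, map_inv], hC8, ?_⟩
    intro y hy
    obtain ⟨g, rfl⟩ := QuotientGroup.mk'_surjective Z y
    have hgz : Commute (g : G) z := congrArg Subtype.val (hlift2 zL D.zz g (mem_centralizer_singleton_iff.1 hy)).eq
    obtain ⟨q, i, hgq, hq⟩ := hlist g (mem_Cz.2 hgz) (mem_Cz.1 g.2)
    have hkey : ∀ y : L, q = (y : G) → π g = π y := fun y e => by
      rw [show g = y * ⟨h, hhL⟩ ^ i from Subtype.ext (by rw [hgq, e]; simp), map_mul, map_pow, hπh, one_pow, mul_one]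
    change π g = 1 ∨ _
    rcases D.eight hq with e | e | e | e | e | e | e | e
    · exact Or.inl ((hkey 1 e).trans (map_one π))
    · exact Or.inr (Or.inl (hkey rL e))
    · exact Or.inr (Or.inr (Or.inl (hkey zL e)))
    · exact Or.inr (Or.inr (Or.inr (Or.inl ((hkey rL⁻¹ e).trans (map_inv π rL)))))
    · exact Or.inr (Or.inr (Or.inr (Or.inr (Or.inl (hkey uL e)))))
    · exact Or.inr (Or.inr (Or.inr (Or.inr (Or.inr (Or.inl ((hkey (uL * rL) e).trans (map_mul π uL rL)))))))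
    · exact Or.inr (Or.inr (Or.inr (Or.inr (Or.inr (Or.inr (Or.inl ((hkey (uL * zL) e).trans (map_mul π uL zL))))))))
    · exact Or.inr (Or.inr (Or.inr (Or.inr (Or.inr (Or.inr (Or.inr ((hkey (uL * rL⁻¹) e).trans
        (by rw [map_mul, map_inv]))))))))
  obtain ⟨S, hS⟩ := Cfsg.Lib.DihedralEight.exists_sylow hd
  haveI : Fact (Nat.Prime 2) := ⟨Nat.prime_two⟩
  haveI : Fact (Nat.Prime 3) := ⟨Nat.prime_three⟩
  have hinv : ∀ v ∈ L, orderOf v = 2 → IsConj z v := by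
    intro v hv ov
    have hvv := Cfsg.Lib.InvolCalc.sq_of_order_two ov
    have hv1 := Cfsg.Lib.InvolCalc.ne_one_of_order_two ov
    obtain ⟨l, hl⟩ := Cfsg.Lib.InvolCalc.exists_conj_le S (H := zpowers (π ⟨v, hv⟩))
      (IsPGroup.of_card (n := 1) (by
        rw [Nat.card_zpowers, pow_one]
        exact Cfsg.Lib.InvolCalc.order_two_of_mul_self
          (by rw [← map_mul, show (⟨v, hv⟩ : L) * ⟨v, hv⟩ = 1 from Subtype.ext hvv, map_one])
          (hlift ⟨v, hv⟩ hvv hv1)))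
    have h1 := hS.le (hl _ (mem_zpowers _))
    obtain ⟨g, rfl⟩ := QuotientGroup.mk'_surjective Z l
    rw [← map_inv, ← map_mul, ← map_mul, mem_centralizer_singleton_iff] at h1
    have hc : Commute ((g : G)⁻¹ * v * g) z := congrArg Subtype.val (hlift2 zL D.zz _ h1).eq
    set v' := (g : G)⁻¹ * v * g with hv'
    have hv'h : Commute v' h := mem_Cz.1 (mul_mem (mul_mem (inv_mem g.2) hv) g.2)
    obtain ⟨q, i, hvq, hq⟩ := hlist v' (mem_Cz.2 hc) hv'h
    have hqQ : q ∈ Q := by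
      rcases D.eight hq with e | e | e | e | e | e | e | e <;> rw [e]
      exacts [one_mem Q, mul_mem (D.frame.mem 3) (D.frame.mem 4), D.frame.x2.mem,
        inv_mem (mul_mem (D.frame.mem 3) (D.frame.mem 4)), D.frame.mem 3,
        mul_mem (D.frame.mem 3) (mul_mem (D.frame.mem 3) (D.frame.mem 4)), mul_mem (D.frame.mem 3) D.frame.x2.mem,
        mul_mem (D.frame.mem 3) (inv_mem (mul_mem (D.frame.mem 3) (D.frame.mem 4)))]
    have hconj : IsConj v v' := isConj_iff.2 ⟨(g : G)⁻¹, by rw [hv', inv_inv]⟩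
    have hv2 := Cfsg.Lib.InvolCalc.sq_of_order_two (order_two_of_conj ov hconj)
    have hv'Q : v' ∈ Q := by
      refine (D.ker ⟨v', mem_Cz.2 hc⟩).1 ?_
      have h1 : σ ⟨v', mem_Cz.2 hc⟩ = cyc3 ^ i := by
        rw [show (⟨v', mem_Cz.2 hc⟩ : Cz z) = ⟨q, D.le hqQ⟩ * ⟨h, hh⟩ ^ i from Subtype.ext hvq, map_mul,
          (D.ker ⟨q, D.le hqQ⟩).2 hqQ, one_mul, map_pow, hσ]
      have h2 := D.sigma_inv_sq (mem_Cz.2 hc) hv2
      rw [h1, ← pow_add] at h2
      have h3 : 3 ∣ i + i := by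
        rw [← orderOf_eq_prime (p := 3) (x := cyc3) (by decide +kernel) (by decide +kernel)]
        exact orderOf_dvd_of_pow_eq_one h2
      obtain ⟨j, rfl⟩ : 3 ∣ i := by omega
      rw [h1, pow_mul, (by decide +kernel : cyc3 ^ 3 = 1), one_pow]
    exact (H.pts_conj hv'Q hv2 (Cfsg.Lib.InvolCalc.ne_one_of_order_two (order_two_of_conj ov hconj))).trans hconj.symm
  refine ⟨hinv, ?_⟩
  have hall : ∀ v : L ⧸ Z, orderOf v = 2 → Nat.card (centralizer ({v} : Set (L ⧸ Z))) = 8 := by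
    intro v ov
    obtain ⟨x, rfl⟩ := QuotientGroup.mk'_surjective Z v
    have hx2 : ((x ^ 2 : L) : G) ∈ zpowers h := by
      refine mem_subgroupOf.1 ((QuotientGroup.eq_one_iff _).1 ?_)
      rw [← QuotientGroup.mk'_apply Z, map_pow]
      exact ov ▸ pow_orderOf_eq_one _
    have h6 : (((x ^ 3 : L) : G)) * (x ^ 3 : L) = 1 := by
      rw [← Subgroup.coe_mul, ← pow_add, show 3 + 3 = 2 * 3 from rfl, pow_mul, SubmonoidClass.coe_pow (x ^ 2) 3]
      exact orderOf_dvd_iff_pow_eq_one.1 (hord _ hx2)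
    have hπ3 : π (x ^ 3) = π x := by
      rw [map_pow, pow_succ, show π x ^ 2 = 1 from ov ▸ pow_orderOf_eq_one _, one_mul]
    show Nat.card (centralizer ({π x} : Set (L ⧸ Z))) = 8
    rw [← hπ3]
    have h31 : ((x ^ 3 : L) : G) ≠ 1 := fun e => by
      have e' : π x = 1 := by rw [← hπ3, show x ^ 3 = 1 from Subtype.ext e, map_one]
      change orderOf (π x) = 2 at ov
      rw [e', orderOf_one] at ov
      omega
    refine hcard8 _ h6 h31 ?_
    -- move the involution to `z`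
    obtain ⟨g, hg⟩ := isConj_iff.1 (hinv _ (x ^ 3 : L).2 (Cfsg.Lib.InvolCalc.order_two_of_mul_self h6 h31)).symm
    set k := g * h * g⁻¹ with hk
    have hk_mem : k ∈ Cz z := mem_Cz.2 (hg ▸ (Commute.conj_iff g).2 (mem_Cz.1 (x ^ 3 : L).2).symm)
    rw [← D.card_cent_three hk_mem
      (by rw [hk, show g * h * g⁻¹ = MulAut.conj g h from rfl, MulEquiv.orderOf_eq, o3])]
    refine Nat.card_congr ((MulAut.conj g).toEquiv.subtypeEquiv fun y => ?_)
    show y ∈ Cz h ⊓ Cz _ ↔ g * y * g⁻¹ ∈ Cz k ⊓ Cz z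
    rw [mem_inf, mem_inf, mem_Cz, mem_Cz, mem_Cz, mem_Cz, hk, ← hg, Commute.conj_iff, Commute.conj_iff]
  have hcardL : Nat.card L = Nat.card (L ⧸ Z) * 3 := by
    rw [card_eq_card_quotient_mul_card_subgroup Z, hZ, Nat.card_congr (subgroupOfEquivOfLe (zpowers_le.2 hhL)).toEquiv,
      Nat.card_zpowers, o3]
  rcases Cfsg.Lib.DihedralEight.main hd with hiso | ⟨⟨ψ⟩⟩ | ⟨⟨ψ⟩⟩ | ⟨⟨ψ⟩⟩ | ⟨⟨ψ⟩⟩
  · exfalso
    have hOodd : Odd (Nat.card (Cfsg.oddCore (L ⧸ Z))) :=
      Nat.coprime_two_right.1 (Cfsg.Lib.Components.coprime_card_pPrimeCore 2)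
    haveI : (Cfsg.oddCore (L ⧸ Z)).Normal := Cfsg.Lib.Components.pPrimeCore_normal' 2
    have huL : π uL * π uL = 1 := Cfsg.Lib.DihedralEight.uu hd
    have hz' : π zL * π zL = 1 := Cfsg.Lib.DihedralEight.zz hd
    have hfix : ∀ v, orderOf v = 2 → ∀ y ∈ Cfsg.oddCore (L ⧸ Z), v * y = y * v → y = 1 := fun v ov y hy hc => by
      have h1 : orderOf y ∣ 2 ^ 3 := by
        rw [show (2 : ℕ) ^ 3 = Nat.card (centralizer ({v} : Set (L ⧸ Z))) from (hall v ov).symm,
          ← Subgroup.orderOf_mk y (mem_centralizer_singleton_iff.2 hc.symm)]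
        exact orderOf_dvd_natCard _
      have h2 : orderOf y ∣ Nat.card (Cfsg.oddCore (L ⧸ Z)) := by
        rw [← Subgroup.orderOf_mk y hy]; exact orderOf_dvd_natCard _
      exact orderOf_eq_one_iff.1 (Nat.eq_one_of_dvd_coprimes ((Nat.coprime_two_left.2 hOodd).pow_left 3) h1 h2)
    have hzu : orderOf (π zL * π uL) = 2 := by
      refine Cfsg.Lib.InvolCalc.order_two_of_mul_self ?_ fun e => ?_
      · rw [show π zL * π uL * (π zL * π uL) = π zL * (π uL * π zL) * π uL by group, hd.huz,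
          show π zL * (π zL * π uL) * π uL = π zL * π zL * (π uL * π uL) by group, hz', huL, one_mul]
      · rw [← map_mul] at e
        have h1 := mem_subgroupOf.1 ((QuotientGroup.eq_one_iff _).1 e)
        have h0 : ((zL * uL : L) : G) * (zL * uL : L) = 1 := by
          show z * a 3 * (z * a 3) = 1
          rw [show z * a 3 * (z * a 3) = z * (a 3 * z) * a 3 by group, D.frame.z_ai,
            show z * (z * a 3) * a 3 = z * z * (a 3 * a 3) by group, D.zz, D.frame.sq, one_mul]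
        have h2 : ((zL * uL : L) : G) ≠ 1 := fun e1 => D.frame.ne1 3 (Or.inr (by
          rw [mul_one, eq_inv_of_mul_eq_one_right (show z * a 3 = 1 from e1), D.frame.x2.inv_z]))
        exact hlift _ h0 h2 ((QuotientGroup.eq_one_iff _).2 (mem_subgroupOf.2 h1))
    have hbot := Cfsg.Lib.DihedralEight.four_fpf hz' huL
      (fun y hy => Subgroup.Normal.conj_mem inferInstance y hy _) (fun y hy => Subgroup.Normal.conj_mem inferInstance y hy _)
      (hfix _ hoz) (hfix _ hou) (hfix _ hzu)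
    rw [hbot, sup_bot_eq] at hiso
    have hh' : Nat.card (L ⧸ Z) = 8 := by
      rw [← card_top (G := L ⧸ Z), ← hiso]; exact hC8
    have h9 : 3 ^ 2 ∣ Nat.card L := sq_dvd_cent (by
      obtain ⟨t, ht⟩ := H.exists_outer
      rw [(H.card_eq ht).1]; norm_num) o3
    rw [hcardL, hh'] at h9
    norm_num at h9
  · exact (transposition_ne_eight (by norm_num) ψ (swap 0 1) (orderOf_eq_prime (by decide +kernel) (by decide +kernel))
      four_trans (by norm_num) hall).elim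
  · exact (transposition_ne_eight (by norm_num) ψ (swap 0 1) (orderOf_eq_prime (by decide +kernel) (by decide +kernel))
      five_trans (by norm_num) hall).elim
  · left
    rw [hcardL, Nat.card_congr ψ.toEquiv, card_sl3]
  · right
    rw [hcardL, Nat.card_congr ψ.toEquiv, Nat.card_eq_fintype_card, card_alternatingGroup, Fintype.card_fin]
    rfl

theorem three_z {h : G} (hh : h ∈ Cz z) (o3 : orderOf h = 3) :
    (∀ v ∈ Cz h, orderOf v = 2 → IsConj z v) ∧ (Nat.card (Cz h) = 3 * 168 ∨ Nat.card (Cz h) = 3 * 360) := by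
  obtain ⟨c, hc, hk, o3', hσ⟩ := H.data.exists_std_three hh o3
  obtain ⟨hinv, hcard⟩ := H.three_std hk o3' hσ
  have heq : Cz (c * h * c⁻¹) = (Cz h).map (MulAut.conj c).toMonoidHom := by
    ext y
    rw [mem_map]
    constructor
    · intro hy
      refine ⟨c⁻¹ * y * c, mem_Cz.2 ((Commute.conj_iff c).1 ?_), show c * (c⁻¹ * y * c) * c⁻¹ = y by group⟩
      rw [show c * (c⁻¹ * y * c) * c⁻¹ = y by group]; exact mem_Cz.1 hy
    · rintro ⟨u, hu, rfl⟩
      exact mem_Cz.2 ((Commute.conj_iff c).2 (mem_Cz.1 hu))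
  refine ⟨fun v hv ov => ?_, ?_⟩
  · have hcv : IsConj v (c * v * c⁻¹) := isConj_iff.2 ⟨c, rfl⟩
    exact (hinv _ (heq ▸ mem_map.2 ⟨v, hv, rfl⟩) (order_two_of_conj ov hcv)).trans hcv.symm
  · rwa [heq, card_map_of_injective (MulAut.conj c).injective] at hcard

end Hyp

end Cfsg.Lib.HallJankoType
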