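import Cfsg.Agent.LocalThree.HallJankoType.Fusion
import Cfsg.Agent.Components.GenFitting
import Cfsg.Agent.Classical.Orth.SmallOrth
import Cfsg.Prelude
import Mathlib.GroupTheory.SpecificGroups.Alternating

/-!
From the hypotheses on `C(z)` to the data used in this folder.
-/

set_option autoImplicit false

namespace Cfsg.Lib.HallJankoType

open Subgroup

variable {G : Type*} [Group G] [Finite G]

theorem omega_minus_four : Nonempty
    (↥(Cfsg.Omega (ZMod 2) (Cfsg.quadFormMinus 1 (ZMod 2) 1 1)) ≃* alternatingGroup (Fin 5)) := by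
  haveI : Fact (Nat.Prime 2) := ⟨Nat.prime_two⟩
  obtain ⟨e⟩ := Cfsg.Lib.Classical.Refl.minus_four_two (F := ZMod 2) (ZMod.card 2)
  have hc : (Cfsg.Omega (ZMod 2) (Cfsg.quadFormMinus 1 (ZMod 2) 1 1)).map e.toMonoidHom = alternatingGroup (Fin 5) := by
    rw [← alternatingGroup.commutator_perm_eq (by simp)]
    show (commutator _).map _ = _
    rw [commutator_def, commutator_def, Subgroup.map_commutator, Subgroup.map_top_of_surjective _ e.surjective]
  exact ⟨((Cfsg.Omega (ZMod 2) (Cfsg.quadFormMinus 1 (ZMod 2) 1 1)).equivMapOfInjective e.toMonoidHom e.injective).trans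
    (MulEquiv.subgroupCongr hc)⟩

/-- `z` has a conjugate in `Q` other than itself -/
def Hyp.NotWeaklyClosed (z : G) (Q : Subgroup (Cz z)) : Prop :=
  ∃ g : G, (∃ hq : g * z * g⁻¹ ∈ Cz z, (⟨g * z * g⁻¹, hq⟩ : Cz z) ∈ Q) ∧ g * z * g⁻¹ ≠ z

theorem exists_data_of_cen {z : G} (hz : orderOf z = 2) (Q : Subgroup (Cz z)) [Q.Normal]
    (hcen : centralizer (Q : Set (Cz z)) ≤ Q) (hQ : Cfsg.IsExtraspecial 2 Q) (hcard : Nat.card Q = 2 ^ 5)
    (φ : Cz z →* alternatingGroup (Fin 5)) (hφ : Function.Surjective φ) (hker : φ.ker = Q) :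
    ∃ (a : Fin 5 → G) (σ : Cz z →* Equiv.Perm (Fin 5)), Data z (Q.map (Cz z).subtype) a σ := by
  obtain ⟨z₀, hx, -⟩ := Cfsg.Lib.LargeExtra.exists_x2 hQ
  -- `z` is the central involution of `Q`
  set zc : Cz z := ⟨z, mem_Cz.2 (Commute.refl z)⟩ with hzc
  have hzcomm : ∀ c : Cz z, Commute c zc := fun c => Subtype.ext (mem_Cz.1 c.2)
  have hz0 : zc = z₀ := by
    refine (hx.cen zc (hcen (mem_centralizer_iff.2 fun c _ => (hzcomm c).eq)) fun a _ => hzcomm a).resolve_left fun h => ?_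
    have : z = 1 := congrArg Subtype.val h
    rw [this, orderOf_one] at hz
    omega
  subst hz0
  set Q' := Q.map (Cz z).subtype with hQ'
  have hmem : ∀ q, q ∈ Q' → ∃ c ∈ Q, ((c : Cz z) : G) = q := fun q hq => mem_map.1 hq
  have hx' : Cfsg.Lib.LargeExtra.X2 Q' z :=
    { mem := ⟨zc, hx.mem, rfl⟩
      ne := fun h => hx.ne (Subtype.ext h)
      zz := congrArg Subtype.val hx.zz
      isP := hx.isP.map _
      central := fun q hq => by obtain ⟨c, -, rfl⟩ := hmem q hq; exact mem_Cz.1 c.2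
      comm := fun x hx1 y hy1 => by
        obtain ⟨c, hc, rfl⟩ := hmem x hx1
        obtain ⟨d, hd, rfl⟩ := hmem y hy1
        rcases hx.comm c hc d hd with r | r
        · exact Or.inl (congrArg Subtype.val r)
        · exact Or.inr (congrArg Subtype.val r)
      sq := fun x hx1 => by
        obtain ⟨c, hc, rfl⟩ := hmem x hx1
        rcases hx.sq c hc with r | r
        · exact Or.inl (congrArg Subtype.val r)
        · exact Or.inr (congrArg Subtype.val r)
      cen := fun x hx1 hall => by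
        obtain ⟨c, hc, rfl⟩ := hmem x hx1
        rcases hx.cen c hc (fun d hd => Subtype.ext (hall _ ⟨d, hd, rfl⟩)) with r | r
        · exact Or.inl (congrArg Subtype.val r)
        · exact Or.inr (congrArg Subtype.val r) }
  have hle : Q' ≤ Cz z := map_subtype_le _
  exact exists_data hx' hle (fun c hc q hq => by
      obtain ⟨d, hd, rfl⟩ := hmem q hq
      exact ⟨⟨c, hc⟩ * d * ⟨c, hc⟩⁻¹, Subgroup.Normal.conj_mem inferInstance d hd _, rfl⟩)
    (by rw [hQ', card_map_of_injective (Cz z).subtype_injective, hcard]; norm_num)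
    (fun c hc => by
      have hcz : c ∈ Cz z := mem_Cz.2 (mem_centralizer_iff.1 hc z hx'.mem).symm
      exact ⟨⟨c, hcz⟩, hcen (mem_centralizer_iff.2 fun d hd =>
        Subtype.ext (mem_centralizer_iff.1 hc _ ⟨d, hd, rfl⟩)), rfl⟩)
    φ hφ (by rw [hker, hQ', ← comap_subtype, comap_map_eq_self_of_injective (Cz z).subtype_injective])

theorem exists_data_of {z : G} (hz : orderOf z = 2) (Q : Subgroup (Cz z)) [Q.Normal]
    (hF : Cfsg.generalizedFittingSubgroup (Cz z) = Q) (hQ : Cfsg.IsExtraspecial 2 Q) (hcard : Nat.card Q = 2 ^ 5)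
    (φ : Cz z →* alternatingGroup (Fin 5)) (hφ : Function.Surjective φ) (hker : φ.ker = Q) :
    ∃ (a : Fin 5 → G) (σ : Cz z →* Equiv.Perm (Fin 5)), Data z (Q.map (Cz z).subtype) a σ :=
  exists_data_of_cen hz Q (hF ▸ Cfsg.Lib.Components.centralizer_genFitting_le) hQ hcard φ hφ hker

theorem exists_hyp_of_equiv {z : G} (hz : orderOf z = 2) (Q : Subgroup (Cz z)) [Q.Normal]
    (hF : Cfsg.generalizedFittingSubgroup (Cz z) = Q) (hQ : Cfsg.IsExtraspecial 2 Q) (hcard : Nat.card Q = 2 ^ 5)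
    (φ : Cz z →* alternatingGroup (Fin 5)) (hφ : Function.Surjective φ) (hker : φ.ker = Q)
    (hnwc : Hyp.NotWeaklyClosed z Q)
    (hcl : ∃ x y : G, orderOf x = 2 ∧ orderOf y = 2 ∧ ¬ IsConj x y) :
    ∃ (a : Fin 5 → G) (σ : Cz z →* Equiv.Perm (Fin 5)), Hyp z (Q.map (Cz z).subtype) a σ := by
  obtain ⟨a, σ, D⟩ := exists_data_of hz Q hF hQ hcard φ hφ hker
  obtain ⟨g, ⟨hq, hgQ⟩, hgne⟩ := hnwc
  exact ⟨a, σ, D, ⟨g, ⟨⟨_, hq⟩, hgQ, rfl⟩, hgne⟩, hcl⟩

theorem exists_hyp {z : G} (hz : orderOf z = 2) (Q : Subgroup (Cz z)) [Q.Normal]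
    (hF : Cfsg.generalizedFittingSubgroup (Cz z) = Q) (hQ : Cfsg.IsExtraspecial 2 Q) (hcard : Nat.card Q = 2 ^ 5)
    (e : (Cz z) ⧸ Q ≃* Cfsg.Omega (ZMod 2) (Cfsg.quadFormMinus 1 (ZMod 2) 1 1))
    (hnwc : ∃ g : G, (∃ hq : g * z * g⁻¹ ∈ Cz z, (⟨g * z * g⁻¹, hq⟩ : Cz z) ∈ Q) ∧ g * z * g⁻¹ ≠ z)
    (hcl : ∃ x y : G, orderOf x = 2 ∧ orderOf y = 2 ∧ ¬ IsConj x y) :
    ∃ (a : Fin 5 → G) (σ : Cz z →* Equiv.Perm (Fin 5)), Hyp z (Q.map (Cz z).subtype) a σ := by
  obtain ⟨eo⟩ := omega_minus_four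
  exact exists_hyp_of_equiv hz Q hF hQ hcard ((e.trans eo).toMonoidHom.comp (QuotientGroup.mk' Q))
    ((e.trans eo).surjective.comp (QuotientGroup.mk'_surjective Q))
    (by
      ext c
      rw [MonoidHom.mem_ker]
      show (e.trans eo) (c : (Cz z) ⧸ Q) = 1 ↔ _
      rw [MulEquiv.map_eq_one_iff, QuotientGroup.eq_one_iff]) hnwc hcl

end Cfsg.Lib.HallJankoType
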