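import Cfsg.Agent.LocalThree.HallJankoType.OrderTwo

/-!
The order 51840 does not occur: there is no room for the normalizer of a subgroup of order five.
-/

set_option autoImplicit false
set_option linter.unusedSectionVars false
set_option linter.style.haveILetI false

namespace Cfsg.Lib.HallJankoType

open Subgroup Equiv

variable {G : Type*} [Group G] [Finite G] {z : G} {Q : Subgroup G} {a : Fin 5 → G} {σ : Cz z →* Perm (Fin 5)}

theorem perm_five_cent : ∀ ρ : Perm (Fin 5), ρ ^ 5 = 1 → ρ ≠ 1 → ∀ π : Perm (Fin 5), π * ρ = ρ * π →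
    ∃ i : Fin 5, π = ρ ^ (i : ℕ) := by decide +kernel

theorem perm_five_fix : ∀ ρ : Perm (Fin 5), ρ ^ 5 = 1 → ρ ≠ 1 → ∀ i j : Fin 5, ρ i ≠ i ∧
    (i < j → ¬ ((ρ i = i ∧ ρ j = j) ∨ (ρ i = j ∧ ρ j = i))) := by decide +kernel

theorem perm_five_norm : ∀ ρ : Perm (Fin 5), ρ ^ 5 = 1 → ρ ≠ 1 → ∀ i : Fin 5,
    (∃ π : Perm (Fin 5), Perm.sign π = 1 ∧ π * ρ * π⁻¹ = ρ ^ (i : ℕ)) → i = 1 ∨ i = 4 := by decide +kernel

theorem arith_five (k : ℕ) (hk : k ≤ 4) (h : 2592 / 3 ^ k % 5 = 1) : k = 3 := by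
  interval_cases k <;> simp_all

namespace Hyp

variable (H : Hyp z Q a σ)
include H

theorem cent_five {f : G} (hf : f ∈ Cz z) (of : orderOf f = 5) :
    (∀ c ∈ Cz z, Commute c f → c ∈ zpowers (z * f)) ∧
      (∀ c ∈ Cz z, c * f * c⁻¹ ∈ zpowers f → c * f * c⁻¹ = f ∨ c * f * c⁻¹ = f⁻¹) ∧ orderOf (z * f) = 10 := by
  have D := H.data
  have hzf : Commute z f := (D.commC hf).symm
  have o10 : orderOf (z * f) = 10 := by
    rw [hzf.orderOf_mul_eq_mul_orderOf_of_coprime (by rw [H.oz, of]; norm_num), H.oz, of]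
  set ρ := σ ⟨f, hf⟩ with hρdef
  have hρ5 : ρ ^ 5 = 1 := by
    rw [hρdef, ← map_pow, show (⟨f, hf⟩ : Cz z) ^ 5 = 1 from
      Subtype.ext (by rw [SubmonoidClass.coe_pow, ← of]; exact pow_orderOf_eq_one f), map_one]
  have hρ1 : ρ ≠ 1 := fun e => by
    have hfQ : f ∈ Q := (D.ker _).1 e
    have := orderOf_dvd_natCard (⟨f, hfQ⟩ : Q)
    rw [Subgroup.orderOf_mk, of, D.frame.card] at this
    norm_num at this
  have h6 : (z * f) ^ 6 = f := by
    rw [hzf.mul_pow, show z ^ 6 = 1 by rw [show 6 = 2 * 3 from rfl, pow_mul, pow_two, D.zz, one_pow], one_mul,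
      show 6 = orderOf f + 1 by rw [of], pow_succ, pow_orderOf_eq_one, one_mul]
  have h5 : (z * f) ^ 5 = z := by
    rw [hzf.mul_pow, show (5 : ℕ) = orderOf f from of.symm, pow_orderOf_eq_one, of, mul_one,
      show 5 = 2 * 2 + 1 from rfl, pow_succ, pow_mul, pow_two z, D.zz, one_pow, one_mul]
  refine ⟨fun c hc hcf => ?_, fun c hc hn => ?_, o10⟩
  · obtain ⟨i, hi⟩ := perm_five_cent ρ hρ5 hρ1 (σ ⟨c, hc⟩)
      (by rw [hρdef, ← map_mul, ← map_mul]; exact congrArg σ (Subtype.ext hcf.eq))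
    set q := c * (f ^ (i : ℕ))⁻¹ with hq
    have hqC : q ∈ Cz z := mul_mem hc (inv_mem (pow_mem hf _))
    have hqQ : q ∈ Q := (D.ker ⟨q, hqC⟩).1 (by
      rw [show (⟨q, hqC⟩ : Cz z) = ⟨c, hc⟩ * (⟨f, hf⟩ ^ (i : ℕ))⁻¹ from rfl, map_mul, map_inv, map_pow, hi, mul_inv_cancel])
    have hqf : Commute f q := by
      rw [hq]; exact hcf.symm.mul_right ((Commute.refl f).pow_right _).inv_right
    have hfq : f * q * f⁻¹ = q := by rw [hqf.eq, mul_inv_cancel_right]
    have hcq : Cls z q 1 := by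
      rcases D.frame.cls q hqQ with e | ⟨j, e⟩ | ⟨j, l, hjl, e⟩
      · exact e
      · exfalso
        refine (perm_five_fix ρ hρ5 hρ1 j j).1 (D.frame.unique (q := q) ?_ e)
        exact D.frame.cls_trans (hfq ▸ D.cls_conj hf e) (D.act ⟨f, hf⟩ j)
      · exfalso
        have hc2 : Cls z (a j * a l) (a (ρ j) * a (ρ l)) := by
          refine D.frame.cls_trans (D.frame.cls_symm e) (D.frame.cls_trans (hfq ▸ D.cls_conj hf e) ?_)
          rw [show f * (a j * a l) * f⁻¹ = f * a j * f⁻¹ * (f * a l * f⁻¹) by group]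
          exact D.cls_mul (D.commC (D.le (D.frame.mem _)))
            (D.act ⟨f, hf⟩ j) (D.act ⟨f, hf⟩ l)
        refine (perm_five_fix ρ hρ5 hρ1 j l).2 hjl ?_
        rcases lt_trichotomy (ρ j) (ρ l) with h | h | h
        · obtain ⟨h1, h2⟩ := D.frame.pair _ _ _ _ hjl h hc2
          exact Or.inl ⟨h1.symm, h2.symm⟩
        · exact absurd (ρ.injective h) hjl.ne
        · obtain ⟨h1, h2⟩ := D.frame.pair _ _ _ _ hjl h (D.frame.cls_trans hc2 (D.cls_swap _ _))
          exact Or.inr ⟨h2.symm, h1.symm⟩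
    have hcq' : c = q * f ^ (i : ℕ) := by rw [hq, inv_mul_cancel_right]
    rw [hcq']
    refine mul_mem ?_ (pow_mem ?_ _)
    · rcases hcq with e | e
      · rw [e]; exact one_mem _
      · rw [e, mul_one]; exact mem_zpowers_iff.2 ⟨5, by rw [zpow_ofNat]; exact h5⟩
    · exact mem_zpowers_iff.2 ⟨6, by rw [zpow_ofNat]; exact h6⟩
  · classical
    have hn' := mem_zpowers_iff_mem_range_orderOf.1 hn
    rw [of, Finset.mem_image] at hn'
    obtain ⟨j, hj, hj'⟩ := hn'
    rw [Finset.mem_range] at hj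
    have := perm_five_norm ρ hρ5 hρ1 ⟨j, hj⟩ ⟨σ ⟨c, hc⟩, D.sign _, by
      rw [hρdef, ← map_inv, ← map_mul, ← map_mul, ← map_pow]
      exact congrArg σ (Subtype.ext hj'.symm)⟩
    rcases this with e | e
    · obtain rfl : j = 1 := congrArg Fin.val e
      exact Or.inl (by rw [← hj', pow_one])
    · obtain rfl : j = 4 := congrArg Fin.val e
      refine Or.inr ?_
      rw [← hj']
      exact eq_inv_of_mul_eq_one_left (by rw [← pow_succ, show 4 + 1 = orderOf f from of.symm]; exact pow_orderOf_eq_one f)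

theorem exists_inverting_five : ∃ f g, f ∈ Cz z ∧ orderOf f = 5 ∧ Outer z Q g ∧ g * f * g⁻¹ = f⁻¹ := by
  classical
  haveI : Fact (Nat.Prime 5) := ⟨by norm_num⟩
  have D := H.data
  obtain ⟨f', hf'⟩ := exists_prime_orderOf_dvd_card' (G := Cz z) 5 (by rw [D.card_Cz]; norm_num)
  obtain ⟨f, hf⟩ := f'
  have of : orderOf f = 5 := by rw [← hf', Subgroup.orderOf_mk]
  obtain ⟨hcent, hnorm, o10⟩ := H.cent_five hf of
  -- the normalizer in `C` is larger than the centralizer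
  let P : Sylow 5 (Cz z) := Sylow.ofCard (zpowers (⟨f, hf⟩ : Cz z)) (by
    rw [Nat.card_zpowers, hf', D.card_Cz, show (1920 : ℕ) = 5 ^ 1 * 384 by norm_num,
      Nat.factorization_mul (by norm_num) (by norm_num), Finsupp.add_apply,
      Nat.Prime.factorization_pow (by norm_num), Finsupp.single_eq_same,
      Nat.factorization_eq_zero_of_not_dvd (n := 384) (by norm_num)]
    norm_num)
  have hmod : Nat.card (Sylow 5 (Cz z)) % 5 = 1 := by
    have := card_sylow_modEq_one 5 (Cz z)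
    exact this
  rw [P.card_eq_index_normalizer] at hmod
  set N := normalizer ((P : Subgroup (Cz z)) : Set (Cz z)) with hN
  obtain ⟨c, hc, hcf⟩ : ∃ c : Cz z, (c : G) * f * (c : G)⁻¹ ∈ zpowers f ∧ ¬ Commute (c : G) f := by
    by_contra hno
    push Not at hno
    have hNle : N ≤ centralizer ({(⟨f, hf⟩ : Cz z)} : Set (Cz z)) := fun n hn => by
      refine mem_centralizer_singleton_iff.2 (Subtype.ext (hno n ?_).eq)
      have h1 := (mem_normalizer_iff.1 hn ⟨f, hf⟩).1 (mem_zpowers _)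
      obtain ⟨j, hj⟩ := mem_zpowers_iff.1 h1
      exact mem_zpowers_iff.2 ⟨j, by simpa using congrArg Subtype.val hj⟩
    have hge : centralizer ({(⟨f, hf⟩ : Cz z)} : Set (Cz z)) ≤ N := fun n hn => mem_normalizer_iff.2 fun x => by
      have hcn : Commute n ⟨f, hf⟩ := mem_centralizer_singleton_iff.1 hn
      constructor
      · intro hx
        obtain ⟨j, rfl⟩ := mem_zpowers_iff.1 hx
        rw [(hcn.zpow_right j).eq, mul_inv_cancel_right]; exact hx
      · intro hx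
        obtain ⟨j, hj⟩ := mem_zpowers_iff.1 hx
        have : x = (⟨f, hf⟩ : Cz z) ^ j := by
          rw [eq_comm, ← mul_right_inj n, ← mul_left_inj n⁻¹, (hcn.zpow_right j).eq, mul_inv_cancel_right]
          exact hj
        exact this ▸ zpow_mem (mem_zpowers _) j
    have hc10 : Nat.card (centralizer ({(⟨f, hf⟩ : Cz z)} : Set (Cz z))) = 10 := by
      rw [← o10, ← Nat.card_zpowers]
      refine Nat.card_congr
        { toFun := fun x => ⟨x.1.1, hcent _ x.1.2 (congrArg Subtype.val (mem_centralizer_singleton_iff.1 x.2))⟩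
          invFun := fun x => ⟨⟨x.1, (zpowers_le.2 (mul_mem (D.le D.frame.x2.mem) hf)) x.2⟩,
            mem_centralizer_singleton_iff.2 (Subtype.ext ?_)⟩
          left_inv := fun x => rfl
          right_inv := fun x => rfl }
      obtain ⟨j, hj⟩ := mem_zpowers_iff.1 x.2
      show x.1 * f = f * x.1
      rw [← hj]
      exact ((((D.commC hf).symm.mul_left (Commute.refl f)) : Commute (z * f) f).zpow_left j).eq
    have h := N.card_mul_index
    rw [le_antisymm hNle hge, hc10, D.card_Cz] at h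
    change N.index % 5 = 1 at hmod
    rw [le_antisymm hNle hge] at hmod
    omega
  have hinv : (c : G) * f * (c : G)⁻¹ = f⁻¹ :=
    (hnorm c c.2 hc).resolve_left fun e => hcf (mul_inv_eq_iff_eq_mul.1 e)
  obtain ⟨e, m, hm, hord⟩ := Nat.exists_eq_pow_mul_and_not_dvd (orderOf_pos (c : G)).ne' 2 (by norm_num)
  set g := (c : G) ^ m with hg
  have hgC : g ∈ Cz z := pow_mem c.2 m
  have hgf : g * f * g⁻¹ = f⁻¹ := by
    obtain ⟨j, rfl⟩ : Odd m := Nat.odd_iff.2 (Nat.two_dvd_ne_zero.1 hm)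
    have h2 : Commute ((c : G) ^ 2) f := by
      refine mul_inv_eq_iff_eq_mul.1 ?_
      rw [show (c : G) ^ 2 * f * ((c : G) ^ 2)⁻¹ = (c : G) * ((c : G) * f * (c : G)⁻¹) * (c : G)⁻¹ by
        simp [pow_two, mul_assoc], hinv, ← inv_inj, show ((c : G) * f⁻¹ * (c : G)⁻¹)⁻¹ = (c : G) * f * (c : G)⁻¹ by group,
        hinv]
    rw [hg, pow_succ', pow_mul, show (c : G) * ((c : G) ^ 2) ^ j * f * ((c : G) * ((c : G) ^ 2) ^ j)⁻¹ =
      (c : G) * (((c : G) ^ 2) ^ j * f * (((c : G) ^ 2) ^ j)⁻¹) * (c : G)⁻¹ by group,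
      (h2.pow_left j).eq, mul_inv_cancel_right, hinv]
  have hg2 : g ^ 2 ^ e = 1 := by rw [hg, ← pow_mul, mul_comm, ← hord, pow_orderOf_eq_one]
  have hf1 : f ≠ 1 := fun h => by rw [h, orderOf_one] at of; omega
  have hgQ : g ∉ Q := fun hQ => by
    have h1 : σ ⟨f, hf⟩ = σ ⟨f, hf⟩⁻¹ := by
      have h2 : (⟨f, hf⟩ : Cz z)⁻¹ = ⟨g, hgC⟩ * ⟨f, hf⟩ * ⟨g, hgC⟩⁻¹ := Subtype.ext hgf.symm
      rw [h2, map_mul, map_mul, map_inv, (D.ker ⟨g, hgC⟩).2 hQ]; group
    have h2 : σ ((⟨f, hf⟩ : Cz z) ^ 2) = 1 := by rw [pow_two, map_mul]; nth_rewrite 2 [h1]; rw [map_inv, mul_inv_cancel]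
    have h3 : f ^ 2 ∈ Q := (D.ker _).1 h2
    have h4 := orderOf_dvd_natCard (⟨f ^ 2, h3⟩ : Q)
    rw [Subgroup.orderOf_mk, orderOf_pow, of, D.frame.card] at h4
    norm_num at h4
  have hsq : g * g = 1 ∨ g * g = z := by
    have hcg : Commute (g * g) f := by
      refine mul_inv_eq_iff_eq_mul.1 ?_
      rw [show g * g * f * (g * g)⁻¹ = g * (g * f * g⁻¹) * g⁻¹ by group, hgf, ← inv_inj,
        show (g * f⁻¹ * g⁻¹)⁻¹ = g * f * g⁻¹ by group, hgf]
    obtain ⟨j, hj⟩ := mem_zpowers_iff.1 (hcent _ (mul_mem hgC hgC) hcg)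
    have h4 : orderOf (g * g) ∣ 10 := by
      rw [← hj, ← o10]
      exact orderOf_dvd_of_pow_eq_one (by rw [← zpow_natCast, ← zpow_mul, mul_comm, zpow_mul, zpow_natCast,
        pow_orderOf_eq_one, one_zpow])
    have h5 : orderOf (g * g) ∣ 2 ^ e := orderOf_dvd_of_pow_eq_one (by rw [← pow_two, ← pow_mul, mul_comm, pow_mul, hg2, one_pow])
    have h6 : orderOf (g * g) ∣ 2 :=
      (((by norm_num : Nat.Coprime 2 5).pow_left e).coprime_dvd_left h5).dvd_of_dvd_mul_right (show orderOf (g * g) ∣ 2 * 5 from h4)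
    have hzf : Commute z f := (D.commC hf).symm
    have h7 : ((z * f) ^ j) ^ 2 = 1 := by rw [hj]; exact orderOf_dvd_iff_pow_eq_one.1 h6
    have h8 : f ^ j = 1 := by
      rw [hzf.mul_zpow, ((hzf.zpow_zpow j j)).mul_pow, show (z ^ j) ^ 2 = 1 by
        rw [← zpow_natCast, ← zpow_mul, mul_comm, zpow_mul, zpow_natCast, pow_two, D.zz, one_zpow], one_mul] at h7
      have a1 : orderOf (f ^ j) ∣ 2 := orderOf_dvd_of_pow_eq_one h7
      have a2 : orderOf (f ^ j) ∣ 5 := orderOf_dvd_of_pow_eq_one (by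
        rw [← zpow_natCast, ← zpow_mul, mul_comm, zpow_mul, zpow_natCast, ← of, pow_orderOf_eq_one, one_zpow])
      exact orderOf_eq_one_iff.1 (Nat.eq_one_of_dvd_coprimes (by norm_num) a1 a2)
    rw [hzf.mul_zpow, h8, mul_one] at hj
    rcases Int.even_or_odd j with ⟨i, rfl⟩ | ⟨i, rfl⟩
    · refine Or.inl ?_
      rw [← hj, zpow_add, ← (Commute.refl z).mul_zpow, D.zz, one_zpow]
    · refine Or.inr ?_
      rw [← hj, zpow_add, zpow_mul, zpow_ofNat, pow_two, D.zz, one_zpow, one_mul, zpow_one]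
  obtain ⟨y₀, hy₀⟩ := H.exists_outer
  exact ⟨f, g, hf, of, ⟨hgC, D.outer_of_sq hy₀ hgC hgQ hsq, hgQ⟩, hgf⟩

theorem not_small {t : G} (ht : Outer z Q t) (hG : Nat.card G = 51840) (hct : Nat.card (Cz t) = 48) : False := by
  classical
  haveI : Fact (Nat.Prime 2) := ⟨Nat.prime_two⟩
  haveI : Fact (Nat.Prime 3) := ⟨Nat.prime_three⟩
  haveI : Fact (Nat.Prime 5) := ⟨by norm_num⟩
  have D := H.data
  obtain ⟨f, g, hf, of, hgO, hgf⟩ := H.exists_inverting_five
  obtain ⟨hcent, hnorm, o10⟩ := H.cent_five hf of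
  have hzf : Commute z f := (D.commC hf).symm
  have hginv : g⁻¹ = g := inv_eq_of_mul_eq_one_right hgO.2.1
  set L : Subgroup G := Cz f with hL
  have hzL : z ∈ L := mem_Cz.2 hzf
  have h10 : 10 ∣ Nat.card L := by
    rw [← o10, ← Subgroup.orderOf_mk (z * f) (mul_mem hzL (mem_Cz.2 (Commute.refl f)))]
    exact orderOf_dvd_natCard _
  -- the Sylow 2-subgroup of `L` is generated by `z`
  have hzP : IsPGroup 2 (zpowers (⟨z, hzL⟩ : L)) :=
    IsPGroup.of_card (n := 1) (by rw [Nat.card_zpowers, Subgroup.orderOf_mk, H.oz, pow_one])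
  obtain ⟨S, hS⟩ := hzP.exists_le_sylow
  have hSz : zpowers (⟨z, hzL⟩ : L) = S := by
    by_contra hne
    have hlt : (zpowers (⟨z, hzL⟩ : L)).subgroupOf (S : Subgroup L) < ⊤ := lt_top_iff_ne_top.2 fun e =>
      hne (le_antisymm hS (subgroupOf_eq_top.1 e))
    haveI : Group.IsNilpotent (S : Subgroup L) := S.isPGroup'.isNilpotent
    obtain ⟨r, hr, hrZ⟩ := SetLike.exists_of_lt (Group.normalizerCondition_of_isNilpotent (G := (S : Subgroup L)) _ hlt)
    have hzS : (⟨z, hzL⟩ : L) ∈ (S : Subgroup L) := hS (mem_zpowers _)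
    have h1 := mem_subgroupOf.1 ((mem_normalizer_iff.1 hr ⟨_, hzS⟩).1 (mem_subgroupOf.2 (mem_zpowers _)))
    have hrz : Commute ((r : L) : G) z := by
      obtain ⟨j, hj⟩ := mem_zpowers_iff.1 h1
      have hj' : z ^ j = ((r : L) : G) * z * ((r : L) : G)⁻¹ := by simpa using congrArg (fun x : L => (x : G)) hj
      refine mul_inv_eq_iff_eq_mul.1 ?_
      rw [← hj']
      rcases Int.even_or_odd j with ⟨i, rfl⟩ | ⟨i, rfl⟩
      · exfalso
        rw [zpow_add, ← (Commute.refl z).mul_zpow, D.zz, one_zpow] at hj'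
        exact D.frame.x2.ne (conj_eq_one_iff.1 hj'.symm)
      · rw [zpow_add, zpow_mul, zpow_ofNat, pow_two, D.zz, one_zpow, one_mul, zpow_one]
    obtain ⟨j, hj⟩ := mem_zpowers_iff.1 (hcent _ (mem_Cz.2 hrz) (mem_Cz.1 (r : L).2))
    obtain ⟨n, hn⟩ := IsPGroup.iff_orderOf.1 S.isPGroup' r
    have hrG : orderOf ((r : L) : G) = 2 ^ n := by rw [Subgroup.orderOf_coe, Subgroup.orderOf_coe, hn]
    -- a two-element of the cyclic group of order ten
    have h2 : ((r : L) : G) ^ 2 = 1 := by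
      refine orderOf_dvd_iff_pow_eq_one.1 ?_
      refine (((by norm_num : Nat.Coprime 2 5).pow_left n).coprime_dvd_left (dvd_of_eq hrG)).dvd_of_dvd_mul_right
        (?_ : _ ∣ 2 * 5)
      rw [← hj, show 2 * 5 = orderOf (z * f) from o10.symm]
      exact orderOf_dvd_of_pow_eq_one (by rw [← zpow_natCast, ← zpow_mul, mul_comm, zpow_mul, zpow_natCast,
        pow_orderOf_eq_one, one_zpow])
    apply hrZ
    refine mem_subgroupOf.2 (mem_zpowers_iff.2 ⟨j, Subtype.ext ?_⟩)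
    show z ^ j = ((r : L) : G)
    rw [← hj, hzf.mul_zpow] at h2 ⊢
    rw [(hzf.zpow_zpow j j).mul_pow, show (z ^ j) ^ 2 = 1 by
      rw [← zpow_natCast, ← zpow_mul, mul_comm, zpow_mul, zpow_natCast, pow_two, D.zz, one_zpow], one_mul] at h2
    have a1 : orderOf (f ^ j) ∣ 2 := orderOf_dvd_of_pow_eq_one h2
    have a2 : orderOf (f ^ j) ∣ 5 := orderOf_dvd_of_pow_eq_one (by
      rw [← zpow_natCast, ← zpow_mul, mul_comm, zpow_mul, zpow_natCast, ← of, pow_orderOf_eq_one, one_zpow])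
    rw [orderOf_eq_one_iff.1 (Nat.eq_one_of_dvd_coprimes (by norm_num) a1 a2), mul_one]
  have hidx : ¬ 2 ∣ (zpowers (⟨z, hzL⟩ : L)).index := hSz ▸ S.not_dvd_index
  obtain ⟨k, hk4, hLk⟩ : ∃ k ≤ 4, Nat.card L = 10 * 3 ^ k := by
    have h1 := (zpowers (⟨z, hzL⟩ : L)).card_mul_index
    rw [Nat.card_zpowers, Subgroup.orderOf_mk, H.oz] at h1
    have h2 := card_subgroup_dvd_card L
    rw [hG] at h2
    obtain ⟨m, hm⟩ := h10
    have hm2 : ¬ 2 ∣ m := fun hd => hidx (by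
      obtain ⟨r, rfl⟩ := hd
      exact ⟨5 * r, by omega⟩)
    have hd : m ∣ 2 ^ 6 * 3 ^ 4 := by
      refine Nat.dvd_of_mul_dvd_mul_left (by norm_num : 0 < 10) ?_
      rw [← hm]; exact h2.trans (by norm_num)
    have hd' : m ∣ 3 ^ 4 := ((((Nat.prime_two.coprime_iff_not_dvd).2 hm2).symm).pow_right 6).dvd_of_dvd_mul_left hd
    obtain ⟨k, hk, rfl⟩ := (Nat.dvd_prime_pow Nat.prime_three).1 hd'
    exact ⟨k, hk, hm⟩
  -- the normalizer of the subgroup generated by `f`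
  set N := normalizer (zpowers f : Set G) with hN
  have hLN : L ≤ N := fun x hx => by
    refine mem_normalizer_iff.2 fun y => ⟨fun hy => ?_, fun hy => ?_⟩
    · obtain ⟨j, rfl⟩ := mem_zpowers_iff.1 hy
      rw [((mem_Cz.1 hx).zpow_right j).eq, mul_inv_cancel_right]; exact hy
    · obtain ⟨j, hj⟩ := mem_zpowers_iff.1 hy
      have : y = f ^ j := by
        rw [eq_comm, ← mul_right_inj x, ← mul_left_inj x⁻¹, ((mem_Cz.1 hx).zpow_right j).eq, mul_inv_cancel_right]
        exact hj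
      exact this ▸ zpow_mem (mem_zpowers _) j
  have hgN : g ∈ N := by
    have hmap : ∀ y ∈ zpowers f, g * y * g⁻¹ ∈ zpowers f := fun y hy => by
      obtain ⟨j, rfl⟩ := mem_zpowers_iff.1 hy
      rw [show g * f ^ j * g⁻¹ = MulAut.conj g (f ^ j) from rfl, map_zpow, MulAut.conj_apply, hgf]
      exact zpow_mem (inv_mem (mem_zpowers f)) j
    refine mem_normalizer_iff.2 fun y => ⟨hmap y, fun hy => ?_⟩
    have := hmap _ hy
    rwa [show g * (g * y * g⁻¹) * g⁻¹ = (g * g) * y * (g * g)⁻¹ by group, hgO.2.1, one_mul, inv_one, mul_one] at this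
  have hcases : ∀ n ∈ N, n * f * n⁻¹ = f ∨ n * f * n⁻¹ = f⁻¹ := by
    intro n hn
    have hnf : n * f * n⁻¹ ∈ zpowers f := (mem_normalizer_iff.1 hn f).1 (mem_zpowers f)
    have hnzL : n * z * n⁻¹ ∈ L := by
      refine mem_Cz.2 ?_
      obtain ⟨j, hj⟩ := mem_zpowers_iff.1 ((mem_normalizer_iff.1 (inv_mem hn) f).1 (mem_zpowers f))
      have := (Commute.conj_iff n).2 (hzf.zpow_right j)
      rwa [hj, show n * (n⁻¹ * f * n⁻¹⁻¹) * n⁻¹ = f by group] at this
    have ho : orderOf (⟨n * z * n⁻¹, hnzL⟩ : L) = 2 := by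
      rw [Subgroup.orderOf_mk]; exact order_two_of_conj H.oz (isConj_iff.2 ⟨n, rfl⟩)
    obtain ⟨l, hl⟩ := Cfsg.Lib.InvolCalc.exists_conj_le S (H := zpowers (⟨n * z * n⁻¹, hnzL⟩ : L))
      (IsPGroup.of_card (n := 1) (by rw [Nat.card_zpowers, ho, pow_one]))
    have hl' := hl _ (mem_zpowers _)
    rw [← hSz, Cfsg.Lib.LargeExtra.mem_zpowers_two (Subtype.ext D.zz)] at hl'
    set d := (l : G)⁻¹ * n with hd
    have hdz : Commute d z := by
      refine mul_inv_eq_iff_eq_mul.1 ?_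
      rcases hl' with e | e
      · exfalso
        have e' : (l : G)⁻¹ * (n * z * n⁻¹) * (l : G) = 1 := congrArg (fun x : L => (x : G)) e
        exact D.frame.x2.ne (conj_eq_one_iff.1 (show d * z * d⁻¹ = 1 by rw [← e', hd]; group))
      · have e' : (l : G)⁻¹ * (n * z * n⁻¹) * (l : G) = z := congrArg (fun x : L => (x : G)) e
        exact (show d * z * d⁻¹ = (l : G)⁻¹ * (n * z * n⁻¹) * (l : G) by rw [hd]; group).trans e'
    have hdf : d * f * d⁻¹ = n * f * n⁻¹ := by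
      obtain ⟨j, hj⟩ := mem_zpowers_iff.1 hnf
      rw [hd, show (l : G)⁻¹ * n * f * ((l : G)⁻¹ * n)⁻¹ = (l : G)⁻¹ * (n * f * n⁻¹) * (l : G) by group, ← hj,
        mul_assoc, ← ((mem_Cz.1 l.2).zpow_right j).eq, inv_mul_cancel_left]
    have := hnorm d (mem_Cz.2 hdz) (hdf ▸ hnf)
    rwa [hdf] at this
  have hne : f⁻¹ ≠ f := fun e => by
    have : orderOf f ∣ 2 := orderOf_dvd_of_pow_eq_one (by rw [pow_two]; nth_rewrite 1 [← e]; exact inv_mul_cancel f)
    rw [of] at this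
    norm_num at this
  have hN2 : (L.subgroupOf N).index = 2 := by
    rw [Subgroup.index_eq_two_iff]
    refine ⟨⟨g, hgN⟩, fun b => ?_⟩
    simp only [mem_subgroupOf, Subgroup.coe_mul, hL, mem_Cz]
    rcases hcases b b.2 with e | e
    · refine Or.inr ⟨mul_inv_eq_iff_eq_mul.1 e, fun h => hne ?_⟩
      have h' := mul_inv_eq_iff_eq_mul.2 h.eq
      rw [show (b : G) * g * f * ((b : G) * g)⁻¹ = (b : G) * (g * f * g⁻¹) * (b : G)⁻¹ by group, hgf,
        show (b : G) * f⁻¹ * (b : G)⁻¹ = ((b : G) * f * (b : G)⁻¹)⁻¹ by group, e] at h'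
      exact h'
    · refine Or.inl ⟨mul_inv_eq_iff_eq_mul.1 ?_, fun h => hne ?_⟩
      · rw [show (b : G) * g * f * ((b : G) * g)⁻¹ = (b : G) * (g * f * g⁻¹) * (b : G)⁻¹ by group, hgf,
          show (b : G) * f⁻¹ * (b : G)⁻¹ = ((b : G) * f * (b : G)⁻¹)⁻¹ by group, e, inv_inv]
      · exact e.symm.trans (mul_inv_eq_iff_eq_mul.2 h.eq)
  have hNcard : Nat.card N = 20 * 3 ^ k := by
    rw [← (L.subgroupOf N).card_mul_index, Nat.card_congr (subgroupOfEquivOfLe hLN).toEquiv, hN2, hLk]; ring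
  let P : Sylow 5 G := Sylow.ofCard (zpowers f) (by
    rw [Nat.card_zpowers, of, hG, show (51840 : ℕ) = 5 ^ 1 * 10368 by norm_num,
      Nat.factorization_mul (by norm_num) (by norm_num), Finsupp.add_apply,
      Nat.Prime.factorization_pow (by norm_num), Finsupp.single_eq_same,
      Nat.factorization_eq_zero_of_not_dvd (n := 10368) (by norm_num)]
    norm_num)
  have hmod : Nat.card (Sylow 5 G) % 5 = 1 := card_sylow_modEq_one 5 G
  rw [P.card_eq_index_normalizer] at hmod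
  change N.index % 5 = 1 at hmod
  have hNi := N.card_mul_index
  rw [hNcard, hG] at hNi
  have hk : k = 3 := by
    refine arith_five k hk4 ?_
    have h3 : 0 < 3 ^ k := by positivity
    have : N.index = 2592 / 3 ^ k := by
      refine (Nat.div_eq_of_eq_mul_left h3 ?_).symm
      nlinarith
    rw [← this]; exact hmod
  subst hk
  -- the normal Sylow 3-subgroup of `L`
  obtain ⟨A₀, hA₀⟩ : ∃ A : Sylow 3 L, True := ⟨default, trivial⟩
  have hA27 : Nat.card A₀ = 27 := by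
    rw [A₀.card_eq_multiplicity, hLk, show 10 * 3 ^ 3 = 3 ^ 3 * 10 by norm_num, Nat.factorization_mul (by norm_num) (by norm_num),
      Finsupp.add_apply, Nat.Prime.factorization_pow Nat.prime_three, Finsupp.single_eq_same,
      Nat.factorization_eq_zero_of_not_dvd (n := 10) (by norm_num)]
    norm_num
  set M := normalizer ((A₀ : Subgroup L) : Set L) with hM
  have hA₀1 : M.index = 1 := by
    have hfM : (⟨f, mem_Cz.2 (Commute.refl f)⟩ : L) ∈ M := mem_normalizer_iff.2 fun y => by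
      have : (⟨f, mem_Cz.2 (Commute.refl f)⟩ : L) * y * (⟨f, mem_Cz.2 (Commute.refl f)⟩ : L)⁻¹ = y :=
        Subtype.ext (mul_inv_eq_iff_eq_mul.2 (mem_Cz.1 y.2).eq.symm)
      rw [this]
    have h5 : 5 ∣ Nat.card M := by
      rw [← of, ← Subgroup.orderOf_mk f (mem_Cz.2 (Commute.refl f) : f ∈ L), ← Subgroup.orderOf_mk _ hfM]
      exact orderOf_dvd_natCard _
    have h27 : 27 ∣ Nat.card M := hA27 ▸ card_dvd_of_le le_normalizer
    have h135 : 135 ∣ Nat.card M := Nat.Coprime.mul_dvd_of_dvd_of_dvd (by norm_num : Nat.Coprime 5 27) h5 h27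
    obtain ⟨r, hr⟩ := h135
    have h1 := M.card_mul_index
    rw [hr, hLk] at h1
    have h2 : Nat.card (Sylow 3 L) % 3 = 1 := card_sylow_modEq_one 3 L
    rw [A₀.card_eq_index_normalizer] at h2
    change M.index % 3 = 1 at h2
    have h4 : M.index ∣ 2 := ⟨r, by nlinarith⟩
    rcases (Nat.dvd_prime Nat.prime_two).1 h4 with e | e <;> omega
  haveI hA₀n : (A₀ : Subgroup L).Normal := normalizer_eq_top_iff.1 (Subgroup.index_eq_one.1 hA₀1)
  set A : Subgroup G := (A₀ : Subgroup L).map L.subtype with hA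
  have hAc : Nat.card A = 27 := by rw [hA, card_map_of_injective L.subtype_injective]; exact hA27
  have hmemA : ∀ x : G, x ∈ L → x ^ 27 = 1 → x ∈ A := by
    intro x hx h27
    obtain ⟨i, -, hi⟩ := (Nat.dvd_prime_pow Nat.prime_three).1 (show orderOf (⟨x, hx⟩ : L) ∣ 3 ^ 3 by
      rw [Subgroup.orderOf_mk]; exact orderOf_dvd_of_pow_eq_one h27)
    obtain ⟨l, hl⟩ := Cfsg.Lib.InvolCalc.exists_conj_le A₀ (H := zpowers (⟨x, hx⟩ : L))
      (IsPGroup.of_card (n := i) (by rw [Nat.card_zpowers, hi]))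
    have := hA₀n.conj_mem _ (hl _ (mem_zpowers _)) l
    refine mem_map.2 ⟨⟨x, hx⟩, ?_, rfl⟩
    rwa [show l * (l⁻¹ * ⟨x, hx⟩ * l) * l⁻¹ = ⟨x, hx⟩ by group] at this
  have hAL : A ≤ L := map_subtype_le _
  have h27 : ∀ x ∈ A, x ^ 27 = 1 := fun x hx => by
    have := pow_card_eq_one' (x := (⟨x, hx⟩ : A))
    rw [hAc] at this
    exact congrArg Subtype.val this
  have hnorm' : ∀ n ∈ N, ∀ x ∈ A, n * x * n⁻¹ ∈ A := fun n hn x hx => by
    refine hmemA _ (mem_Cz.2 ?_) ?_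
    · have hxf := mem_Cz.1 (hAL hx)
      obtain ⟨j, hj⟩ := mem_zpowers_iff.1 ((mem_normalizer_iff.1 (inv_mem hn) f).1 (mem_zpowers f))
      have := (Commute.conj_iff n).2 (hxf.zpow_right j)
      rwa [hj, show n * (n⁻¹ * f * n⁻¹⁻¹) * n⁻¹ = f by group] at this
    · rw [show n * x * n⁻¹ = MulAut.conj n x from rfl, ← map_pow, h27 x hx, map_one]
  have hzinv : ∀ x ∈ A, z * x * z⁻¹ = x⁻¹ := fun x hx => by
    refine Cfsg.Lib.DihedralEight.inverts D.zz (hnorm' z (hLN hzL)) (fun y hy hc => ?_) hx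
    obtain ⟨j, hj⟩ := mem_zpowers_iff.1 (hcent y (mem_Cz.2 (Commute.symm (show Commute z y from hc))) (mem_Cz.1 (hAL hy)))
    have h1 : orderOf y ∣ 10 := by
      rw [← hj, ← o10]
      exact orderOf_dvd_of_pow_eq_one (by rw [← zpow_natCast, ← zpow_mul, mul_comm, zpow_mul, zpow_natCast,
        pow_orderOf_eq_one, one_zpow])
    exact orderOf_eq_one_iff.1 (Nat.eq_one_of_dvd_coprimes (by norm_num) h1 (orderOf_dvd_of_pow_eq_one (h27 y hy)))
  have hAcomm : ∀ x ∈ A, ∀ y ∈ A, Commute x y := fun x hx y hy => by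
    have h1 := hzinv _ (mul_mem hx hy)
    rw [show z * (x * y) * z⁻¹ = (z * x * z⁻¹) * (z * y * z⁻¹) by group, hzinv x hx, hzinv y hy, mul_inv_rev] at h1
    simpa using (show Commute x⁻¹ y⁻¹ from h1).inv_inv
  have hsmall : ∀ u, Outer z Q u → ∀ B : Subgroup G, B ≤ A → (∀ x ∈ B, Commute x u) → Nat.card B ≤ 3 := by
    intro u hu B hB hc
    have hd : Nat.card B ∣ 27 := hAc ▸ card_dvd_of_le hB
    have hd' : Nat.card B ∣ 48 := by
      obtain ⟨c, -, hc'⟩ := D.outer_conj hu ht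
      have hle : B.map (MulAut.conj c).toMonoidHom ≤ Cz t := by
        rintro _ ⟨x, hx, rfl⟩
        exact mem_Cz.2 (hc' ▸ (Commute.conj_iff c).2 (hc x hx))
      rw [Nat.card_congr (B.equivMapOfInjective (MulAut.conj c).toMonoidHom (MulAut.conj c).injective).toEquiv, ← hct]
      exact card_dvd_of_le hle
    exact Nat.le_of_dvd (by norm_num) (by simpa using Nat.dvd_gcd hd hd')
  have hgA := hnorm' g hgN
  let φ : A →* A :=
    { toFun := fun x => ⟨x * (g * x * g⁻¹), mul_mem x.2 (hgA x x.2)⟩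
      map_one' := Subtype.ext (by simp)
      map_mul' := fun x y => Subtype.ext (by
        show (x : G) * y * (g * (x * y) * g⁻¹) = x * (g * x * g⁻¹) * (y * (g * y * g⁻¹))
        rw [show g * ((x : G) * y) * g⁻¹ = (g * x * g⁻¹) * (g * y * g⁻¹) by group,
          show (x : G) * y * (g * x * g⁻¹ * (g * y * g⁻¹)) = x * (y * (g * x * g⁻¹)) * (g * y * g⁻¹) by group,
          (hAcomm y y.2 _ (hgA x x.2)).eq]
        group) }
  have hrange : Nat.card φ.range ≤ 3 := by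
    rw [Nat.card_congr ((φ.range).equivMapOfInjective A.subtype A.subtype_injective).toEquiv]
    refine hsmall g hgO _ (map_subtype_le _) ?_
    rintro _ ⟨_, ⟨x, rfl⟩, rfl⟩
    refine (mul_inv_eq_iff_eq_mul.1 ?_ : Commute g ((φ x : A) : G)).symm
    show g * ((x : G) * (g * x * g⁻¹)) * g⁻¹ = x * (g * x * g⁻¹)
    rw [show g * ((x : G) * (g * x * g⁻¹)) * g⁻¹ = (g * x * g⁻¹) * ((g * g) * x * (g * g)⁻¹) by group, hgO.2.1, one_mul,
      inv_one, mul_one, (hAcomm x x.2 _ (hgA x x.2)).eq]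
  have hker : Nat.card φ.ker ≤ 3 := by
    have hgz : Outer z Q (g * z) := ⟨mul_mem hgO.1 (D.le D.frame.x2.mem), by
        rw [show g * z * (g * z) = g * (z * g) * z by group, (D.commC hgO.1).eq.symm,
          show g * (g * z) * z = (g * g) * (z * z) by group, hgO.2.1, D.zz, one_mul],
      fun h => hgO.2.2 (by simpa [mul_assoc, D.zz] using mul_mem h D.frame.x2.mem)⟩
    rw [Nat.card_congr ((φ.ker).equivMapOfInjective A.subtype A.subtype_injective).toEquiv]
    refine hsmall _ hgz _ (map_subtype_le _) ?_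
    rintro _ ⟨x, hx, rfl⟩
    have h1 : (x : G) * (g * x * g⁻¹) = 1 := congrArg Subtype.val (MonoidHom.mem_ker.1 hx)
    refine (mul_inv_eq_iff_eq_mul.1 ?_ : Commute (g * z) (x : G)).symm
    rw [show g * z * (x : G) * (g * z)⁻¹ = g * (z * x * z⁻¹) * g⁻¹ by group, hzinv x x.2]
    rw [show g * (x : G)⁻¹ * g⁻¹ = (g * x * g⁻¹)⁻¹ by group, inv_eq_of_mul_eq_one_left h1]
  have h := card_eq_card_quotient_mul_card_subgroup φ.ker
  rw [Nat.card_congr (QuotientGroup.quotientKerEquivRange φ).toEquiv, hAc] at h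
  nlinarith

theorem card_eq {t : G} (ht : Outer z Q t) : Nat.card G = 604800 ∧ Nat.card (Cz t) = 240 := by
  obtain ⟨w, h, K, W, S⟩ := H.exists_tdata ht
  rcases H.order_cases ht S with ⟨h1, h2⟩ | ⟨h1, h2, -⟩
  · exact (H.not_small ht h1 h2).elim
  · exact ⟨h1, h2⟩

end Hyp

end Cfsg.Lib.HallJankoType
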