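import Cfsg.Agent.LocalThree.HallJankoType.SylowFive

/-!
The centralizers of elements of order five have order 50 or 300.
-/

set_option autoImplicit false
set_option linter.unusedSectionVars false
set_option linter.style.haveILetI false

namespace Cfsg.Lib.HallJankoType

open Subgroup Equiv

universe u

variable {G : Type u} [Group G] [Finite G] {z : G} {Q : Subgroup G} {a : Fin 5 → G} {σ : Cz z →* Perm (Fin 5)}

theorem mod_five_seven : ∀ i, i < 2 → ∀ j, j ≤ i → 7 ^ j % 5 = 7 ^ i % 5 → j = i := by decide +kernel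

theorem mod_five_three : ∀ i, i < 4 → ∀ j, j ≤ i → 3 ^ j % 5 = 3 ^ i % 5 → j = i := by decide +kernel

/-- fixed points of an element of prime power order on a normalised subgroup -/
theorem fix_modEq {p n : ℕ} [Fact p.Prime] (A : Subgroup G) {g : G} (hn : ∀ x ∈ A, g * x * g⁻¹ ∈ A)
    (hg : g ^ p ^ n = 1) : Nat.card ↥(A ⊓ Cz g) ≡ Nat.card A [MOD p] := by
  classical
  let πe : Function.End A := fun x => ⟨g * x * g⁻¹, hn x x.2⟩
  have hit : ∀ (k : ℕ) (x : A), (((πe ^ k) x : A) : G) = g ^ k * x * (g ^ k)⁻¹ := fun k => by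
    induction k with
    | zero => intro x; rw [pow_zero]; simp [Function.End.one_def]
    | succ k ih =>
      intro x
      rw [pow_succ']
      show g * (((πe ^ k) x : A) : G) * g⁻¹ = _
      rw [ih x, pow_succ']; group
  have hπ : πe ^ p ^ n = 1 := by
    funext x
    refine Subtype.ext ?_
    rw [hit, hg]
    show 1 * (x : G) * 1⁻¹ = (x : G)
    group
  letI := Fintype.ofFinite A
  letI := Fintype.ofFinite (Function.fixedPoints πe)
  have h := Equiv.Perm.card_fixedPoints_modEq (p := p) (n := n) hπ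
  simp only [← Nat.card_eq_fintype_card] at h
  rw [Nat.card_congr (α := ↥(A ⊓ Cz g)) (β := Function.fixedPoints πe)
    { toFun := fun x => ⟨⟨x.1, x.2.1⟩, Subtype.ext (show g * x.1 * g⁻¹ = x.1 by
        rw [(mem_Cz.1 x.2.2).symm.eq, mul_inv_cancel_right])⟩
      invFun := fun x => ⟨x.1.1, x.1.2, mem_Cz.2 (Commute.symm (mul_inv_eq_iff_eq_mul.1 (congrArg Subtype.val x.2)))⟩
      left_inv := fun x => rfl
      right_inv := fun x => rfl }]
  exact h.symm

namespace Hyp

variable (H : Hyp z Q a σ)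
include H

set_option maxHeartbeats 1200000 in
theorem five_card {f : G} (hf : f ∈ Cz z) (of : orderOf f = 5) : Nat.card (Cz f) = 50 := by
  classical
  haveI : Fact (Nat.Prime 5) := ⟨by norm_num⟩
  haveI : Fact (Nat.Prime 3) := ⟨Nat.prime_three⟩
  have D := H.data
  obtain ⟨t, ht⟩ := H.exists_outer
  have hG := (H.card_eq ht).1
  obtain ⟨-, -, -, -, O, hOL, hOn, hOc, hOodd, hOmem⟩ := H.five_z hf of
  obtain ⟨R, hR⟩ := (IsPGroup.of_card (n := 1) (by rw [Nat.card_zpowers, of, pow_one]) :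
    IsPGroup 5 (zpowers f)).exists_le_sylow
  obtain ⟨hRC, hR25, hRN, -⟩ := H.sylow_five R
  have hfR : f ∈ (R : Subgroup G) := hR (mem_zpowers f)
  haveI hRcomm : IsMulCommutative (R : Subgroup G) :=
    IsPGroup.isMulCommutative_of_card_eq_prime_sq (p := 5) (by rw [hR25]; norm_num)
  have hRL : (R : Subgroup G) ≤ Cz f := fun x hx =>
    mem_Cz.2 (congrArg Subtype.val (mul_comm' (⟨x, hx⟩ : (R : Subgroup G)) ⟨f, hfR⟩))
  have hRO : (R : Subgroup G) ≤ O := fun x hx => hOmem x (hRL hx) (by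
    have h1 := _root_.orderOf_dvd_natCard (⟨x, hx⟩ : (R : Subgroup G))
    rw [Subgroup.orderOf_mk, hR25] at h1
    exact (by decide : Odd 25).of_dvd_nat h1)
  -- `R` is self-normalizing in `O`
  have hNO : ∀ g ∈ O, g ∈ normalizer ((R : Subgroup G) : Set G) → g ∈ (R : Subgroup G) := by
    have hle : (R : Subgroup G) ≤ O ⊓ normalizer ((R : Subgroup G) : Set G) := le_inf hRO le_normalizer
    have hd : Nat.card ↥(O ⊓ normalizer ((R : Subgroup G) : Set G)) ∣ 300 := hRN ▸ card_dvd_of_le inf_le_right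
    have ho : Odd (Nat.card ↥(O ⊓ normalizer ((R : Subgroup G) : Set G))) := hOodd.of_dvd_nat (card_dvd_of_le inf_le_left)
    have h3 : ¬ 3 ∣ Nat.card ↥(O ⊓ normalizer ((R : Subgroup G) : Set G)) := by
      intro h3
      obtain ⟨g, hg⟩ := exists_prime_orderOf_dvd_card' 3 h3
      have og : orderOf (g : G) = 3 := by rw [Subgroup.orderOf_coe, hg]
      have hm := fix_modEq (p := 3) (n := 1) (R : Subgroup G) (g := (g : G))
        (fun x hx => (mem_normalizer_iff.1 g.2.2 x).1 hx) (by rw [pow_one, ← og, pow_orderOf_eq_one])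
      rw [hR25] at hm
      have hd' : Nat.card ↥((R : Subgroup G) ⊓ Cz (g : G)) ∣ 5 ^ 2 := by
        rw [show (5 : ℕ) ^ 2 = Nat.card (R : Subgroup G) by rw [hR25]; norm_num]; exact card_dvd_of_le inf_le_left
      obtain ⟨i, hi2, hi⟩ := (Nat.dvd_prime_pow (by norm_num : Nat.Prime 5)).1 hd'
      have hi2' : i = 2 := by
        rw [hi] at hm
        interval_cases i
        · exfalso
          have hff : f ∈ (R : Subgroup G) ⊓ Cz (g : G) := ⟨hfR, mem_Cz.2 (mem_Cz.1 (hOL g.2.1)).symm⟩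
          rw [Subgroup.eq_bot_of_card_eq _ (hi.trans (pow_zero 5)), mem_bot] at hff
          rw [hff, orderOf_one] at of
          omega
        · exact absurd hm (by decide)
        · rfl
      have htop : (R : Subgroup G) ⊓ Cz (g : G) = R :=
        eq_of_le_of_card_ge inf_le_left (by rw [hi, hi2', hR25]; norm_num)
      have hgR : (g : G) ∈ (R : Subgroup G) :=
        hRC.le (mem_centralizer_iff.2 fun x hx => (mem_Cz.1 (htop.ge hx).2).eq)
      have := _root_.orderOf_dvd_natCard (⟨(g : G), hgR⟩ : (R : Subgroup G))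
      rw [Subgroup.orderOf_mk, og, hR25] at this
      norm_num at this
    have hc : ((3 : ℕ).Coprime (Nat.card ↥(O ⊓ normalizer ((R : Subgroup G) : Set G)))) :=
      Nat.prime_three.coprime_iff_not_dvd.2 h3
    have h25 : Nat.card ↥(O ⊓ normalizer ((R : Subgroup G) : Set G)) ∣ 25 := by
      have h100 := hc.symm.dvd_of_dvd_mul_left (show _ ∣ 3 * 100 from hd)
      exact (Nat.Coprime.dvd_of_dvd_mul_left ((Nat.coprime_two_left.2 ho).symm.pow_right 2)
        (show _ ∣ 2 ^ 2 * 25 from h100))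
    have heq := eq_of_le_of_card_ge hle (by rw [hR25]; exact Nat.le_of_dvd (by norm_num) h25)
    exact fun g hg hgn => heq.ge ⟨hg, hgn⟩
  set R' := (R : Subgroup G).subgroupOf O with hR'
  have hR'c : Nat.card R' = 25 := by rw [hR', Nat.card_congr (subgroupOfEquivOfLe hRO).toEquiv, hR25]
  have hR'i : ¬ 5 ∣ R'.index := fun hd => R.not_dvd_index (hd.trans (relIndex_dvd_index_of_le hRO))
  let T : Sylow 5 O := (IsPGroup.of_card (n := 2) (by rw [hR'c]; norm_num) : IsPGroup 5 R').toSylow hR'i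
  have hPC : normalizer ((T : Subgroup O) : Set O) ≤ centralizer ((T : Subgroup O) : Set O) := by
    intro n hn
    have hnR : (n : G) ∈ (R : Subgroup G) := hNO _ n.2 (mem_normalizer_iff.2 fun x => by
      constructor
      · intro hx
        exact mem_subgroupOf.1 ((mem_normalizer_iff.1 hn ⟨x, hRO hx⟩).1 (mem_subgroupOf.2 hx))
      · intro hx
        have hxO : x ∈ O := by
          have := mul_mem (mul_mem (inv_mem n.2) (hRO hx)) n.2
          simpa [mul_assoc] using this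
        exact mem_subgroupOf.1 ((mem_normalizer_iff.1 hn ⟨x, hxO⟩).2 (mem_subgroupOf.2 hx)))
    exact mem_centralizer_iff.2 fun v hv => Subtype.ext (show (v : G) * n = n * v from congrArg Subtype.val (mul_comm' (⟨v, mem_subgroupOf.1 hv⟩ : (R : Subgroup G)) ⟨n, hnR⟩))
  obtain ⟨M0, hMn, hMc⟩ : ∃ M0 : Subgroup O, M0.Normal ∧ IsComplement' M0 (T : Subgroup O) :=
    ⟨_, MonoidHom.normal_ker _, MonoidHom.ker_transferSylow_isComplement' T hPC⟩
  have hM0c : Nat.card M0 = R'.index := hMc.index_eq_card.symm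
  have hM0i : M0.index = 25 := hMc.symm.index_eq_card.trans hR'c
  set M : Subgroup G := M0.map O.subtype with hM
  have hMcard : Nat.card M = R'.index := by rw [hM, card_map_of_injective O.subtype_injective, hM0c]
  have hOcard : Nat.card O = 25 * Nat.card M := by rw [hMcard, ← R'.card_mul_index, hR'c]
  have h5M : ¬ 5 ∣ Nat.card M := hMcard ▸ hR'i
  have hM189 : Nat.card M ∣ 189 := by
    have h1 : 2 * (25 * Nat.card M) ∣ 604800 := by
      rw [← hOcard, ← hOc, ← hG]; exact card_subgroup_dvd_card _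
    have h2 : Nat.card M ∣ 2 ^ 6 * 189 := Nat.dvd_of_mul_dvd_mul_left (by norm_num : 0 < 50) (by
      rw [← mul_assoc] at h1; exact h1)
    exact Nat.Coprime.dvd_of_dvd_mul_left
      ((Nat.coprime_two_left.2 (hOodd.of_dvd_nat ⟨25, by rw [hOcard]; ring⟩)).symm.pow_right 6) h2
  have hMmem : ∀ x, x ∈ M ↔ x ∈ O ∧ ¬ 5 ∣ orderOf x := by
    intro x
    constructor
    · rintro ⟨y, hy, rfl⟩
      refine ⟨y.2, fun hd => h5M (hd.trans ?_)⟩
      show orderOf (y : G) ∣ _
      rw [Subgroup.orderOf_coe, ← Subgroup.orderOf_mk y hy, hMcard, ← hM0c]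
      exact _root_.orderOf_dvd_natCard _
    · rintro ⟨hxO, hx5⟩
      refine ⟨⟨x, hxO⟩, ?_, rfl⟩
      rw [SetLike.mem_coe, ← QuotientGroup.eq_one_iff (N := M0)]
      have h1 : orderOf ((⟨x, hxO⟩ : O) : O ⧸ M0) ∣ 5 ^ 2 := by
        have := _root_.orderOf_dvd_natCard ((⟨x, hxO⟩ : O) : O ⧸ M0)
        rw [← Subgroup.index, hM0i] at this
        exact this
      have h2 : orderOf ((⟨x, hxO⟩ : O) : O ⧸ M0) ∣ orderOf x := by
        rw [← Subgroup.orderOf_mk x hxO]; exact orderOf_map_dvd (QuotientGroup.mk' M0) _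
      exact orderOf_eq_one_iff.1 (Nat.eq_one_of_dvd_coprimes
        (((by norm_num : Nat.Prime 5).coprime_iff_not_dvd.2 hx5).pow_left 2) h1 h2)
  have hMconj : ∀ g ∈ Cz f, ∀ x ∈ M, g * x * g⁻¹ ∈ M := fun g hg x hx => by
    rw [hMmem] at hx ⊢
    exact ⟨hOn g hg x hx.1, by rw [show g * x * g⁻¹ = MulAut.conj g x from rfl, MulEquiv.orderOf_eq]; exact hx.2⟩
  obtain ⟨hcent, -, o10⟩ := H.cent_five hf of
  have hzL : z ∈ Cz f := mem_Cz.2 (D.commC hf).symm
  have hzinv : ∀ x ∈ M, z * x * z⁻¹ = x⁻¹ := fun x hx => by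
    refine Cfsg.Lib.DihedralEight.inverts D.zz (hMconj z hzL) (fun y hy hc => ?_) hx
    obtain ⟨j, hj⟩ := mem_zpowers_iff.1 (hcent y (mem_Cz.2 (show Commute z y from hc).symm)
      (mem_Cz.1 (hOL ((hMmem y).1 hy).1)))
    have h1 : orderOf y ∣ 10 := by
      rw [← hj, ← o10]
      exact orderOf_dvd_of_pow_eq_one (by rw [← zpow_natCast, ← zpow_mul, mul_comm, zpow_mul, zpow_natCast,
        pow_orderOf_eq_one, one_zpow])
    have h2 : orderOf y ∣ Nat.card M := by
      rw [← Subgroup.orderOf_mk y hy]; exact _root_.orderOf_dvd_natCard _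
    exact orderOf_eq_one_iff.1 (Nat.dvd_one.1 (by
      have h3 := Nat.dvd_gcd h1 (h2.trans hM189)
      norm_num at h3 ⊢
      exact h3))
  have hMab : ∀ x ∈ M, ∀ y ∈ M, Commute x y := fun x hx y hy => by
    have h1 := hzinv _ (mul_mem hx hy)
    rw [show z * (x * y) * z⁻¹ = (z * x * z⁻¹) * (z * y * z⁻¹) by group, hzinv x hx, hzinv y hy, mul_inv_rev] at h1
    simpa using (show Commute x⁻¹ y⁻¹ from h1).inv_inv
  -- subgroups of `M` left invariant by `R` are fixed by it
  have hfixed : ∀ A : Subgroup G, A ≤ M → (∀ g ∈ (R : Subgroup G), ∀ x ∈ A, g * x * g⁻¹ ∈ A) →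
      (∀ d : ℕ, d ∣ Nat.card A → d % 5 = Nat.card A % 5 → d = Nat.card A) → A = ⊥ := by
    intro A hAM hAR hd
    refine (eq_bot_iff_forall _).2 fun x hx => ?_
    have hxR : x ∈ (R : Subgroup G) := by
      rw [← hRC]
      refine mem_centralizer_iff.2 fun g hg => ?_
      have hg25 : g ^ 5 ^ 2 = 1 := by
        have := pow_card_eq_one' (x := (⟨g, hg⟩ : (R : Subgroup G)))
        rw [hR25] at this
        simpa using congrArg Subtype.val this
      have hm := fix_modEq (p := 5) (n := 2) A (fun y hy => hAR g hg y hy) hg25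
      have heq : A ⊓ Cz g = A := eq_of_le_of_card_ge inf_le_left (hd _ (card_dvd_of_le inf_le_left) hm).ge
      exact (mem_Cz.1 (heq.ge hx).2).eq.symm
    have h1 : orderOf x ∣ 25 := by
      rw [← hR25, ← Subgroup.orderOf_mk x hxR]; exact _root_.orderOf_dvd_natCard _
    have h2 : orderOf x ∣ Nat.card M := by
      rw [← Subgroup.orderOf_mk x (hAM hx)]; exact _root_.orderOf_dvd_natCard _
    exact orderOf_eq_one_iff.1 (Nat.dvd_one.1 (by
      have h3 := Nat.dvd_gcd h1 (h2.trans hM189)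
      norm_num at h3 ⊢
      exact h3))
  -- the elements of order dividing seven
  let M7 : Subgroup G :=
    { carrier := {x | x ∈ M ∧ x ^ 7 = 1}
      one_mem' := ⟨one_mem M, one_pow 7⟩
      mul_mem' := fun {x y} hx hy => ⟨mul_mem hx.1 hy.1, by rw [(hMab x hx.1 y hy.1).mul_pow, hx.2, hy.2, one_mul]⟩
      inv_mem' := fun {x} hx => ⟨inv_mem hx.1, by rw [inv_pow, hx.2, inv_one]⟩ }
  have hM7 : M7 = ⊥ := by
    refine hfixed M7 (fun x hx => hx.1) (fun g hg x hx => ⟨hMconj g (hRL hg) x hx.1, by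
      rw [show g * x * g⁻¹ = MulAut.conj g x from rfl, ← map_pow, hx.2, map_one]⟩) ?_
    have hp : IsPGroup 7 M7 := fun x => ⟨1, Subtype.ext (by rw [SubmonoidClass.coe_pow, pow_one]; exact x.2.2)⟩
    haveI : Fact (Nat.Prime 7) := ⟨by norm_num⟩
    obtain ⟨i, hi⟩ := IsPGroup.iff_card.1 hp
    have hd : 7 ^ i ∣ 189 := hi ▸ (card_dvd_of_le (fun x hx => hx.1 : M7 ≤ M)).trans hM189
    have hi1 : i ≤ 1 := by
      by_contra hlt
      exact absurd ((pow_dvd_pow 7 (show 2 ≤ i by omega)).trans hd) (by norm_num)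
    intro d hd' hmod
    rw [hi] at hd' hmod ⊢
    obtain ⟨j, hj, rfl⟩ := (Nat.dvd_prime_pow (by norm_num : Nat.Prime 7)).1 hd'
    rw [mod_five_seven i (by omega) j hj hmod]
  have hM27 : Nat.card M ∣ 3 ^ 3 := by
    haveI : Fact (Nat.Prime 7) := ⟨by norm_num⟩
    have h7 : ¬ 7 ∣ Nat.card M := by
      intro h7
      obtain ⟨x, hx⟩ := exists_prime_orderOf_dvd_card' 7 h7
      have hxM : (x : G) ∈ M7 := ⟨x.2, by rw [← SubmonoidClass.coe_pow, ← hx, pow_orderOf_eq_one]; rfl⟩
      rw [hM7, mem_bot] at hxM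
      rw [show x = 1 from Subtype.ext hxM, orderOf_one] at hx
      omega
    exact ((by norm_num : Nat.Prime 7).coprime_iff_not_dvd.2 h7).symm.dvd_of_dvd_mul_right (show _ ∣ 3 ^ 3 * 7 from hM189)
  have hMbot : M = ⊥ := by
    refine hfixed M le_rfl (fun g hg => hMconj g (hRL hg)) ?_
    obtain ⟨i, hi, hiM⟩ := (Nat.dvd_prime_pow Nat.prime_three).1 hM27
    intro d hd' hmod
    rw [hiM] at hd' hmod ⊢
    obtain ⟨j, hj, rfl⟩ := (Nat.dvd_prime_pow Nat.prime_three).1 hd'
    rw [mod_five_three i (by omega) j hj hmod]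
  rw [hOc, hOcard, hMbot, card_bot]

theorem five_cases {x : G} (ox : orderOf x = 5) : Nat.card (Cz x) = 50 ∨ Nat.card (Cz x) = 300 := by
  classical
  haveI : Fact (Nat.Prime 5) := ⟨by norm_num⟩
  obtain ⟨P, hP⟩ := (IsPGroup.of_card (n := 1) (by rw [Nat.card_zpowers, ox, pow_one]) :
    IsPGroup 5 (zpowers x)).exists_le_sylow
  obtain ⟨-, -, -, f₁, f₂, -, -, o₁, -, -, hcov, ⟨c, hc⟩, h300, -⟩ := H.sylow_five P
  have hcz : ∀ (x g : G), Nat.card (Cz (g * x * g⁻¹)) = Nat.card (Cz x) := fun x g => by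
    refine Nat.card_congr ((MulAut.conj g).toEquiv.subtypeEquiv fun y => ?_).symm
    show y ∈ Cz x ↔ g * y * g⁻¹ ∈ Cz (g * x * g⁻¹)
    rw [mem_Cz, mem_Cz, Commute.conj_iff]
  have hgen : ∀ y : G, zpowers y = zpowers x → Nat.card (Cz x) = Nat.card (Cz y) := fun y hy => by
    show Nat.card (centralizer ({x} : Set G)) = Nat.card (centralizer ({y} : Set G))
    rw [← centralizer_closure, ← centralizer_closure ({y} : Set G), ← zpowers_eq_closure, ← zpowers_eq_closure, hy]
  obtain ⟨g, hg | hg⟩ := hcov (zpowers x) hP (by rw [Nat.card_zpowers, ox])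
  · left
    rw [hgen _ hg, hcz, ← hcz f₁ c]
    exact H.five_card hc (by rw [show c * f₁ * c⁻¹ = MulAut.conj c f₁ from rfl, MulEquiv.orderOf_eq, o₁])
  · right
    rw [hgen _ hg, hcz, h300]

end Hyp

end Cfsg.Lib.HallJankoType
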