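import Cfsg.Agent.LocalThree.HallJankoType.ThreeLocal
import Cfsg.Agent.LocalThree.HallJankoType.FiveFull
import Cfsg.Agent.Components.Cores

/-!
Elements of order seven, and the order of the centralizer of an element of order three of `C(z)`.
-/

set_option autoImplicit false
set_option linter.unusedSectionVars false
set_option linter.style.haveILetI false

namespace Cfsg.Lib.HallJankoType

open Subgroup Equiv

universe u

variable {G : Type u} [Group G] [Finite G] {z : G} {Q : Subgroup G} {a : Fin 5 → G} {σ : Cz z →* Perm (Fin 5)}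

theorem card_Cz_conj (g x : G) : Nat.card (Cz (g * x * g⁻¹)) = Nat.card (Cz x) := by
  refine Nat.card_congr ((MulAut.conj g).toEquiv.subtypeEquiv fun y => ?_).symm
  show y ∈ Cz x ↔ g * y * g⁻¹ ∈ Cz (g * x * g⁻¹)
  rw [mem_Cz, mem_Cz, Commute.conj_iff]

/-- Frattini for a normal subgroup containing a Sylow subgroup -/
theorem frattini_dvd {L : Type*} [Group L] [Finite L] {p : ℕ} [Fact p.Prime] (M : Subgroup L) [M.Normal] (T : Sylow p L)
    (hT : (T : Subgroup L) ≤ M) :
    Nat.card L ∣ Nat.card M * Nat.card (normalizer ((T : Subgroup L) : Set L)) := by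
  let T' : Sylow p M := T.subtype hT
  have hfr := Sylow.normalizer_sup_eq_top (N := M) T'
  rw [show (T' : Subgroup M).map M.subtype = (T : Subgroup L) from map_subgroupOf_eq_of_le hT, sup_comm] at hfr
  have := Cfsg.Lib.Components.card_sup_dvd_mul M (normalizer ((T : Subgroup L) : Set L))
  rwa [hfr, card_top] at this

theorem seven_arith_fin : ∀ i : Fin 4, ∀ e : Fin 7, 6 % (e : ℕ) = 0 → (86400 : ℕ) % (3 ^ (i : ℕ) * (e : ℕ)) = 0 →
    (86400 : ℕ) / (3 ^ (i : ℕ) * (e : ℕ)) % 7 = 1 →
    (i = 0 ∧ e = 6) ∨ (i = 1 ∧ e = 2) ∨ (i = 2 ∧ e = 3) ∨ (i = 3 ∧ e = 1) := by decide +kernel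

theorem seven_arith (i : ℕ) (hi : i < 4) (e : ℕ) (he : e < 7) (h1 : 6 % e = 0) (h2 : 86400 % (3 ^ i * e) = 0)
    (h3 : 86400 / (3 ^ i * e) % 7 = 1) :
    (i = 0 ∧ e = 6) ∨ (i = 1 ∧ e = 2) ∨ (i = 2 ∧ e = 3) ∨ (i = 3 ∧ e = 1) :=
  (seven_arith_fin ⟨i, hi⟩ ⟨e, he⟩ h1 h2 h3).imp (fun h => ⟨congrArg Fin.val h.1, congrArg Fin.val h.2⟩)
    (Or.imp (fun h => ⟨congrArg Fin.val h.1, congrArg Fin.val h.2⟩)
      (Or.imp (fun h => ⟨congrArg Fin.val h.1, congrArg Fin.val h.2⟩) fun h => ⟨congrArg Fin.val h.1, congrArg Fin.val h.2⟩))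

theorem eight_arith : ∀ n : Fin 25, 24 % (n : ℕ) = 0 → (n : ℕ) % 7 = 1 → (n : ℕ) ≠ 1 → (n : ℕ) = 8 := by decide +kernel

namespace Hyp

variable (H : Hyp z Q a σ)
include H

theorem card_cent_invol {u : G} (hu : orderOf u = 2) : Nat.card (Cz u) = 1920 ∨ Nat.card (Cz u) = 240 := by
  obtain ⟨t, ht⟩ := H.exists_outer
  rcases H.class_cases ht hu with e | e
  · obtain ⟨g, rfl⟩ := isConj_iff.1 e
    exact Or.inl ((card_Cz_conj g z).trans H.data.card_Cz)
  · obtain ⟨g, rfl⟩ := isConj_iff.1 e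
    exact Or.inr ((card_Cz_conj g t).trans (H.card_eq ht).2)

theorem seven_cent {d : G} (od : orderOf d = 7) :
    ∃ i e, Nat.card (Cz d) = 7 * 3 ^ i ∧ Nat.card (normalizer (zpowers d : Set G)) = Nat.card (Cz d) * e ∧
      ((i = 0 ∧ e = 6) ∨ (i = 1 ∧ e = 2) ∨ (i = 2 ∧ e = 3) ∨ (i = 3 ∧ e = 1)) := by
  classical
  haveI : Fact (Nat.Prime 7) := ⟨by norm_num⟩
  haveI : Fact (Nat.Prime 5) := ⟨by norm_num⟩
  haveI : Fact (Nat.Prime 2) := ⟨Nat.prime_two⟩
  obtain ⟨t, ht⟩ := H.exists_outer
  have hG := (H.card_eq ht).1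
  have hdd : d ∈ Cz d := mem_Cz.2 (Commute.refl d)
  have h7 : 7 ∣ Nat.card (Cz d) := by
    rw [← od, ← Subgroup.orderOf_mk d hdd]; exact _root_.orderOf_dvd_natCard _
  have hnot : ∀ p, p.Prime → ∀ x ∈ Cz d, orderOf x = p → 7 ∣ Nat.card (Cz x) := fun p _ x hx _ => by
    rw [← od, ← Subgroup.orderOf_mk d (mem_Cz.2 (mem_Cz.1 hx).symm : d ∈ Cz x)]; exact _root_.orderOf_dvd_natCard _
  have h2 : ¬ 2 ∣ Nat.card (Cz d) := fun h => by
    obtain ⟨x, hx⟩ := exists_prime_orderOf_dvd_card' 2 h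
    have ox : orderOf (x : G) = 2 := by rw [Subgroup.orderOf_coe, hx]
    have := hnot 2 Nat.prime_two x x.2 ox
    rcases H.card_cent_invol ox with r | r <;> rw [r] at this <;> norm_num at this
  have h5 : ¬ 5 ∣ Nat.card (Cz d) := fun h => by
    obtain ⟨x, hx⟩ := exists_prime_orderOf_dvd_card' 5 h
    have ox : orderOf (x : G) = 5 := by rw [Subgroup.orderOf_coe, hx]
    have := hnot 5 (by norm_num) x x.2 ox
    rcases H.five_cases ox with r | r <;> rw [r] at this <;> norm_num at this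
  have hdvd : Nat.card (Cz d) ∣ 2 ^ 7 * (5 ^ 2 * (7 * 3 ^ 3)) := by
    have := card_subgroup_dvd_card (Cz d)
    rw [hG] at this
    norm_num at this ⊢
    exact this
  have h1 := ((Nat.prime_two.coprime_iff_not_dvd.2 h2).symm.pow_right 7).dvd_of_dvd_mul_left hdvd
  have h1' := (((by norm_num : Nat.Prime 5).coprime_iff_not_dvd.2 h5).symm.pow_right 2).dvd_of_dvd_mul_left h1
  obtain ⟨m, hm⟩ := h7
  rw [hm] at h1'
  obtain ⟨i, hi, rfl⟩ := (Nat.dvd_prime_pow Nat.prime_three).1 (Nat.dvd_of_mul_dvd_mul_left (by norm_num : 0 < 7) h1')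
  set N := normalizer (zpowers d : Set G) with hN
  have hCN : Cz d ≤ N := fun g hg => by
    rw [hN, mem_normalizer_zpowers, (mem_Cz.1 hg).eq, mul_inv_cancel_right]
  set e := ((Cz d).subgroupOf N).index with he
  have hNc : Nat.card N = Nat.card (Cz d) * e := by
    rw [← ((Cz d).subgroupOf N).card_mul_index, Nat.card_congr (subgroupOfEquivOfLe hCN).toEquiv]
  have he6 : e ∣ 6 := by
    let ψ := (zpowers d).normalizerMonoidHom
    have hk : ψ.ker = (Cz d).subgroupOf N := by
      have hc : centralizer (zpowers d : Set G) = Cz d := by rw [zpowers_eq_closure, centralizer_closure]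
      rw [Subgroup.normalizerMonoidHom_ker, hc]
    have hcard : Nat.card (MulAut (zpowers d)) = 6 := by
      rw [IsCyclic.card_mulAut, Nat.card_zpowers, od]
      decide
    rw [he, ← hk, Subgroup.index_ker, ← hcard]
    exact card_subgroup_dvd_card _
  refine ⟨i, e, hm, hNc, seven_arith i (by omega) e (Nat.lt_succ_of_le (Nat.le_of_dvd (by norm_num) he6))
    (Nat.mod_eq_zero_of_dvd he6) ?_ ?_⟩
  all_goals
    have h := N.card_mul_index
    rw [hNc, hm, hG, mul_assoc, mul_assoc] at h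
    have h' : 3 ^ i * e * N.index = 86400 := by rw [mul_assoc]; omega
  · rw [← h', Nat.mul_mod_right]
  · let P : Sylow 7 G := Sylow.ofCard (zpowers d) (by
      rw [Nat.card_zpowers, od, hG, show (604800 : ℕ) = 7 ^ 1 * 86400 by norm_num,
        Nat.factorization_mul (by norm_num) (by norm_num), Finsupp.add_apply,
        Nat.Prime.factorization_pow (by norm_num), Finsupp.single_eq_same,
        Nat.factorization_eq_zero_of_not_dvd (n := 86400) (by norm_num)]
      norm_num)
    have hmod : Nat.card (Sylow 7 G) % 7 = 1 := card_sylow_modEq_one 7 G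
    rw [P.card_eq_index_normalizer] at hmod
    change N.index % 7 = 1 at hmod
    have hpos : 0 < 3 ^ i * e := Nat.pos_of_ne_zero fun h0 => by rw [h0, zero_mul] at h'; omega
    rw [← h', Nat.mul_div_cancel_left _ hpos]
    exact hmod

/-- the Sylow 2-subgroup of `C(h)` and its normalizer -/
theorem three_two {h : G} (hh : h ∈ Cz z) (o3 : orderOf h = 3) (hσ : σ ⟨h, hh⟩ = cyc3) :
    Nat.card ↥(Q ⊓ Cz h) = 8 ∧
      ∀ g ∈ Cz h, (∀ x ∈ Q ⊓ Cz h, g * x * g⁻¹ ∈ Q ⊓ Cz h) → g ∈ Cz h ⊓ Cz z := by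
  classical
  have D := H.data
  obtain ⟨c3, c4, hlist⟩ := D.cent_cyc3 hh o3 hσ
  constructor
  · set M := Cz h ⊓ Cz z with hM
    let ψ : M →* Perm (Fin 5) := σ.comp (inclusion (inf_le_right : M ≤ Cz z))
    have hr : ψ.range = zpowers cyc3 := by
      refine le_antisymm ?_ (zpowers_le.2 ⟨⟨h, mem_Cz.2 (Commute.refl h), hh⟩, hσ⟩)
      rintro _ ⟨g, rfl⟩
      obtain ⟨i, hi⟩ := perm_three_cent cyc3 (by decide +kernel) (by decide +kernel) (ψ g)
        (by
          show σ ⟨g, g.2.2⟩ * cyc3 = cyc3 * σ ⟨g, g.2.2⟩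
          rw [← hσ, ← map_mul, ← map_mul]; exact congrArg σ (Subtype.ext (mem_Cz.1 g.2.1).eq)) (D.sign _)
      rw [hi]; exact pow_mem (mem_zpowers _) _
    have hk : Nat.card ψ.ker = Nat.card ↥(Q ⊓ Cz h) := Nat.card_congr
      { toFun := fun g => ⟨g.1.1, (D.ker _).1 g.2, g.1.2.1⟩
        invFun := fun g => ⟨⟨g.1, g.2.2, D.le g.2.1⟩, (D.ker ⟨g.1, D.le g.2.1⟩).2 g.2.1⟩
        left_inv := fun g => rfl
        right_inv := fun g => rfl }
    have h24 := card_eq_card_quotient_mul_card_subgroup ψ.ker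
    rw [Nat.card_congr (QuotientGroup.quotientKerEquivRange ψ).toEquiv, hr, Nat.card_zpowers,
      orderOf_eq_prime (p := 3) (hp := ⟨Nat.prime_three⟩) (by decide +kernel) (by decide +kernel), hk,
      D.card_cent_three hh o3] at h24
    omega
  · intro g hg hT
    have hzT : z ∈ Q ⊓ Cz h := ⟨D.frame.x2.mem, mem_Cz.2 (D.commC hh).symm⟩
    have hall : ∀ x ∈ Q ⊓ Cz h, Commute (g * z * g⁻¹) x := by
      intro x hx
      let f : ↥(Q ⊓ Cz h) → ↥(Q ⊓ Cz h) := fun y => ⟨g * y * g⁻¹, hT y y.2⟩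
      obtain ⟨y, hy⟩ := (Finite.injective_iff_surjective (f := f)).1
        (fun u v e => Subtype.ext ((MulAut.conj g).injective (congrArg Subtype.val e))) ⟨x, hx⟩
      rw [show x = g * y * g⁻¹ from (congrArg Subtype.val hy).symm, Commute.conj_iff]
      exact D.commQ y.2.1
    obtain ⟨hvQ, hvh⟩ := hT z hzT
    obtain ⟨q, i, hvq, hq⟩ := hlist _ (D.le hvQ) (mem_Cz.1 hvh)
    have hv1 : g * z * g⁻¹ ≠ 1 := fun e => D.frame.x2.ne (conj_eq_one_iff.1 e)
    -- write it as one of the eight elements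
    have hqv : Cls z (g * z * g⁻¹) 1 ∨ Cls z (g * z * g⁻¹) (a 3) ∨ Cls z (g * z * g⁻¹) (a 4) ∨
        Cls z (g * z * g⁻¹) (a 3 * a 4) := by
      have hqQ : q ∈ Q := by
        rcases D.eight hq with e | e | e | e | e | e | e | e <;> rw [e]
        exacts [one_mem Q, mul_mem (D.frame.mem 3) (D.frame.mem 4), D.frame.x2.mem,
          inv_mem (mul_mem (D.frame.mem 3) (D.frame.mem 4)), D.frame.mem 3,
          mul_mem (D.frame.mem 3) (mul_mem (D.frame.mem 3) (D.frame.mem 4)), mul_mem (D.frame.mem 3) D.frame.x2.mem,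
          mul_mem (D.frame.mem 3) (inv_mem (mul_mem (D.frame.mem 3) (D.frame.mem 4)))]
      have hhi : h ^ i = 1 := by
        have h1 : h ^ i ∈ Q := by
          rw [show h ^ i = q⁻¹ * (g * z * g⁻¹) by rw [hvq, inv_mul_cancel_left]]
          exact mul_mem (inv_mem hqQ) hvQ
        have h2 : orderOf (h ^ i) ∣ 32 := by
          rw [← D.frame.card, ← Subgroup.orderOf_mk _ h1]; exact _root_.orderOf_dvd_natCard _
        have h3 : orderOf (h ^ i) ∣ 3 := o3 ▸ orderOf_pow_dvd i
        exact orderOf_eq_one_iff.1 (Nat.eq_one_of_dvd_coprimes (by norm_num) h2 h3)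
      rw [hhi, mul_one] at hvq
      rwa [hvq]
    have hm : ∀ j, Commute (a j) z := fun j => (D.commQ (D.frame.mem j)).symm
    have hclsc : ∀ {v x y : G}, Cls z v x → Commute y z → Commute v y → Commute x y := by
      intro v x y hv hyz hvy
      rcases hv with rfl | rfl
      · exact hvy
      · simpa [← mul_assoc, D.zz] using hyz.symm.mul_left hvy
    have h3T := hall _ ⟨D.frame.mem 3, mem_Cz.2 c3.symm⟩
    have h4T := hall _ ⟨D.frame.mem 4, mem_Cz.2 c4.symm⟩
    have hne : ¬ Commute (a 3) (a 4) := fun h => D.cyc_ne h.eq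
    refine ⟨hg, mem_Cz.2 (mul_inv_eq_iff_eq_mul.1 ?_)⟩
    rcases hqv with e | e | e | e
    · rcases e with e | e
      · exact absurd e hv1
      · rw [e, mul_one]
    · exact absurd (hclsc e (hm 4) h4T) hne
    · exact absurd (hclsc e (hm 3) h3T).symm hne
    · exfalso
      refine hne (Commute.symm ?_)
      have h5 := (Commute.refl (a 3)).mul_left (hclsc e (hm 3) h3T)
      simpa [← mul_assoc, D.frame.sq] using h5

theorem three_card {h : G} (hh : h ∈ Cz z) (o3 : orderOf h = 3) : Nat.card (Cz h) = 1080 := by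
  classical
  haveI : Fact (Nat.Prime 2) := ⟨Nat.prime_two⟩
  haveI : Fact (Nat.Prime 3) := ⟨Nat.prime_three⟩
  haveI : Fact (Nat.Prime 7) := ⟨by norm_num⟩
  have D := H.data
  obtain ⟨c, hc, hk, ok, hσ⟩ := D.exists_std_three hh o3
  rw [← card_Cz_conj c h]
  set k := c * h * c⁻¹
  rcases (H.three_z hk ok).2 with e | e
  swap
  · rw [e]
  exfalso
  obtain ⟨hT8, hTN⟩ := H.three_two hk ok hσ
  set L := Cz k with hL
  have hkL : k ∈ L := mem_Cz.2 (Commute.refl k)
  obtain ⟨d, hd⟩ := exists_prime_orderOf_dvd_card' (G := L) 7 (by rw [e]; norm_num)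
  have od : orderOf (d : G) = 7 := by rw [Subgroup.orderOf_coe, hd]
  let P : Sylow 7 L := Sylow.ofCard (zpowers d) (by
    rw [Nat.card_zpowers, hd, e, show (3 * 168 : ℕ) = 7 ^ 1 * 72 by norm_num,
      Nat.factorization_mul (by norm_num) (by norm_num), Finsupp.add_apply,
      Nat.Prime.factorization_pow (by norm_num), Finsupp.single_eq_same,
      Nat.factorization_eq_zero_of_not_dvd (n := 72) (by norm_num)]
    norm_num)
  set NL := normalizer ((P : Subgroup L) : Set L) with hNL
  have hPd : (P : Subgroup L) = zpowers d := rfl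
  have hkC : (⟨k, hkL⟩ : L) ∈ centralizer ({d} : Set L) :=
    mem_centralizer_singleton_iff.2 (Subtype.ext (mem_Cz.1 d.2).eq.symm)
  have hCNL : centralizer ({d} : Set L) ≤ NL := fun g hg => by
    rw [hNL, hPd, mem_normalizer_zpowers, mem_centralizer_singleton_iff.1 hg, mul_inv_cancel_right]
  have hC21 : 21 ∣ Nat.card (centralizer ({d} : Set L)) := by
    have a1 : 7 ∣ Nat.card (centralizer ({d} : Set L)) := by
      rw [← hd, ← Subgroup.orderOf_mk d (mem_centralizer_singleton_iff.2 rfl : d ∈ centralizer ({d} : Set L))]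
      exact _root_.orderOf_dvd_natCard _
    have a2 : 3 ∣ Nat.card (centralizer ({d} : Set L)) := by
      rw [← ok, ← Subgroup.orderOf_mk k hkL, ← Subgroup.orderOf_mk _ hkC]
      exact _root_.orderOf_dvd_natCard _
    exact Nat.Coprime.mul_dvd_of_dvd_of_dvd (by norm_num : Nat.Coprime 7 3) a1 a2
  -- the Sylow 2-subgroup
  set T0 := (Q ⊓ Cz k).subgroupOf L with hT0
  have hT0c : Nat.card T0 = 8 := by rw [hT0, Nat.card_congr (subgroupOfEquivOfLe inf_le_right).toEquiv, hT8]
  let T : Sylow 2 L := Sylow.ofCard T0 (by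
    rw [hT0c, e, show (3 * 168 : ℕ) = 2 ^ 3 * 63 by norm_num, Nat.factorization_mul (by norm_num) (by norm_num),
      Finsupp.add_apply, Nat.Prime.factorization_pow Nat.prime_two, Finsupp.single_eq_same,
      Nat.factorization_eq_zero_of_not_dvd (n := 63) (by norm_num)]
    norm_num)
  have hNT : Nat.card (normalizer ((T : Subgroup L) : Set L)) ∣ 24 := by
    rw [← D.card_cent_three hk ok]
    refine card_dvd_of_injective ((L.subtype.comp (normalizer ((T : Subgroup L) : Set L)).subtype).codRestrict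
      (Cz k ⊓ Cz z) fun g => hTN _ (g : L).2 fun x hx => ?_) fun u v he => ?_
    · have := (mem_normalizer_iff.1 g.2 ⟨x, hx.2⟩).1 (mem_subgroupOf.2 hx)
      exact mem_subgroupOf.1 this
    · exact Subtype.ext (Subtype.ext (congrArg (fun y : ↥(Cz k ⊓ Cz z) => (y : G)) he))
  -- the number of Sylow 7-subgroups of `L`
  have hNL63 : Nat.card NL = 63 := by
    have h1 := NL.card_mul_index
    rw [e] at h1
    have h2 : Nat.card (Sylow 7 L) % 7 = 1 := card_sylow_modEq_one 7 L
    rw [P.card_eq_index_normalizer] at h2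
    change NL.index % 7 = 1 at h2
    obtain ⟨m, hm⟩ : 21 ∣ Nat.card NL := hC21.trans (card_dvd_of_le hCNL)
    rw [hm] at h1
    have hidx : NL.index ∣ 24 := ⟨m, by linarith⟩
    have hne : NL.index ≠ 1 := by
      intro h0
      have hn : (zpowers d).Normal := hPd ▸ normalizer_eq_top_iff.1 (index_eq_one.1 h0)
      have hzL : z ∈ L := mem_Cz.2 (D.commC hk).symm
      obtain ⟨c3, c4, -⟩ := D.cent_cyc3 hk ok hσ
      have h3L : a 3 ∈ L := mem_Cz.2 c3.symm
      have hfix : ∀ v : L, ((v : G) = z ∨ ((v : G) * v = 1 ∧ (v : G) ≠ 1)) → ∀ x ∈ zpowers d, v * x = x * v → x = 1 := by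
        intro v hv x hx hc
        have ov : orderOf (v : G) = 2 := by
          rcases hv with r | ⟨r1, r2⟩
          · rw [r]; exact H.oz
          · exact Cfsg.Lib.InvolCalc.order_two_of_mul_self r1 r2
        by_contra hx1
        have ox : orderOf (x : G) = 7 := by
          rw [Subgroup.orderOf_coe]
          have : orderOf x ∣ 7 := by
            have h0 := _root_.orderOf_dvd_natCard (⟨x, hx⟩ : zpowers d)
            rwa [Subgroup.orderOf_mk, Nat.card_zpowers, hd] at h0
          rcases (Nat.dvd_prime (by norm_num : Nat.Prime 7)).1 this with r | r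
          · exact absurd (orderOf_eq_one_iff.1 r) hx1
          · exact r
        have h7' : 7 ∣ Nat.card (Cz (v : G)) := by
          rw [← ox, ← Subgroup.orderOf_mk (x : G) (mem_Cz.2 (congrArg Subtype.val hc).symm : (x : G) ∈ Cz (v : G))]
          exact _root_.orderOf_dvd_natCard _
        rcases H.card_cent_invol ov with r | r <;> rw [r] at h7' <;> norm_num at h7'
      set zL : L := ⟨z, hzL⟩
      set uL : L := ⟨a 3, h3L⟩
      have hbot := Cfsg.Lib.DihedralEight.four_fpf (a := zL) (b := uL) (Subtype.ext D.zz) (Subtype.ext (D.frame.sq 3))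
        (fun y hy => hn.conj_mem y hy _) (fun y hy => hn.conj_mem y hy _) (hfix zL (Or.inl rfl))
        (hfix uL (Or.inr ⟨D.frame.sq 3, fun e => D.frame.ne1 3 (Or.inl e)⟩))
        (hfix (zL * uL) (Or.inr ⟨by
          show z * a 3 * (z * a 3) = 1
          rw [show z * a 3 * (z * a 3) = z * (a 3 * z) * a 3 by group, D.frame.z_ai,
            show z * (z * a 3) * a 3 = z * z * (a 3 * a 3) by group, D.zz, D.frame.sq, one_mul],
          fun e1 => D.frame.ne1 3 (Or.inr (by
            rw [mul_one, eq_inv_of_mul_eq_one_right (show z * a 3 = 1 from e1), D.frame.x2.inv_z]))⟩))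
      rw [zpowers_eq_bot] at hbot
      rw [hbot, orderOf_one] at hd
      omega
    have : NL.index = 8 := eight_arith ⟨NL.index, Nat.lt_succ_of_le (Nat.le_of_dvd (by norm_num) hidx)⟩
      (Nat.mod_eq_zero_of_dvd hidx) h2 hne
    rw [this] at h1
    omega
  have hC : Nat.card (centralizer ({d} : Set L)) = 21 := by
    have hd63 : Nat.card (centralizer ({d} : Set L)) ∣ 63 := hNL63 ▸ card_dvd_of_le hCNL
    obtain ⟨m, hm⟩ := hC21
    rw [hm] at hd63 ⊢
    have hm3 : m ∣ 3 := Nat.dvd_of_mul_dvd_mul_left (by norm_num : 0 < 21) hd63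
    rcases (Nat.dvd_prime Nat.prime_three).1 hm3 with rfl | rfl
    · rfl
    exfalso
    have heq : centralizer ({d} : Set L) = NL := eq_of_le_of_card_ge hCNL (by rw [hm, hNL63])
    have hPC : normalizer ((P : Subgroup L) : Set L) ≤ centralizer ((P : Subgroup L) : Set L) := fun g hg => by
      rw [hPd, zpowers_eq_closure, centralizer_closure]
      exact heq.ge hg
    obtain ⟨M, hMn, hMc⟩ : ∃ M : Subgroup L, M.Normal ∧ IsComplement' M (P : Subgroup L) :=
      ⟨_, MonoidHom.normal_ker _, MonoidHom.ker_transferSylow_isComplement' P hPC⟩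
    haveI := hMn
    have hMi : M.index = 7 := hMc.symm.index_eq_card.trans (by rw [hPd, Nat.card_zpowers, hd])
    have hMcard : Nat.card M = 72 := by
      have h1 := M.card_mul_index
      rw [hMi, e] at h1; omega
    have hTM : (T : Subgroup L) ≤ M := fun x hx => by
      rw [← QuotientGroup.eq_one_iff (N := M)]
      have h1 : orderOf (x : L ⧸ M) ∣ 7 := hMi ▸ _root_.orderOf_dvd_natCard _
      have h2 : orderOf (x : L ⧸ M) ∣ 8 := by
        refine (orderOf_map_dvd (QuotientGroup.mk' M) x).trans ?_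
        rw [← hT0c, ← Subgroup.orderOf_mk x hx]; exact _root_.orderOf_dvd_natCard _
      exact orderOf_eq_one_iff.1 (Nat.eq_one_of_dvd_coprimes (by norm_num) h1 h2)
    have h1 := frattini_dvd M T hTM
    rw [hMcard, e] at h1
    have h2 := h1.trans (Nat.mul_dvd_mul_left 72 hNT)
    norm_num at h2
  -- the normalizer in `G`
  obtain ⟨i, ee, hCd, hNd, hcases⟩ := H.seven_cent od
  have hNdvd : 63 ∣ Nat.card (normalizer (zpowers (d : G) : Set G)) := by
    rw [← hNL63, show (zpowers (d : G) : Subgroup G) = (zpowers d).map L.subtype from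
      (MonoidHom.map_zpowers L.subtype d).symm, ← hPd]
    exact (dvd_of_eq (card_map_of_injective L.subtype_injective).symm).trans
      (card_dvd_of_le (le_normalizer_map L.subtype))
  rcases hcases with ⟨rfl, rfl⟩ | ⟨rfl, rfl⟩ | ⟨rfl, rfl⟩ | ⟨rfl, rfl⟩
  · rw [hNd, hCd] at hNdvd; norm_num at hNdvd
  · rw [hNd, hCd] at hNdvd; norm_num at hNdvd
  · -- a Sylow 3-subgroup of `C(d)` containing `k` is abelian
    set C := Cz (d : G) with hCdef
    have hkd : k ∈ C := mem_Cz.2 (mem_Cz.1 d.2).symm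
    obtain ⟨R, hR⟩ := (IsPGroup.of_card (n := 1) (by rw [Nat.card_zpowers, Subgroup.orderOf_mk, ok, pow_one]) :
      IsPGroup 3 (zpowers (⟨k, hkd⟩ : C))).exists_le_sylow
    have hR9 : Nat.card R = 3 ^ 2 := by
      rw [R.card_eq_multiplicity, hCd, Nat.factorization_mul (by norm_num) (by norm_num), Finsupp.add_apply,
        Nat.Prime.factorization_pow Nat.prime_three, Finsupp.single_eq_same,
        Nat.factorization_eq_zero_of_not_dvd (n := 7) (by norm_num)]
    haveI : IsMulCommutative (R : Subgroup C) := IsPGroup.isMulCommutative_of_card_eq_prime_sq (p := 3) hR9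
    have hle : Nat.card R ∣ Nat.card (centralizer ({d} : Set L)) := by
      refine card_dvd_of_injective (MonoidHom.codRestrict
        (((C.subtype.comp (R : Subgroup C).subtype)).codRestrict L fun r => mem_Cz.2 (congrArg
          (fun y : (R : Subgroup C) => ((y : C) : G)) (mul_comm' r ⟨⟨k, hkd⟩, hR (mem_zpowers _)⟩)))
        (centralizer ({d} : Set L)) fun r => mem_centralizer_singleton_iff.2 (Subtype.ext (mem_Cz.1 (r : C).2).eq))
        fun u v he => ?_
      exact Subtype.ext (Subtype.ext (congrArg (fun y : centralizer ({d} : Set L) => ((y : L) : G)) he))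
    rw [hR9, hC] at hle
    norm_num at hle
  · -- the normalizer centralizes
    have heq : Cz (d : G) = normalizer (zpowers (d : G) : Set G) :=
      eq_of_le_of_card_ge (fun g hg => by rw [mem_normalizer_zpowers, (mem_Cz.1 hg).eq, mul_inv_cancel_right])
        (by rw [hNd, mul_one])
    have hle : NL ≤ centralizer ({d} : Set L) := fun g hg => by
      refine mem_centralizer_singleton_iff.2 (Subtype.ext ?_)
      have h2 : (g : G) ∈ Cz (d : G) := by
        rw [heq, mem_normalizer_zpowers]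
        rw [hNL, hPd, mem_normalizer_zpowers] at hg
        have := congrArg (fun S : Subgroup L => S.map L.subtype) hg
        rwa [MonoidHom.map_zpowers, MonoidHom.map_zpowers] at this
      exact (mem_Cz.1 h2).eq
    have := card_le_of_le hle
    omega

end Hyp

end Cfsg.Lib.HallJankoType
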