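import Cfsg.Agent.LocalThree.HallJankoType.SevenLocal
import Cfsg.Agent.Fusion.ExceptionShape

/-!
The Sylow 3-subgroups of a group of Hall–Janko type.
-/

set_option autoImplicit false
set_option linter.unusedSectionVars false
set_option linter.style.haveILetI false

namespace Cfsg.Lib.HallJankoType

open Subgroup Equiv
open scoped commutatorElement

universe u

variable {G : Type u} [Group G] [Finite G] {z : G} {Q : Subgroup G} {a : Fin 5 → G} {σ : Cz z →* Perm (Fin 5)}

theorem three_arith : ∀ j : Fin 41, ∀ e : Fin 3, (40 : ℕ) % (j : ℕ) = 0 → (40 : ℕ) / (j : ℕ) % 3 = 1 → (e : ℕ) ≠ 0 →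
    (22400 : ℕ) / ((j : ℕ) * (e : ℕ)) % 3 = 1 →
    (e : ℕ) = 2 ∧ ((j : ℕ) = 1 ∨ (j : ℕ) = 4 ∨ (j : ℕ) = 10 ∨ (j : ℕ) = 40) := by decide +kernel

theorem perm_three_invert : ∀ ρ : Perm (Fin 5), ρ ^ 3 = 1 → ρ ≠ 1 →
    ∃ π : Perm (Fin 5), Perm.sign π = 1 ∧ π * ρ * π⁻¹ = ρ⁻¹ := by decide +kernel

theorem zpowers_three {h x : G} (o : orderOf h = 3) (hx : x ∈ zpowers h) : x = 1 ∨ x = h ∨ x = h⁻¹ := by
  obtain ⟨j, rfl⟩ := mem_zpowers_iff.1 hx
  rw [← zpow_mod_orderOf, o]
  rcases (by omega : j % (3 : ℤ) = 0 ∨ j % (3 : ℤ) = 1 ∨ j % (3 : ℤ) = 2) with e | e | e <;> simp only [Nat.cast_ofNat] <;>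
    rw [e]
  · exact Or.inl (zpow_zero h)
  · exact Or.inr (Or.inl (zpow_one h))
  · refine Or.inr (Or.inr (eq_inv_of_mul_eq_one_left ?_))
    rw [zpow_two, show h * h * h = h ^ orderOf h by rw [o]; simp [pow_succ]]
    exact pow_orderOf_eq_one h

/-- An involution centralizing `h` with no further fixed points inverts `P` modulo `⟨h⟩`. -/
theorem inverts_mod {P : Subgroup G} {h u : G} (o : orderOf h = 3) (hhP : h ∈ P) (hcentral : ∀ y ∈ P, Commute y h)
    (huu : u * u = 1) (hu : ∀ y ∈ P, u * y * u⁻¹ ∈ P) (huh : Commute u h)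
    (hfix : ∀ y ∈ P, Commute u y → y ∈ zpowers h) : ∀ y ∈ P, u * y * u⁻¹ * y ∈ zpowers h := by
  classical
  set Z := (zpowers h).subgroupOf P with hZ
  haveI : Z.Normal := ⟨fun n hn g => by
    obtain ⟨j, hj⟩ := mem_zpowers_iff.1 (mem_subgroupOf.1 hn)
    have : g * n * g⁻¹ = n := Subtype.ext (mul_inv_eq_iff_eq_mul.2 (hj ▸ ((hcentral g g.2).zpow_right j)).eq)
    rwa [this]⟩
  let ψ : P →* P :=
    { toFun := fun y => ⟨u * y * u⁻¹, hu y y.2⟩
      map_one' := Subtype.ext (by simp)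
      map_mul' := fun x y => Subtype.ext (by simp [mul_assoc]) }
  have hψZ : Z ≤ Z.comap ψ := fun n hn => by
    obtain ⟨j, hj⟩ := mem_zpowers_iff.1 (mem_subgroupOf.1 hn)
    change u * (n : G) * u⁻¹ ∈ zpowers h
    rw [← hj, (huh.zpow_right j).eq, mul_inv_cancel_right]
    exact zpow_mem (mem_zpowers h) j
  let φ : P ⧸ Z →* P ⧸ Z := QuotientGroup.map Z Z ψ hψZ
  have hinv : Function.Involutive φ := by
    intro q
    obtain ⟨y, rfl⟩ := QuotientGroup.mk'_surjective Z q
    show QuotientGroup.mk' Z (ψ (ψ y)) = QuotientGroup.mk' Z y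
    congr 1
    refine Subtype.ext ?_
    show u * (u * y * u⁻¹) * u⁻¹ = (y : G)
    rw [show u * (u * (y : G) * u⁻¹) * u⁻¹ = (u * u) * y * (u * u)⁻¹ by group, huu]; group
  have hfpf : MonoidHom.FixedPointFree φ := by
    intro q hq
    obtain ⟨y, rfl⟩ := QuotientGroup.mk'_surjective Z q
    have h1 : ψ y * y⁻¹ ∈ Z := by
      rw [← QuotientGroup.eq_one_iff]
      show QuotientGroup.mk' Z (ψ y * y⁻¹) = 1
      rw [map_mul, map_inv, mul_inv_eq_one]
      exact hq
    have h2 : u * (y : G) * u⁻¹ * (y : G)⁻¹ ∈ zpowers h := mem_subgroupOf.1 h1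
    set d := u * (y : G) * u⁻¹ * (y : G)⁻¹ with hd
    have hdu : Commute u d := by
      obtain ⟨j, hj⟩ := mem_zpowers_iff.1 h2
      rw [← hj]; exact huh.zpow_right j
    have e1 : u * (y : G) * u⁻¹ = d * y := by rw [hd, inv_mul_cancel_right]
    have e2 : (y : G) = d * d * y := by
      calc (y : G) = u * (u * y * u⁻¹) * u⁻¹ := by
            rw [show u * (u * (y : G) * u⁻¹) * u⁻¹ = (u * u) * y * (u * u)⁻¹ by group, huu]; group
        _ = u * (d * y) * u⁻¹ := by rw [e1]
        _ = (u * d * u⁻¹) * (u * y * u⁻¹) := by group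
        _ = d * (d * y) := by rw [hdu.eq, mul_inv_cancel_right, e1]
        _ = d * d * y := (mul_assoc d d _).symm
    have h3 : d = 1 := by
      have hdd : d * d = 1 := (mul_eq_right.mp e2.symm)
      rcases zpowers_three o h2 with r | r | r
      · exact r
      all_goals
        exfalso
        rw [r] at hdd
        have : orderOf h ∣ 2 := orderOf_dvd_of_pow_eq_one (by
          rw [pow_two]; first | exact hdd | (rw [← mul_inv_rev, inv_eq_one] at hdd; exact hdd))
        rw [o] at this; norm_num at this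
    rw [h3, one_mul] at e1
    exact (QuotientGroup.eq_one_iff y).2 (mem_subgroupOf.2 (hfix y y.2 (mul_inv_eq_iff_eq_mul.1 e1)))
  intro y hy
  have := congrFun (hfpf.coe_eq_inv_of_involutive hinv) (QuotientGroup.mk' Z ⟨y, hy⟩)
  have h1 : ψ ⟨y, hy⟩ * ⟨y, hy⟩ ∈ Z := by
    rw [← QuotientGroup.eq_one_iff]
    show QuotientGroup.mk' Z (ψ ⟨y, hy⟩ * ⟨y, hy⟩) = 1
    rw [map_mul, ← eq_inv_iff_mul_eq_one]
    exact this
  exact mem_subgroupOf.1 h1

namespace Hyp

variable (H : Hyp z Q a σ)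
include H

theorem exists_three_t : ∃ t x, Outer z Q t ∧ x ∈ Cz t ∧ orderOf x = 3 ∧ IsConj x x⁻¹ ∧
    (Nat.card (Cz x) = 36 ∨ Nat.card (Cz x) = 180) ∧
    ∀ y ∈ Cz t, orderOf y = 3 → IsConj y x := by
  classical
  haveI : Fact (Nat.Prime 3) := ⟨Nat.prime_three⟩
  obtain ⟨t, ht⟩ := H.exists_outer
  obtain ⟨w, h, K, W, S, ⟨e⟩⟩ := H.kshape ht
  obtain ⟨x', hx'⟩ := exists_prime_orderOf_dvd_card' (G := K) 3
    (by rw [(Nat.card_congr e.toEquiv).trans sixty]; norm_num)
  set x : G := (x' : G) with hx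
  have ox : orderOf x = 3 := by rw [hx, Subgroup.orderOf_coe, hx']
  have hxt : x ∈ Cz t := S.le x'.2
  have hinv : IsConj x x⁻¹ := by
    have h3 : ((e x' : alternatingGroup (Fin 5)) : Perm (Fin 5)) ^ 3 = 1 := by
      rw [← SubmonoidClass.coe_pow, ← map_pow, ← hx', pow_orderOf_eq_one, map_one]; rfl
    have h1 : ((e x' : alternatingGroup (Fin 5)) : Perm (Fin 5)) ≠ 1 := fun h' => by
      rw [show x' = 1 from (MulEquiv.map_eq_one_iff e).1 (Subtype.ext h'), orderOf_one] at hx'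
      omega
    obtain ⟨π, hπ, he⟩ := perm_three_invert _ h3 h1
    set g := e.symm ⟨π, Equiv.Perm.mem_alternatingGroup.2 hπ⟩
    refine isConj_iff.2 ⟨(g : G), ?_⟩
    have : g * x' * g⁻¹ = x'⁻¹ := e.injective (by
      rw [map_mul, map_mul, map_inv, map_inv, MulEquiv.apply_symm_apply]
      exact Subtype.ext he)
    exact congrArg (fun y : K => (y : G)) this
  have hcard : Nat.card (Cz x) = 36 ∨ Nat.card (Cz x) = 180 := by
    obtain ⟨-, hs⟩ := H.cent_shape ht hxt (Or.inl ox)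
    rcases hs with r | ⟨ψ, hψ, hker⟩
    · left; rw [r, ox]
    · right
      rw [card_eq_card_quotient_mul_card_subgroup ψ.ker,
        Nat.card_congr (QuotientGroup.quotientKerEquivOfSurjective ψ hψ).toEquiv, sixty, hker,
        Nat.card_congr (subgroupOfEquivOfLe (zpowers_le.2 (mem_Cz.2 (Commute.refl x) : x ∈ Cz x))).toEquiv,
        Nat.card_zpowers, ox]
  refine ⟨t, x, ht, hxt, ox, hinv, hcard, fun y hy oy => ?_⟩
  let S3 : Sylow 3 (Cz t) := Sylow.ofCard (zpowers ⟨x, hxt⟩) (by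
    rw [Nat.card_zpowers, Subgroup.orderOf_mk, ox, (H.card_eq ht).2, show (240 : ℕ) = 3 ^ 1 * 80 by norm_num,
      Nat.factorization_mul (by norm_num) (by norm_num), Finsupp.add_apply, Nat.Prime.factorization_pow Nat.prime_three,
      Finsupp.single_eq_same, Nat.factorization_eq_zero_of_not_dvd (n := 80) (by norm_num)]
    norm_num)
  obtain ⟨g, hg⟩ := Cfsg.Lib.InvolCalc.exists_conj_le S3 (H := zpowers (⟨y, hy⟩ : Cz t))
    (IsPGroup.of_card (n := 1) (by rw [Nat.card_zpowers, Subgroup.orderOf_mk, oy, pow_one]))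
  obtain ⟨j, hj⟩ := mem_zpowers_iff.1 (hg _ (mem_zpowers _))
  have hj' : (g : G)⁻¹ * y * g ∈ zpowers x := mem_zpowers_iff.2 ⟨j, congrArg (fun v : Cz t => (v : G)) hj⟩
  have hc : IsConj y ((g : G)⁻¹ * y * g) := isConj_iff.2 ⟨(g : G)⁻¹, by rw [inv_inv]⟩
  rcases zpowers_three ox hj' with r | r | r
  · exfalso
    rw [show y = (g : G) * ((g : G)⁻¹ * y * g) * (g : G)⁻¹ by group, r] at oy
    simp at oy
  · exact r ▸ hc
  · exact (r ▸ hc : IsConj y x⁻¹).trans hinv.symm

theorem sylow_three (P' : Sylow 3 G) : Cfsg.IsExtraspecial 3 (P' : Subgroup G) ∧ Nat.card P' = 27 ∧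
    Nat.card (normalizer ((P' : Subgroup G) : Set G)) = 216 ∧
    ∃ x y : G, orderOf x = 3 ∧ orderOf y = 3 ∧ ¬ IsConj x y ∧
      Nat.card (Cz x) = 1080 ∧ (Nat.card (Cz y) = 36 ∨ Nat.card (Cz y) = 180) ∧
      ∀ c : G, orderOf c = 3 → IsConj c x ∨ IsConj c y := by
  classical
  haveI : Fact (Nat.Prime 2) := ⟨Nat.prime_two⟩
  haveI : Fact (Nat.Prime 3) := ⟨Nat.prime_three⟩
  haveI : Fact (Nat.Prime 5) := ⟨by norm_num⟩
  have D := H.data
  obtain ⟨t, x, ht, hxt, ox, hxinv, hxcard, hxall⟩ := H.exists_three_t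
  have hG := (H.card_eq ht).1
  obtain ⟨h₀, hh₀⟩ := exists_prime_orderOf_dvd_card' (G := Cz z) 3 (by rw [D.card_Cz]; norm_num)
  obtain ⟨c, hc, hh, o3, hσ⟩ := D.exists_std_three h₀.2 (show orderOf (h₀ : G) = 3 by rw [Subgroup.orderOf_coe, hh₀])
  set h := c * (h₀ : G) * c⁻¹
  have hL := H.three_card hh o3
  set L := Cz h with hLdef
  have hhL : h ∈ L := mem_Cz.2 (Commute.refl h)
  obtain ⟨P0⟩ : Nonempty (Sylow 3 L) := inferInstance
  have hP0c : Nat.card P0 = 27 := by
    rw [P0.card_eq_multiplicity, hL, show (1080 : ℕ) = 3 ^ 3 * 40 by norm_num,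
      Nat.factorization_mul (by norm_num) (by norm_num), Finsupp.add_apply, Nat.Prime.factorization_pow Nat.prime_three,
      Finsupp.single_eq_same, Nat.factorization_eq_zero_of_not_dvd (n := 40) (by norm_num)]
    norm_num
  set PG : Subgroup G := (P0 : Subgroup L).map L.subtype with hPG
  have hPGc : Nat.card PG = 27 := by rw [hPG, card_map_of_injective L.subtype_injective, hP0c]
  let P : Sylow 3 G := Sylow.ofCard PG (by
    rw [hPGc, hG, show (604800 : ℕ) = 3 ^ 3 * 22400 by norm_num, Nat.factorization_mul (by norm_num) (by norm_num),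
      Finsupp.add_apply, Nat.Prime.factorization_pow Nat.prime_three, Finsupp.single_eq_same,
      Nat.factorization_eq_zero_of_not_dvd (n := 22400) (by norm_num)]
    norm_num)
  have hPL : PG ≤ L := map_subtype_le _
  have hhP : h ∈ PG := by
    obtain ⟨g, hg⟩ := Cfsg.Lib.InvolCalc.exists_conj_le P0 (H := zpowers (⟨h, hhL⟩ : L))
      (IsPGroup.of_card (n := 1) (by rw [Nat.card_zpowers, Subgroup.orderOf_mk, o3, pow_one]))
    refine ⟨_, hg _ (mem_zpowers _), ?_⟩
    show (g : G)⁻¹ * h * g = h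
    rw [mul_assoc, ← (mem_Cz.1 g.2).eq, inv_mul_cancel_left]
  have hcentral : ∀ y ∈ PG, Commute y h := fun y hy => mem_Cz.1 (hPL hy)
  have hnc : ∃ u ∈ PG, ∃ v ∈ PG, u * v ≠ v * u := by
    by_contra hno
    push Not at hno
    obtain ⟨g, hg⟩ := Cfsg.Lib.InvolCalc.exists_conj_le P (H := zpowers x)
      (IsPGroup.of_card (n := 1) (by rw [Nat.card_zpowers, ox, pow_one]))
    have hy : g⁻¹ * x * g ∈ PG := hg _ (mem_zpowers x)
    have h27 : 27 ∣ Nat.card (Cz x) := by
      rw [← hPGc, ← card_Cz_conj g⁻¹ x, inv_inv]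
      exact card_dvd_of_le fun v hv => mem_Cz.2 (hno v hv _ hy)
    rcases hxcard with r | r <;> rw [r] at h27 <;> norm_num at h27
  obtain ⟨u₀, hu₀, v₀, hv₀, huv₀⟩ := hnc
  have hex : Cfsg.IsExtraspecial 3 PG := Cfsg.Lib.Fusion.isExtraspecial_of_cube (p := 3) (by rw [hPGc]; norm_num)
    (a := ⟨u₀, hu₀⟩) (b := ⟨v₀, hv₀⟩) fun e => huv₀ (congrArg Subtype.val e)
  have hcen : ∀ y ∈ PG, (∀ v ∈ PG, Commute y v) → y ∈ zpowers h := by
    intro y hy hall
    have h1 : zpowers (⟨h, hhP⟩ : PG) = center PG := by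
      refine eq_of_le_of_card_ge (zpowers_le.2 (mem_center_iff.2 fun v => Subtype.ext (hcentral v v.2).eq)) ?_
      rw [hex.2, Nat.card_zpowers, Subgroup.orderOf_mk, o3]
    obtain ⟨j, hj⟩ := mem_zpowers_iff.1 (h1.ge (mem_center_iff.2 fun v => Subtype.ext (hall v v.2).eq.symm :
      (⟨y, hy⟩ : PG) ∈ center PG))
    exact mem_zpowers_iff.2 ⟨j, congrArg (fun v : PG => (v : G)) hj⟩
  set N := normalizer (PG : Set G) with hN
  have hNh : ∀ n ∈ N, n * h * n⁻¹ = h ∨ n * h * n⁻¹ = h⁻¹ := by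
    intro n hn
    have h1 : n * h * n⁻¹ ∈ zpowers h := hcen _ ((mem_normalizer_iff.1 hn h).1 hhP) fun v hv => by
      have hv' : n⁻¹ * v * n ∈ PG := (mem_normalizer_iff.1 hn _).2 (by rwa [show n * (n⁻¹ * v * n) * n⁻¹ = v by group])
      have := (Commute.conj_iff n).2 (hcentral _ hv').symm
      rwa [show n * (n⁻¹ * v * n) * n⁻¹ = v by group] at this
    rcases zpowers_three o3 h1 with r | r | r
    · rw [conj_eq_one_iff.1 r, orderOf_one] at o3; omega
    · exact Or.inl r
    · exact Or.inr r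
  set M := normalizer ((P0 : Subgroup L) : Set L) with hM
  have hMN : M.map L.subtype = N ⊓ L := by
    refine le_antisymm (le_inf (le_normalizer_map L.subtype) (map_subtype_le _)) ?_
    rintro g ⟨hgN, hgL⟩
    refine ⟨⟨g, hgL⟩, mem_normalizer_iff.2 fun y => ?_, rfl⟩
    rw [← mem_map_iff_mem L.subtype_injective (K := (P0 : Subgroup L)) (x := y),
      ← mem_map_iff_mem L.subtype_injective (K := (P0 : Subgroup L)) (x := ⟨g, hgL⟩ * y * ⟨g, hgL⟩⁻¹)]
    exact mem_normalizer_iff.1 hgN y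
  set NL := N ⊓ L with hNL
  have hMc : Nat.card M = Nat.card NL := by rw [← hMN, card_map_of_injective L.subtype_injective]
  obtain ⟨j, hj⟩ : 27 ∣ Nat.card M := hP0c ▸ card_dvd_of_le le_normalizer
  obtain ⟨ε, hε0, hε, hεN⟩ : ∃ ε, ε ≠ 0 ∧ ε ≤ 2 ∧ Nat.card N = Nat.card NL * ε := by
    refine ⟨(NL.subgroupOf N).index, FiniteIndex.index_ne_zero, ?_, ?_⟩
    · by_cases hall : N ≤ L
      · rw [hNL, inf_eq_left.2 hall, subgroupOf_self, index_top]; norm_num
      · obtain ⟨g, hgN, hgL⟩ := SetLike.not_le_iff_exists.1 hall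
        refine le_of_eq (Subgroup.index_eq_two_iff.2 ⟨⟨g, hgN⟩, fun b => ?_⟩)
        have hgh : g * h * g⁻¹ = h⁻¹ :=
          (hNh g hgN).resolve_left fun e => hgL (mem_Cz.2 (mul_inv_eq_iff_eq_mul.1 e))
        have hne : h⁻¹ ≠ h := fun e => hgL (mem_Cz.2 (mul_inv_eq_iff_eq_mul.1 (hgh.trans e)))
        simp only [mem_subgroupOf, hNL, mem_inf, Subgroup.coe_mul, mul_mem b.2 hgN, b.2, true_and, hLdef, mem_Cz]
        rcases hNh b b.2 with e | e
        · refine Or.inr ⟨mul_inv_eq_iff_eq_mul.1 e, fun h' => hne ?_⟩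
          have h'' := mul_inv_eq_iff_eq_mul.2 h'.eq
          rw [show (b : G) * g * h * ((b : G) * g)⁻¹ = (b : G) * (g * h * g⁻¹) * (b : G)⁻¹ by group, hgh,
            show (b : G) * h⁻¹ * (b : G)⁻¹ = ((b : G) * h * (b : G)⁻¹)⁻¹ by group, e] at h''
          exact h''
        · refine Or.inl ⟨mul_inv_eq_iff_eq_mul.1 ?_, fun h' => hne ?_⟩
          · rw [show (b : G) * g * h * ((b : G) * g)⁻¹ = (b : G) * (g * h * g⁻¹) * (b : G)⁻¹ by group, hgh,
              show (b : G) * h⁻¹ * (b : G)⁻¹ = ((b : G) * h * (b : G)⁻¹)⁻¹ by group, e, inv_inv]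
          · exact e.symm.trans (mul_inv_eq_iff_eq_mul.2 h'.eq)
    · rw [← (NL.subgroupOf N).card_mul_index, Nat.card_congr (subgroupOfEquivOfLe inf_le_left).toEquiv]
  obtain ⟨T8, hTnorm⟩ := H.three_two hh o3 hσ
  have hj4 : j = 4 ∧ ε = 2 := by
    have h1 := M.card_mul_index
    rw [hj, hL] at h1
    have h2 : Nat.card (Sylow 3 L) % 3 = 1 := card_sylow_modEq_one 3 L
    rw [P0.card_eq_index_normalizer] at h2
    change M.index % 3 = 1 at h2
    have hjd : j * M.index = 40 := by rw [mul_assoc] at h1; omega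
    have hjpos : 0 < j := Nat.pos_of_ne_zero fun h0 => by rw [h0, zero_mul] at hjd; omega
    have h3 := N.card_mul_index
    rw [hεN, ← hMc, hj, hG] at h3
    have h4 : Nat.card (Sylow 3 G) % 3 = 1 := card_sylow_modEq_one 3 G
    rw [P.card_eq_index_normalizer] at h4
    change N.index % 3 = 1 at h4
    have h5 : j * ε * N.index = 22400 := by rw [mul_assoc, mul_assoc] at h3; rw [mul_assoc]; omega
    have hjle : j ≤ 40 := Nat.le_of_dvd (by norm_num) ⟨M.index, hjd.symm⟩
    obtain ⟨hε2, hjs⟩ := three_arith ⟨j, by omega⟩ ⟨ε, by omega⟩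
      (Nat.mod_eq_zero_of_dvd ⟨M.index, hjd.symm⟩)
      (by show 40 / j % 3 = 1; rw [← hjd, Nat.mul_div_cancel_left _ hjpos]; exact h2) hε0
      (by
        show 22400 / (j * ε) % 3 = 1
        rw [← h5, Nat.mul_div_cancel_left _ (Nat.mul_pos hjpos (Nat.pos_of_ne_zero hε0))]; exact h4)
    have h5not : ¬ 5 ∣ j := by
      intro h5'
      obtain ⟨f, hf⟩ := exists_prime_orderOf_dvd_card' (G := M) 5 (hj ▸ h5'.mul_left 27)
      set f' : G := ((f : L) : G)
      have of : orderOf f' = 5 := by rw [Subgroup.orderOf_coe, Subgroup.orderOf_coe, hf]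
      have hfN : f' ∈ N := (hMN.le ⟨(f : L), f.2, rfl⟩).1
      have hm := fix_modEq (p := 5) (n := 1) PG (g := f') (fun y hy => (mem_normalizer_iff.1 hfN y).1 hy)
        (by rw [pow_one, ← of, pow_orderOf_eq_one])
      rw [hPGc] at hm
      have hd : Nat.card ↥(PG ⊓ Cz f') ∣ 3 ^ 3 := by
        rw [show (3 : ℕ) ^ 3 = Nat.card PG by rw [hPGc]; norm_num]; exact card_dvd_of_le inf_le_left
      obtain ⟨i, hi, hi'⟩ := (Nat.dvd_prime_pow Nat.prime_three).1 hd
      rw [hi'] at hm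
      have h27 : 27 ∣ Nat.card (Cz f') := by
        have : i = 3 := mod_five_three 3 (by norm_num) i hi hm
        rw [this] at hi'
        rw [show (27 : ℕ) = 3 ^ 3 by norm_num, ← hi']
        exact card_dvd_of_le inf_le_right
      rcases H.five_cases of with r | r <;> rw [r] at h27 <;> norm_num at h27
    refine ⟨?_, hε2⟩
    rcases hjs with r | r | r | r
    · exfalso
      change j = 1 at r
      have hMP : M = (P0 : Subgroup L) := (eq_of_le_of_card_ge le_normalizer (by rw [hj, r, hP0c])).symm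
      set Z := (zpowers h).subgroupOf L with hZ
      haveI hZn : Z.Normal := ⟨fun n hn g => by
        obtain ⟨i, hi⟩ := mem_zpowers_iff.1 (mem_subgroupOf.1 hn)
        have : g * n * g⁻¹ = n := Subtype.ext (mul_inv_eq_iff_eq_mul.2 (hi ▸ ((mem_Cz.1 g.2).zpow_right i)).eq)
        rwa [this]⟩
      have hZc : Nat.card Z = 3 := by
        rw [hZ, Nat.card_congr (subgroupOfEquivOfLe (zpowers_le.2 hhL)).toEquiv, Nat.card_zpowers, o3]
      let q : L →* L ⧸ Z := QuotientGroup.mk' Z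
      have hZP : q.ker ≤ (P0 : Subgroup L) := by
        rw [QuotientGroup.ker_mk']
        intro n hn
        have hn' : (n : G) ∈ PG := (zpowers_le.2 hhP) (mem_subgroupOf.1 hn)
        exact (mem_map_iff_mem L.subtype_injective).1 hn'
      set Pb := (P0 : Subgroup L).map q with hPb
      have hPb9 : Nat.card Pb = 3 ^ 2 := by
        let g := q.domRestrict (P0 : Subgroup L)
        have hgk : Nat.card g.ker = 3 := by
          refine Eq.trans ?_ hZc
          exact Nat.card_congr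
            { toFun := fun y => ⟨y.1.1, (QuotientGroup.eq_one_iff _).1 y.2⟩
              invFun := fun y => ⟨⟨y.1, hZP ((QuotientGroup.eq_one_iff _).2 y.2)⟩, (QuotientGroup.eq_one_iff _).2 y.2⟩
              left_inv := fun y => rfl
              right_inv := fun y => rfl }
        have h := card_eq_card_quotient_mul_card_subgroup g.ker
        rw [Nat.card_congr (QuotientGroup.quotientKerEquivRange g).toEquiv, hgk, hP0c,
          show g.range = Pb from MonoidHom.domRestrict_range ..] at h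
        norm_num
        omega
      have hPi : ¬ 3 ∣ Pb.index := fun hd =>
        P0.not_dvd_index (hd.trans (index_map_dvd _ (QuotientGroup.mk'_surjective Z)))
      let T : Sylow 3 (L ⧸ Z) := (IsPGroup.of_card (n := 2) hPb9 : IsPGroup 3 Pb).toSylow hPi
      haveI : IsMulCommutative Pb := IsPGroup.isMulCommutative_of_card_eq_prime_sq (p := 3) hPb9
      have hPC : normalizer ((T : Subgroup (L ⧸ Z)) : Set (L ⧸ Z)) ≤ centralizer ((T : Subgroup (L ⧸ Z)) : Set (L ⧸ Z)) := by
        intro y hy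
        obtain ⟨g, rfl⟩ := QuotientGroup.mk'_surjective Z y
        have hgM : g ∈ M := by
          refine mem_normalizer_iff.2 fun v => ?_
          have hco : ∀ w : L, w ∈ (P0 : Subgroup L) ↔ q w ∈ Pb := fun w => by
            rw [hPb, ← mem_comap, comap_map_eq_self hZP]
          rw [hco, hco, map_mul, map_mul, map_inv]
          exact mem_normalizer_iff.1 hy (q v)
        have hgP : q g ∈ Pb := mem_map_of_mem q (hMP.le hgM)
        exact mem_centralizer_iff.2 fun v hv => congrArg Subtype.val (mul_comm' (⟨v, hv⟩ : Pb) ⟨q g, hgP⟩)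
      obtain ⟨M0, hM0n, hM0c⟩ : ∃ M0 : Subgroup (L ⧸ Z), M0.Normal ∧ IsComplement' M0 (T : Subgroup (L ⧸ Z)) :=
        ⟨_, MonoidHom.normal_ker _, MonoidHom.ker_transferSylow_isComplement' T hPC⟩
      have hM0i : (M0.comap q).index = 9 := by
        rw [index_comap_of_surjective _ (QuotientGroup.mk'_surjective Z), hM0c.symm.index_eq_card]
        exact hPb9
      haveI := hM0n
      haveI hMn : (M0.comap q).Normal := Subgroup.Normal.comap inferInstance q
      set T0 := (Q ⊓ Cz h).subgroupOf L with hT0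
      have hT0c : Nat.card T0 = 8 := by rw [hT0, Nat.card_congr (subgroupOfEquivOfLe inf_le_right).toEquiv, T8]
      let T2 : Sylow 2 L := Sylow.ofCard T0 (by
        rw [hT0c, hL, show (1080 : ℕ) = 2 ^ 3 * 135 by norm_num, Nat.factorization_mul (by norm_num) (by norm_num),
          Finsupp.add_apply, Nat.Prime.factorization_pow Nat.prime_two, Finsupp.single_eq_same,
          Nat.factorization_eq_zero_of_not_dvd (n := 135) (by norm_num)]
        norm_num)
      have hTM : (T2 : Subgroup L) ≤ M0.comap q := fun y hy => by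
        rw [← QuotientGroup.eq_one_iff (N := M0.comap q)]
        have a1 : orderOf (y : L ⧸ M0.comap q) ∣ 9 := hM0i ▸ _root_.orderOf_dvd_natCard _
        have a2 : orderOf (y : L ⧸ M0.comap q) ∣ 8 := by
          refine (orderOf_map_dvd (QuotientGroup.mk' (M0.comap q)) y).trans ?_
          rw [← hT0c, ← Subgroup.orderOf_mk y hy]; exact _root_.orderOf_dvd_natCard _
        exact orderOf_eq_one_iff.1 (Nat.eq_one_of_dvd_coprimes (by norm_num) a1 a2)
      have hNT : Nat.card (normalizer ((T2 : Subgroup L) : Set L)) ∣ 24 := by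
        rw [← D.card_cent_three hh o3]
        refine card_dvd_of_injective ((L.subtype.comp (normalizer ((T2 : Subgroup L) : Set L)).subtype).codRestrict
          (Cz h ⊓ Cz z) fun g => hTnorm _ (g : L).2 fun v hv => ?_) fun u v he => ?_
        · exact mem_subgroupOf.1 ((mem_normalizer_iff.1 g.2 ⟨v, hv.2⟩).1 (mem_subgroupOf.2 hv))
        · exact Subtype.ext (Subtype.ext (congrArg (fun y : ↥(Cz h ⊓ Cz z) => (y : G)) he))
      have hcM : Nat.card (M0.comap q) = 120 := by
        have := (M0.comap q).card_mul_index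
        rw [hM0i, hL] at this; omega
      have hfr := frattini_dvd (M0.comap q) T2 hTM
      rw [hcM, hL] at hfr
      have := hfr.trans (Nat.mul_dvd_mul_left 120 hNT)
      norm_num at this
    · exact r
    · exact absurd ⟨2, (show j = 5 * 2 from r)⟩ h5not
    · exact absurd ⟨8, (show j = 5 * 8 from r)⟩ h5not
  obtain ⟨rfl, rfl⟩ := hj4
  have hN216 : Nat.card N = 216 := by rw [hεN, ← hMc, hj]
  have hNL108 : Nat.card NL = 108 := by rw [← hMc, hj]
  -- an element of `N` inverting `h`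
  have hnot : ¬ N ≤ L := fun hall => by
    have : NL = N := inf_eq_left.2 hall
    rw [this, hN216] at hNL108
    omega
  obtain ⟨g₁, hg₁N, hg₁L⟩ := SetLike.not_le_iff_exists.1 hnot
  have hhinv : IsConj h h⁻¹ :=
    isConj_iff.2 ⟨g₁, (hNh g₁ hg₁N).resolve_left fun e => hg₁L (mem_Cz.2 (mul_inv_eq_iff_eq_mul.1 e))⟩
  -- a Sylow 2-subgroup of `N`
  obtain ⟨S⟩ : Nonempty (Sylow 2 N) := inferInstance
  set T : Subgroup G := (S : Subgroup N).map N.subtype with hT
  have hT8 : Nat.card T = 8 := by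
    rw [hT, card_map_of_injective N.subtype_injective, S.card_eq_multiplicity, hN216,
      show (216 : ℕ) = 2 ^ 3 * 27 by norm_num, Nat.factorization_mul (by norm_num) (by norm_num),
      Finsupp.add_apply, Nat.Prime.factorization_pow Nat.prime_two, Finsupp.single_eq_same,
      Nat.factorization_eq_zero_of_not_dvd (n := 27) (by norm_num)]
    norm_num
  have hTN : T ≤ N := map_subtype_le _
  have hact : ∀ e ∈ T, ∀ y ∈ PG, e * y * e⁻¹ ∈ PG := fun e he y hy => (mem_normalizer_iff.1 (hTN he) y).1 hy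
  have hinvL : ∀ u ∈ T, u ∈ L → u * u = 1 → u ≠ 1 → ∀ y ∈ PG, u * y * u⁻¹ * y ∈ zpowers h := by
    intro u hu huL huu hu1
    refine inverts_mod o3 hhP hcentral huu (hact u hu) (mem_Cz.1 huL) fun y hy hc => ?_
    have hord : orderOf u = 2 := Cfsg.Lib.InvolCalc.order_two_of_mul_self huu hu1
    have hz := (H.three_z hh o3).1 u huL hord
    have h1920 : Nat.card (Cz u) = 1920 := by
      obtain ⟨g, rfl⟩ := isConj_iff.1 hz
      exact (card_Cz_conj g z).trans D.card_Cz
    set F := PG ⊓ Cz u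
    have hd1 : Nat.card F ∣ 27 := hPGc ▸ card_dvd_of_le inf_le_left
    have hd2 : Nat.card F ∣ 1920 := h1920 ▸ card_dvd_of_le inf_le_right
    have hd3 : Nat.card F ∣ 3 := by simpa using Nat.dvd_gcd hd1 hd2
    have heq : zpowers h = F := eq_of_le_of_card_ge (zpowers_le.2 ⟨hhP, mem_Cz.2 (mem_Cz.1 huL).symm⟩)
      (by rw [Nat.card_zpowers, o3]; exact Nat.le_of_dvd (by norm_num) hd3)
    exact heq.ge ⟨hy, mem_Cz.2 hc.symm⟩
  have hTL : Nat.card ↥(T ⊓ L) ≤ 4 := by
    have h1 : Nat.card ↥(T ⊓ L) ∣ 108 := hNL108 ▸ card_dvd_of_le (inf_le_inf_right L hTN)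
    have h2 : Nat.card ↥(T ⊓ L) ∣ 8 := hT8 ▸ card_dvd_of_le inf_le_left
    exact Nat.le_of_dvd (by norm_num) (by simpa using Nat.dvd_gcd h1 h2)
  -- elements of `T` fixing a coset are involutions
  have hfixcoset : ∀ e ∈ T, e ≠ 1 → ∀ y ∈ PG, y ∉ zpowers h → e * y * e⁻¹ * y⁻¹ ∈ zpowers h → e ∉ L ∧ e * e = 1 := by
    intro e he he1 y hy hyZ hfix
    have hyy : ∀ u ∈ T, u ∈ L → u * u = 1 → u * y * u⁻¹ * y⁻¹ ∈ zpowers h → u = 1 := by
      intro u hu huL huu hf
      by_contra hu1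
      apply hyZ
      have h2 : y * y ∈ zpowers h := by
        have := mul_mem (inv_mem hf) (hinvL u hu huL huu hu1 y hy)
        rwa [show (u * y * u⁻¹ * y⁻¹)⁻¹ * (u * y * u⁻¹ * y) = y * y by group] at this
      have h9 : y ^ 27 = 1 := by
        have := pow_card_eq_one' (x := (⟨y, hy⟩ : PG))
        rw [hPGc] at this
        exact congrArg Subtype.val this
      rw [show y = (y * y) ^ 14 by rw [← pow_two, ← pow_mul, show 2 * 14 = 27 + 1 from rfl, pow_succ, h9, one_mul]]
      exact pow_mem h2 14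
    -- the square fixes the coset too
    have hzc : ∀ d ∈ zpowers h, e * d * e⁻¹ ∈ zpowers h := fun d hd => by
      obtain ⟨i, rfl⟩ := mem_zpowers_iff.1 hd
      rw [← conj_zpow]
      refine zpow_mem ?_ i
      rcases hNh e (hTN he) with r | r <;> rw [r]
      exacts [mem_zpowers h, inv_mem (mem_zpowers h)]
    have hsq : ∀ n : ℕ, e ^ n * y * (e ^ n)⁻¹ * y⁻¹ ∈ zpowers h := by
      intro n
      induction n with
      | zero => simp
      | succ n ih =>
        rw [pow_succ', show e * e ^ n * y * (e * e ^ n)⁻¹ * y⁻¹ =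
          e * (e ^ n * y * (e ^ n)⁻¹ * y⁻¹) * e⁻¹ * (e * y * e⁻¹ * y⁻¹) by group]
        exact mul_mem (hzc _ ih) hfix
    have h8 : e ^ 8 = 1 := by
      have := pow_card_eq_one' (x := (⟨e, he⟩ : T))
      rw [hT8] at this
      exact congrArg Subtype.val this
    have hL2 : ∀ n, e ^ (2 * n) ∈ L := fun n => by
      rw [pow_mul]
      refine pow_mem (mem_Cz.2 (mul_inv_eq_iff_eq_mul.1 ?_)) n
      rw [show e ^ 2 * h * (e ^ 2)⁻¹ = e * (e * h * e⁻¹) * e⁻¹ by simp [pow_two, mul_assoc]]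
      rcases hNh e (hTN he) with r | r <;> rw [r]
      · exact r
      · rw [show e * h⁻¹ * e⁻¹ = (e * h * e⁻¹)⁻¹ by group, r, inv_inv]
    have h4 : e ^ 4 = 1 := hyy _ (pow_mem he 4) (hL2 2) (by rw [← pow_add]; exact h8) (hsq 4)
    have h2 : e ^ 2 = 1 := hyy _ (pow_mem he 2) (hL2 1) (by rw [← pow_add]; exact h4) (hsq 2)
    rw [pow_two] at h2
    exact ⟨fun heL => he1 (hyy e he heL h2 hfix), h2⟩
  -- elements in one coset of the centre are conjugate
  have hcoset : ∀ y ∈ PG, y ∉ zpowers h → ∀ y' ∈ PG, y' * y⁻¹ ∈ zpowers h → IsConj y y' := by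
    intro y hy hyZ y' hy' hyy'
    obtain ⟨b, hb, hbc⟩ : ∃ b ∈ PG, ¬ Commute y b := by
      by_contra hno
      push Not at hno
      exact hyZ (hcen y hy hno)
    set d := b * y * b⁻¹ * y⁻¹ with hd
    have hdZ : d ∈ zpowers h := by
      have h1 : (⟨d, mul_mem (mul_mem (mul_mem hb hy) (inv_mem hb)) (inv_mem hy)⟩ : PG) ∈ center PG := by
        rw [← hex.1.2.2]
        have : (⟨d, mul_mem (mul_mem (mul_mem hb hy) (inv_mem hb)) (inv_mem hy)⟩ : PG) =
            ⁅(⟨b, hb⟩ : PG), (⟨y, hy⟩ : PG)⁆ := Subtype.ext (by simp [commutatorElement_def, hd])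
        rw [this]
        exact Subgroup.commutator_mem_commutator (Subgroup.mem_top _) (Subgroup.mem_top _)
      exact hcen d (mul_mem (mul_mem (mul_mem hb hy) (inv_mem hb)) (inv_mem hy))
        fun v hv => Commute.symm (congrArg Subtype.val (mem_center_iff.1 h1 ⟨v, hv⟩))
    have hd1 : d ≠ 1 := fun e => hbc (mul_inv_eq_iff_eq_mul.1 (mul_inv_eq_one.1 e)).symm
    have hbd : ∀ i : ℕ, b ^ i * y * (b ^ i)⁻¹ = d ^ i * y := by
      intro i
      induction i with
      | zero => simp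
      | succ i ih =>
        have hbdc : Commute b (d ^ i) := by
          obtain ⟨j', hj'⟩ := mem_zpowers_iff.1 hdZ
          rw [← hj']; exact ((hcentral b hb).zpow_right j').pow_right i
        rw [pow_succ', show b * b ^ i * y * (b * b ^ i)⁻¹ = b * (b ^ i * y * (b ^ i)⁻¹) * b⁻¹ by group, ih,
          show b * (d ^ i * y) * b⁻¹ = (b * d ^ i) * (y * b⁻¹) by group, hbdc.eq, pow_succ]
        rw [hd]; group
    have hgen : ∃ i : ℕ, y' * y⁻¹ = d ^ i := by
      have hinv2 : h⁻¹ = h ^ 2 := inv_eq_of_mul_eq_one_right (by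
        rw [← pow_succ', show 2 + 1 = orderOf h from o3.symm, pow_orderOf_eq_one])
      have h3 : h = (h ^ 2) ^ 2 := by
        rw [← pow_mul, show 2 * 2 = orderOf h + 1 by rw [o3], pow_succ, pow_orderOf_eq_one, one_mul]
      rcases zpowers_three o3 hyy' with r | r | r
      · exact ⟨0, r.trans (pow_zero d).symm⟩
      · rcases zpowers_three o3 hdZ with q | q | q
        · exact absurd q hd1
        · exact ⟨1, by rw [r, q, pow_one]⟩
        · refine ⟨2, ?_⟩
          rw [r, q, hinv2]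
          exact h3
      · rcases zpowers_three o3 hdZ with q | q | q
        · exact absurd q hd1
        · refine ⟨2, ?_⟩
          rw [r, q, hinv2]
        · exact ⟨1, by rw [r, q, pow_one]⟩
    obtain ⟨i, hi⟩ := hgen
    exact isConj_iff.2 ⟨b ^ i, by rw [hbd, ← hi, inv_mul_cancel_right]⟩
  have hxy : ¬ IsConj h x := fun e => by
    obtain ⟨g, rfl⟩ := isConj_iff.1 e
    rw [card_Cz_conj, hL] at hxcard
    omega
  have hzcls : ∀ y ∈ Cz z, orderOf y = 3 → IsConj y h := by
    intro y hy oy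
    let S3 : Sylow 3 (Cz z) := Sylow.ofCard (zpowers ⟨h, hh⟩) (by
      rw [Nat.card_zpowers, Subgroup.orderOf_mk, o3, D.card_Cz, show (1920 : ℕ) = 3 ^ 1 * 640 by norm_num,
        Nat.factorization_mul (by norm_num) (by norm_num), Finsupp.add_apply,
        Nat.Prime.factorization_pow Nat.prime_three, Finsupp.single_eq_same,
        Nat.factorization_eq_zero_of_not_dvd (n := 640) (by norm_num)]
      norm_num)
    obtain ⟨g, hg⟩ := Cfsg.Lib.InvolCalc.exists_conj_le S3 (H := zpowers (⟨y, hy⟩ : Cz z))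
      (IsPGroup.of_card (n := 1) (by rw [Nat.card_zpowers, Subgroup.orderOf_mk, oy, pow_one]))
    obtain ⟨i, hi⟩ := mem_zpowers_iff.1 (hg _ (mem_zpowers _))
    have hi' : (g : G)⁻¹ * y * g ∈ zpowers h := mem_zpowers_iff.2 ⟨i, congrArg (fun v : Cz z => (v : G)) hi⟩
    have hc' : IsConj y ((g : G)⁻¹ * y * g) := isConj_iff.2 ⟨(g : G)⁻¹, by rw [inv_inv]⟩
    rcases zpowers_three o3 hi' with r | r | r
    · exfalso
      rw [show y = (g : G) * ((g : G)⁻¹ * y * g) * (g : G)⁻¹ by group, r] at oy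
      simp at oy
    · exact r ▸ hc'
    · exact (r ▸ hc' : IsConj y h⁻¹).trans hhinv.symm
  have hall : ∀ y ∈ PG, orderOf y = 3 → IsConj y h ∨ IsConj y x := by
    intro y hy oy
    by_cases hyZ : y ∈ zpowers h
    · rcases zpowers_three o3 hyZ with r | r | r
      · rw [r, orderOf_one] at oy; omega
      · exact Or.inl (r ▸ IsConj.refl h)
      · exact Or.inl (r ▸ hhinv.symm)
    by_cases hstab : ∃ e ∈ T, e ≠ 1 ∧ e * y * e⁻¹ * y⁻¹ ∈ zpowers h
    · obtain ⟨e, he, he1, hfix⟩ := hstab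
      obtain ⟨heL, hee⟩ := hfixcoset e he he1 y hy hyZ hfix
      set d := e * y * e⁻¹ * y⁻¹ with hd
      have hed : e * d * e⁻¹ = d⁻¹ := by
        obtain ⟨i, hi⟩ := mem_zpowers_iff.1 hfix
        rw [← hi, ← conj_zpow, (hNh e (hTN he)).resolve_left fun r => heL (mem_Cz.2 (mul_inv_eq_iff_eq_mul.1 r)),
          inv_zpow]
      have hd3 : d ^ 3 = 1 := by
        obtain ⟨i, hi⟩ := mem_zpowers_iff.1 hfix
        rw [← hi, ← zpow_natCast, ← zpow_mul, mul_comm, zpow_mul, zpow_natCast, ← o3, pow_orderOf_eq_one, one_zpow]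
      set y' := d ^ 2 * y with hy'
      have hy'P : y' ∈ PG := mul_mem (pow_mem ((zpowers_le.2 hhP) hfix) 2) hy
      have hey' : Commute e y' := by
        refine mul_inv_eq_iff_eq_mul.1 ?_
        rw [hy', show e * (d ^ 2 * y) * e⁻¹ = e * d ^ 2 * e⁻¹ * (e * y * e⁻¹) by group,
          show e * y * e⁻¹ = d * y by rw [hd, inv_mul_cancel_right], ← conj_pow, hed]
        have h4 : d⁻¹ ^ 2 * d = d ^ 2 := by
          have : d⁻¹ = d ^ 2 := inv_eq_of_mul_eq_one_right (by rw [← pow_succ', hd3])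
          rw [this, ← pow_mul, ← pow_succ, show 2 * 2 + 1 = 3 + 2 from rfl, pow_add, hd3, one_mul]
        rw [← mul_assoc, h4]
      have hyy' : IsConj y y' := hcoset y hy hyZ y' hy'P (by rw [hy', mul_inv_cancel_right]; exact pow_mem hfix 2)
      have oy' : orderOf y' = 3 := by
        obtain ⟨g, hg⟩ := isConj_iff.1 hyy'
        rw [← hg, show g * y * g⁻¹ = MulAut.conj g y from rfl, MulEquiv.orderOf_eq, oy]
      have oe : orderOf e = 2 := Cfsg.Lib.InvolCalc.order_two_of_mul_self hee he1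
      rcases H.class_cases ht oe with r | r
      all_goals
        obtain ⟨g, rfl⟩ := isConj_iff.1 r
        have hc2 : IsConj y' (g⁻¹ * y' * g) := isConj_iff.2 ⟨g⁻¹, by rw [inv_inv]⟩
        have o'' : orderOf (g⁻¹ * y' * g) = 3 := by
          rw [show g⁻¹ * y' * g = MulAut.conj g⁻¹ y' by simp, MulEquiv.orderOf_eq, oy']
      · refine Or.inl (hyy'.trans (hc2.trans (hzcls _ (mem_Cz.2 ((Commute.conj_iff g).1 ?_)) o'')))
        rw [show g * (g⁻¹ * y' * g) * g⁻¹ = y' by group]; exact hey'.symm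
      · refine Or.inr (hyy'.trans (hc2.trans (hxall _ (mem_Cz.2 ((Commute.conj_iff g).1 ?_)) o'')))
        rw [show g * (g⁻¹ * y' * g) * g⁻¹ = y' by group]; exact hey'.symm
    · -- a regular orbit on the cosets
      push Not at hstab
      right
      obtain ⟨g, hg⟩ := Cfsg.Lib.InvolCalc.exists_conj_le P (H := zpowers x)
        (IsPGroup.of_card (n := 1) (by rw [Nat.card_zpowers, ox, pow_one]))
      set x' := g⁻¹ * x * g with hx'
      have hx'P : x' ∈ PG := hg _ (mem_zpowers x)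
      have hxx' : IsConj x x' := isConj_iff.2 ⟨g⁻¹, by rw [inv_inv]⟩
      have hx'Z : x' ∉ zpowers h := by
        intro hmem
        rcases zpowers_three o3 hmem with r | r | r
        · rw [show x = g * x' * g⁻¹ by rw [hx']; group, r] at ox
          simp at ox
        · exact hxy (r ▸ hxx').symm
        · exact hxy (hhinv.trans (r ▸ hxx').symm)
      set Zs := (zpowers h).subgroupOf PG with hZs
      haveI hZsn : Zs.Normal := ⟨fun n hn v => by
        obtain ⟨i, hi⟩ := mem_zpowers_iff.1 (mem_subgroupOf.1 hn)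
        have : v * n * v⁻¹ = n := Subtype.ext (mul_inv_eq_iff_eq_mul.2 (hi ▸ ((hcentral v v.2).zpow_right i)).eq)
        rwa [this]⟩
      have hq9 : Nat.card (PG ⧸ Zs) = 9 := by
        have h1 := card_eq_card_quotient_mul_card_subgroup Zs
        rw [hPGc, hZs, Nat.card_congr (subgroupOfEquivOfLe (zpowers_le.2 hhP)).toEquiv, Nat.card_zpowers, o3] at h1
        rw [hZs]; omega
      have hmk : ∀ u v : PG, (QuotientGroup.mk u : PG ⧸ Zs) = QuotientGroup.mk v ↔ (v : G) * (u : G)⁻¹ ∈ zpowers h := by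
        intro u v
        rw [QuotientGroup.eq, hZs, mem_subgroupOf]
        show (u : G)⁻¹ * v ∈ _ ↔ _
        have key : ∀ (p d : G), p ∈ PG → d ∈ zpowers h → p * d * p⁻¹ = d := fun p d hp hd => by
          obtain ⟨i, rfl⟩ := mem_zpowers_iff.1 hd
          rw [((hcentral p hp).zpow_right i).eq, mul_inv_cancel_right]
        constructor
        · intro hmem
          have := key u _ u.2 hmem
          rw [show (u : G) * ((u : G)⁻¹ * v) * (u : G)⁻¹ = (v : G) * (u : G)⁻¹ by group] at this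
          rwa [this]
        · intro hmem
          have := key (u : G)⁻¹ _ (inv_mem u.2) hmem
          rw [show (u : G)⁻¹ * ((v : G) * (u : G)⁻¹) * (u : G)⁻¹⁻¹ = (u : G)⁻¹ * v by group] at this
          rwa [this]
      have hne1 : ∀ e ∈ T, ∀ hm : e * y * e⁻¹ ∈ PG, (QuotientGroup.mk ⟨e * y * e⁻¹, hm⟩ : PG ⧸ Zs) ≠ 1 := by
        intro e he hm h1
        rw [QuotientGroup.eq_one_iff, hZs, mem_subgroupOf] at h1
        apply hyZ
        obtain ⟨i, hi⟩ := mem_zpowers_iff.1 h1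
        change h ^ i = e * y * e⁻¹ at hi
        rw [show y = e⁻¹ * (e * y * e⁻¹) * e⁻¹⁻¹ by group, ← hi, ← conj_zpow]
        refine zpow_mem ?_ i
        rcases hNh e⁻¹ (inv_mem (hTN he)) with r | r <;> rw [r]
        exacts [mem_zpowers h, inv_mem (mem_zpowers h)]
      let f : T → {q : PG ⧸ Zs // q ≠ 1} := fun e =>
        ⟨QuotientGroup.mk ⟨(e : G) * y * (e : G)⁻¹, hact e e.2 y hy⟩, hne1 e e.2 _⟩
      have hf : Function.Injective f := by
        intro e e' heq
        have h1 := (hmk _ _).1 (congrArg Subtype.val heq)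
        change (e' : G) * y * (e' : G)⁻¹ * ((e : G) * y * (e : G)⁻¹)⁻¹ ∈ zpowers h at h1
        by_contra hne
        refine hstab ((e : G)⁻¹ * e') (mul_mem (inv_mem e.2) e'.2) (fun r => hne (Subtype.ext (inv_mul_eq_one.1 r))) ?_
        obtain ⟨i, hi⟩ := mem_zpowers_iff.1 h1
        rw [show (e : G)⁻¹ * e' * y * ((e : G)⁻¹ * e')⁻¹ * y⁻¹ =
          (e : G)⁻¹ * ((e' : G) * y * (e' : G)⁻¹ * ((e : G) * y * (e : G)⁻¹)⁻¹) * (e : G)⁻¹⁻¹ by group, ← hi, ← conj_zpow]
        refine zpow_mem ?_ i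
        rcases hNh (e : G)⁻¹ (inv_mem (hTN e.2)) with r | r <;> rw [r]
        exacts [mem_zpowers h, inv_mem (mem_zpowers h)]
      have h8 : Nat.card {q : PG ⧸ Zs // q ≠ 1} = 8 := by
        letI := Fintype.ofFinite (PG ⧸ Zs)
        rw [Nat.card_eq_fintype_card, Fintype.card_subtype_compl, Fintype.card_subtype_eq, ← Nat.card_eq_fintype_card, hq9]
      have hsurj := ((Nat.bijective_iff_injective_and_card f).2 ⟨hf, by rw [hT8, h8]⟩).2
      obtain ⟨e, he⟩ := hsurj ⟨QuotientGroup.mk ⟨x', hx'P⟩, fun h1 => hx'Z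
        (mem_subgroupOf.1 ((QuotientGroup.eq_one_iff (N := Zs) _).1 h1))⟩
      have h1 := (hmk _ _).1 (congrArg Subtype.val he)
      change x' * ((e : G) * y * (e : G)⁻¹)⁻¹ ∈ zpowers h at h1
      have hnz : (e : G) * y * (e : G)⁻¹ ∉ zpowers h := fun hm =>
        hne1 e e.2 (hact e e.2 y hy) ((QuotientGroup.eq_one_iff _).2 (mem_subgroupOf.2 hm))
      exact ((isConj_iff.2 ⟨(e : G), rfl⟩ : IsConj y _).trans
        (hcoset _ (hact e e.2 y hy) hnz x' hx'P h1)).trans hxx'.symm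
  obtain ⟨d, rfl⟩ := MulAction.exists_smul_eq G P P'
  have e1 : ((d • P : Sylow 3 G) : Subgroup G) = PG.map (MulAut.conj d).toMonoidHom := by
    rw [Sylow.coe_subgroup_smul]; rfl
  refine ⟨?_, ?_, ?_, h, x, o3, ox, hxy, hL, hxcard, fun c oc => ?_⟩
  · rw [e1]
    exact Cfsg.Lib.Fusion.isExtraspecial_of_cube (p := 3)
      (by rw [card_map_of_injective (MulAut.conj d).injective, hPGc]; norm_num)
      (a := ⟨MulAut.conj d u₀, mem_map_of_mem _ hu₀⟩) (b := ⟨MulAut.conj d v₀, mem_map_of_mem _ hv₀⟩)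
      fun e => huv₀ ((MulAut.conj d).injective (by rw [map_mul, map_mul]; exact congrArg Subtype.val e))
  · rw [e1, card_map_of_injective (MulAut.conj d).injective, hPGc]
  · rw [e1, ← map_equiv_normalizer_eq, card_map_of_injective (MulAut.conj d).injective, hN216]
  · obtain ⟨g, hg⟩ := Cfsg.Lib.InvolCalc.exists_conj_le P (H := zpowers c)
      (IsPGroup.of_card (n := 1) (by rw [Nat.card_zpowers, oc, pow_one]))
    have hcc : IsConj c (g⁻¹ * c * g) := isConj_iff.2 ⟨g⁻¹, by rw [inv_inv]⟩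
    have := hall _ (hg _ (mem_zpowers c))
      (by rw [show g⁻¹ * c * g = MulAut.conj g⁻¹ c by simp, MulEquiv.orderOf_eq, oc])
    exact this.imp hcc.trans hcc.trans

end Hyp

end Cfsg.Lib.HallJankoType
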