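import Cfsg.Agent.LocalThree.HallJankoType.KleinSelfCentral

/-!
A group with a self-centralizing four-group as Sylow 2-subgroup has order 4 or 12, or is `A₅`.
-/

set_option autoImplicit false
set_option linter.unusedSectionVars false

namespace Cfsg.Lib.HallJankoType

open Subgroup

universe u

variable {K : Type u} [Group K] [Finite K]

theorem four_cases {V : Subgroup K} (h4 : Nat.card V = 4) (hsq : ∀ v ∈ V, v * v = 1) (hodd : ¬ 2 ∣ V.index)
    (hcent : ∀ v ∈ V, v ≠ 1 → ∀ x : K, Commute x v → x ∈ V) :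
    V = ⊤ ∨ (Nat.card K = 12 ∧ V.Normal) ∨ Nonempty (K ≃* alternatingGroup (Fin 5)) := by
  classical
  haveI : Fact (Nat.Prime 2) := ⟨Nat.prime_two⟩
  have hcomm : ∀ a ∈ V, ∀ b ∈ V, Commute a b := fun a ha b hb => by
    show a * b = b * a
    have hab : (a * b)⁻¹ = a * b := inv_eq_of_mul_eq_one_right (hsq _ (mul_mem ha hb))
    rw [← hab, mul_inv_rev, inv_eq_of_mul_eq_one_right (hsq a ha), inv_eq_of_mul_eq_one_right (hsq b hb)]
  have hP : IsPGroup 2 V := IsPGroup.of_card (n := 2) h4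
  let S : Sylow 2 K := hP.toSylow hodd
  by_cases hN : normalizer (V : Set K) ≤ V
  · left
    have hPC : normalizer ((S : Subgroup K) : Set K) ≤ centralizer ((S : Subgroup K) : Set K) := fun n hn =>
      mem_centralizer_iff.2 fun v hv => hcomm v hv n (hN hn)
    obtain ⟨D, hDn, hD⟩ : ∃ D : Subgroup K, D.Normal ∧ IsComplement' D (S : Subgroup K) :=
      ⟨_, MonoidHom.normal_ker _, MonoidHom.ker_transferSylow_isComplement' S hPC⟩
    have hDc : Nat.card D = V.index := hD.index_eq_card.symm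
    obtain ⟨a, ha, b, hb, ha1, hb1, hab⟩ : ∃ a ∈ V, ∃ b ∈ V, a ≠ 1 ∧ b ≠ 1 ∧ a * b ≠ 1 := by
      haveI : Nontrivial V := Finite.one_lt_card_iff_nontrivial.1 (by omega)
      obtain ⟨a, ha⟩ := exists_ne (1 : V)
      by_contra hno
      push Not at hno
      have hsub : ∀ b : V, b = 1 ∨ b = a := fun b => by
        by_cases hb : b = 1
        · exact Or.inl hb
        · have := hno a a.2 b b.2 (fun e => ha (Subtype.ext e)) (fun e => hb (Subtype.ext e))
          exact Or.inr (Subtype.ext (by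
            rw [eq_inv_of_mul_eq_one_right this, inv_eq_of_mul_eq_one_right (hsq a a.2)]))
      letI := Fintype.ofFinite V
      have hle : Finset.univ ⊆ ({1, a} : Finset V) := fun b _ => by simpa using hsub b
      have := (Finset.card_le_card hle).trans Finset.card_le_two
      rw [Finset.card_univ, ← Nat.card_eq_fintype_card, h4] at this
      omega
    have hfix : ∀ v ∈ V, v ≠ 1 → ∀ x ∈ D, v * x = x * v → x = 1 := fun v hv hv1 x hx hc => by
      have hxV : x ∈ V := hcent v hv hv1 x hc.symm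
      exact (Subgroup.disjoint_def.1 hD.disjoint) hx hxV
    have hbot : D = ⊥ := Cfsg.Lib.DihedralEight.four_fpf (hsq a ha) (hsq b hb) (fun x hx => hDn.conj_mem x hx a)
      (fun x hx => hDn.conj_mem x hx b) (hfix a ha ha1) (hfix b hb hb1) (hfix _ (mul_mem ha hb) hab)
    rw [hbot, card_bot, eq_comm] at hDc
    exact index_eq_one.1 hDc
  · right
    obtain ⟨n, hn, hnV⟩ := SetLike.not_le_iff_exists.1 hN
    haveI : Nontrivial V := Finite.one_lt_card_iff_nontrivial.1 (by omega)
    obtain ⟨⟨z, hz⟩, hz0⟩ := exists_ne (1 : V)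
    have hz1 : z ≠ 1 := fun e => hz0 (Subtype.ext e)
    set w := n * z * n⁻¹ with hw
    have hwV : w ∈ V := (mem_normalizer_iff.1 hn z).1 hz
    have hw1 : w ≠ 1 := fun e => hz1 (conj_eq_one_iff.1 e)
    have hwz : w ≠ z := fun e => hnV (hcent z hz hz1 n (mul_inv_eq_iff_eq_mul.1 e))
    have hzw1 : z * w ≠ 1 := fun e => hwz (by rw [eq_inv_of_mul_eq_one_right e, inv_eq_of_mul_eq_one_right (hsq z hz)])
    have hVlist : ∀ v, v ∈ V ↔ v = 1 ∨ v = z ∨ v = w ∨ v = z * w := by
      intro v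
      refine ⟨fun hv => ?_, ?_⟩
      · by_contra hno
        push Not at hno
        obtain ⟨h1, h2, h3, h5⟩ := hno
        have hsub : ({⟨1, one_mem V⟩, ⟨z, hz⟩, ⟨w, hwV⟩, ⟨z * w, mul_mem hz hwV⟩, ⟨v, hv⟩} : Finset V).card = 5 := by
          have e1 : z * w ≠ z := fun e => hw1 (mul_eq_left.mp e)
          have e2 : z * w ≠ w := fun e => hz1 (mul_eq_right.mp e)
          rw [Finset.card_insert_of_notMem (by simp [Subtype.ext_iff, hz1.symm, hw1.symm, hzw1.symm, h1.symm]),
            Finset.card_insert_of_notMem (by simp [Subtype.ext_iff, hwz.symm, e1.symm, h2.symm]),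
            Finset.card_insert_of_notMem (by simp [Subtype.ext_iff, e2.symm, h3.symm]),
            Finset.card_pair (by simp [Subtype.ext_iff, h5.symm])]
        letI := Fintype.ofFinite V
        have := Finset.card_le_univ ({⟨1, one_mem V⟩, ⟨z, hz⟩, ⟨w, hwV⟩, ⟨z * w, mul_mem hz hwV⟩, ⟨v, hv⟩} : Finset V)
        rw [hsub, ← Nat.card_eq_fintype_card, h4] at this
        omega
      · rintro (rfl | rfl | rfl | rfl)
        exacts [one_mem V, hz, hwV, mul_mem hz hwV]
    -- an element whose square lies in `V` lies in `V`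
    have hsqV : n ^ 2 ∈ V → n ∈ V := fun h2 => by
      set N := normalizer (V : Set K)
      have hVN : V ≤ N := le_normalizer
      haveI : (V.subgroupOf N).Normal := normal_in_normalizer
      have hidx : ¬ 2 ∣ (V.subgroupOf N).index := fun hd => hodd (hd.trans (relIndex_dvd_index_of_le hVN))
      have h2' : ((⟨n, hn⟩ : N) : N ⧸ V.subgroupOf N) ^ 2 = 1 := by
        rw [← QuotientGroup.mk_pow, QuotientGroup.eq_one_iff, mem_subgroupOf]; exact h2
      have hd1 := orderOf_dvd_of_pow_eq_one h2'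
      have hd2 : orderOf ((⟨n, hn⟩ : N) : N ⧸ V.subgroupOf N) ∣ (V.subgroupOf N).index := orderOf_dvd_natCard _
      have h1 := Nat.eq_one_of_dvd_coprimes ((Nat.prime_two.coprime_iff_not_dvd).2 hidx) hd1 hd2
      rw [orderOf_eq_one_iff, QuotientGroup.eq_one_iff, mem_subgroupOf] at h1
      exact h1
    have hnw : n * w * n⁻¹ = z * w := by
      rcases (hVlist _).1 ((mem_normalizer_iff.1 hn w).1 hwV) with e | e | e | e
      · exact absurd (conj_eq_one_iff.1 e) hw1
      · exfalso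
        refine hnV (hsqV (hcent z hz hz1 _ (mul_inv_eq_iff_eq_mul.1 ?_)))
        rw [show n ^ 2 * z * (n ^ 2)⁻¹ = n * (n * z * n⁻¹) * n⁻¹ by simp [pow_two, mul_assoc]]
        exact e
      · exact absurd ((MulAut.conj n).injective (show n * w * n⁻¹ = n * z * n⁻¹ from e)) hwz
      · exact e
    have hnzw : n * (z * w) * n⁻¹ = z := by
      rw [show n * (z * w) * n⁻¹ = (n * z * n⁻¹) * (n * w * n⁻¹) by group, hnw, ← hw, (hcomm z hz w hwV).eq,
        ← mul_assoc, hsq w hwV, one_mul]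
    have h3V : n ^ 3 ∈ V := hcent z hz hz1 _ (mul_inv_eq_iff_eq_mul.1 (by
      rw [show n ^ 3 * z * (n ^ 3)⁻¹ = n * (n * (n * z * n⁻¹) * n⁻¹) * n⁻¹ by simp [pow_succ, mul_assoc], ← hw, hnw, hnzw]))
    have hact : ∀ v ∈ V, n ^ 4 * v * (n ^ 4)⁻¹ = n * v * n⁻¹ := fun v hv => by
      rw [show n ^ 4 * v * (n ^ 4)⁻¹ = n * (n ^ 3 * v * (n ^ 3)⁻¹) * n⁻¹ by simp [pow_succ, mul_assoc],
        (hcomm _ h3V v hv).eq, mul_inv_cancel_right]
    refine self_central_four hVlist h4 hsq hodd hcent (h := n ^ 4) ?_ ?_ ?_ ?_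
    · rw [hact z hz]
    · rw [hact w hwV, hnw]
    · rw [hact _ (mul_mem hz hwV), hnzw]
    · rw [← pow_mul, show 4 * 3 = 3 * 2 * 2 from rfl, pow_mul, pow_mul, pow_two (n ^ 3), hsq _ h3V, one_pow]

end Cfsg.Lib.HallJankoType
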