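import Cfsg.Agent.LocalThree.HallJankoType.Five
import Mathlib.GroupTheory.SpecificGroups.Alternating.Simple

/-!
The centralizer `C` of `z` with `C/Q ≅ A₅` permuting the five points.
-/

set_option autoImplicit false
set_option linter.unusedSectionVars false

namespace Cfsg.Lib.HallJankoType

open Subgroup Equiv

variable {G : Type*} [Group G]

/-- the centralizer of an element -/
abbrev Cz (z : G) : Subgroup G := centralizer ({z} : Set G)

theorem mem_Cz {z c : G} : c ∈ Cz z ↔ Commute c z := mem_centralizer_singleton_iff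

/-- a centralizer `C` of `z` together with its action on the five points -/
structure Data (z : G) (Q : Subgroup G) (a : Fin 5 → G) (σ : Cz z →* Perm (Fin 5)) : Prop where
  frame : Frame z Q a
  cen : centralizer (Q : Set G) ≤ Q
  le : Q ≤ Cz z
  norm : ∀ c ∈ Cz z, ∀ q ∈ Q, c * q * c⁻¹ ∈ Q
  act : ∀ (c : Cz z) (i : Fin 5), Cls z ((c : G) * a i * (c : G)⁻¹) (a (σ c i))
  ker : ∀ c : Cz z, σ c = 1 ↔ (c : G) ∈ Q
  sign : ∀ c : Cz z, Perm.sign (σ c) = 1
  surj : ∀ π : Perm (Fin 5), Perm.sign π = 1 → ∃ c : Cz z, σ c = π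

theorem exists_data [Finite G] {z : G} {Q : Subgroup G} (hx2 : Cfsg.Lib.LargeExtra.X2 Q z)
    (hle : Q ≤ Cz z) (hnorm : ∀ c ∈ Cz z, ∀ q ∈ Q, c * q * c⁻¹ ∈ Q) (hcard : Nat.card Q = 32)
    (hcen : centralizer (Q : Set G) ≤ Q)
    (φ : Cz z →* alternatingGroup (Fin 5)) (hφ : Function.Surjective φ) (hker : φ.ker = Q.subgroupOf (Cz z)) :
    ∃ (a : Fin 5 → G) (σ : Cz z →* Perm (Fin 5)), Data z Q a σ := by
  classical
  have hq : ∀ c : Cz z, φ c = 1 ↔ (c : G) ∈ Q := fun c => by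
    rw [← MonoidHom.mem_ker, hker, mem_subgroupOf]
  obtain ⟨π, hπ5, hπ32⟩ : ∃ π : alternatingGroup (Fin 5), π ^ 5 = 1 ∧ π ^ 32 ≠ 1 := by decide +kernel
  obtain ⟨f₀, rfl⟩ := hφ π
  have h32 : ∀ q ∈ Q, q ^ 32 = 1 := fun q hq => by
    have := congrArg Subtype.val (pow_card_eq_one' (x := (⟨q, hq⟩ : Q)))
    simpa [hcard] using this
  set f : G := (f₀ : G) ^ 32 with hf
  have hf5 : f ^ 5 = 1 := by
    rw [hf, ← pow_mul, mul_comm, pow_mul]
    exact h32 _ (by rw [← SubgroupClass.coe_pow]; exact (hq (f₀ ^ 5)).1 (by rw [map_pow, hπ5]))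
  have hfC : f ∈ Cz z := pow_mem f₀.2 _
  have hfQ : f ∉ Q := fun h => hπ32 (by rw [← map_pow]; exact (hq _).2 (by rw [SubgroupClass.coe_pow]; exact h))
  have hmove : ∃ q ∈ Q, ¬ Commute f q := by
    by_contra hall
    push Not at hall
    exact hfQ (hcen (mem_centralizer_iff.2 fun q hq => (hall q hq).eq.symm))
  obtain ⟨hfree, a, F⟩ := exists_frame hx2 hcard hf5 (hnorm f hfC) (mem_Cz.1 hfC) hmove
  obtain ⟨σ, hσ⟩ := exists_action F hnorm fun c hc => mem_Cz.1 hc
  have hQker : ∀ c : Cz z, (c : G) ∈ Q → σ c = 1 := fun c hc => Equiv.ext fun i => by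
    refine (F.unique (hσ c i) ?_).trans rfl
    by_cases h : Commute (c : G) (a i)
    · exact Or.inl (by rw [h.eq, mul_inv_cancel_right]; rfl)
    · exact Or.inr (hx2.not_commute_conj hc (F.mem i) h)
  have hσf : σ ⟨f, hfC⟩ ≠ 1 := fun e => by
    have h0 := hσ ⟨f, hfC⟩ 0
    rw [e] at h0
    change Cls z (f * a 0 * f⁻¹) (a 0) at h0
    have hc : Commute (f ^ 2) (a 0) := by
      have e2 : f ^ 2 * a 0 * (f ^ 2)⁻¹ = f * (f * a 0 * f⁻¹) * f⁻¹ := by rw [pow_two]; group
      refine mul_inv_eq_iff_eq_mul.1 ?_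
      rcases h0 with h0 | h0
      · rw [e2, h0, h0]
      · rw [e2, h0, ← mul_assoc f z, (mem_Cz.1 hfC).eq, show z * f * a 0 * f⁻¹ = z * (f * a 0 * f⁻¹) by group, h0,
          ← mul_assoc, hx2.zz, one_mul]
    have hcf : Commute f (a 0) := by
      have := hc.pow_left 3
      rwa [← pow_mul, show 2 * 3 = 5 + 1 by rfl, pow_succ, hf5, one_mul] at this
    rcases hfree _ (F.mem 0) hcf with e | e
    · exact F.ne1 0 (Or.inl e)
    · exact F.ne1 0 (Or.inr (by rw [e, mul_one]))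
  haveI : IsSimpleGroup (alternatingGroup (Fin 5)) := alternatingGroup.isSimpleGroup (by simp)
  haveI : (σ.ker.map φ).Normal := Subgroup.Normal.map inferInstance φ hφ
  have hker' : ∀ c : Cz z, σ c = 1 ↔ (c : G) ∈ Q := by
    rcases (inferInstance : (σ.ker.map φ).Normal).eq_bot_or_eq_top with h | h
    · refine fun c => ⟨fun e => (hq c).1 ?_, hQker c⟩
      have : φ c ∈ σ.ker.map φ := mem_map_of_mem _ e
      rwa [h, mem_bot] at this
    · exfalso
      obtain ⟨k, hk, hk'⟩ : φ ⟨f, hfC⟩ ∈ σ.ker.map φ := h ▸ mem_top _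
      have : φ (k⁻¹ * ⟨f, hfC⟩) = 1 := by rw [map_mul, map_inv, hk', inv_mul_cancel]
      have h1 := hQker _ ((hq _).1 this)
      rw [map_mul, map_inv, MonoidHom.mem_ker.1 hk, inv_one, one_mul] at h1
      exact hσf h1
  have hcardr : Nat.card σ.range = 60 := by
    have hk : σ.ker = φ.ker := by
      ext c
      rw [MonoidHom.mem_ker, MonoidHom.mem_ker, hker', hq]
    rw [← Nat.card_congr (QuotientGroup.quotientKerEquivRange σ).toEquiv,
      Nat.card_congr (QuotientGroup.quotientMulEquivOfEq hk).toEquiv,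
      Nat.card_congr (QuotientGroup.quotientKerEquivOfSurjective φ hφ).toEquiv, Nat.card_eq_fintype_card]
    decide +kernel
  have hrange : σ.range = alternatingGroup (Fin 5) := by
    refine Equiv.Perm.eq_alternatingGroup_of_index_eq_two ?_
    have h := σ.range.card_mul_index
    rw [hcardr, Nat.card_eq_fintype_card, Fintype.card_perm, Fintype.card_fin,
      show Nat.factorial 5 = 120 from rfl] at h
    omega
  exact ⟨a, σ, {
    frame := F
    cen := hcen
    le := hle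
    norm := hnorm
    act := hσ
    ker := hker'
    sign := fun c => Perm.mem_alternatingGroup.1 (hrange ▸ ⟨c, rfl⟩)
    surj := fun π hπ => (hrange.symm ▸ Perm.mem_alternatingGroup.2 hπ : π ∈ σ.range) }⟩

end Cfsg.Lib.HallJankoType
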