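import Cfsg.Agent.LocalThree.HallJankoType.Frame

/-!
The five singular points of `D₈ * Q₈` and the permutation action on them of a normalising group.
-/

set_option autoImplicit false
set_option linter.unusedSectionVars false

namespace Cfsg.Lib.HallJankoType

open Subgroup

variable {G : Type*} [Group G]

/-- the class of `q` modulo the centre contains `x` -/
def Cls (z q x : G) : Prop := q = x ∨ q = z * x

/-- five singular points -/
structure Frame (z : G) (Q : Subgroup G) (a : Fin 5 → G) : Prop where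
  x2 : Cfsg.Lib.LargeExtra.X2 Q z
  card : Nat.card Q = 32
  mem : ∀ i, a i ∈ Q
  sq : ∀ i, a i * a i = 1
  ne1 : ∀ i, ¬ Cls z (a i) 1
  inj : ∀ i j, i ≠ j → ¬ Cls z (a i) (a j)
  anti : ∀ i j, i ≠ j → a j * a i = z * (a i * a j)
  pts : ∀ q ∈ Q, q * q = 1 → Cls z q 1 ∨ ∃ i, Cls z q (a i)
  cls : ∀ q ∈ Q, Cls z q 1 ∨ (∃ i, Cls z q (a i)) ∨ ∃ i j, i < j ∧ Cls z q (a i * a j)
  pair : ∀ i j k l, i < j → k < l → Cls z (a i * a j) (a k * a l) → i = k ∧ j = l
  sum : ∀ i j k l m, [i, j, k, l, m].Nodup → Cls z (a i) (a j * a k * (a l * a m))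

def czC : Code := (true, false, false, false, false)
def oneC : Code := (false, false, false, false, false)

/-- class relation on codes -/
abbrev ClsC (x y : Code) : Prop := x = y ∨ x = cmul true czC y

theorem pt_sq : ∀ i, cmul true (pt i) (pt i) = oneC := by decide +kernel
theorem pt_ne : ∀ i, ¬ ClsC (pt i) oneC := by decide +kernel
theorem pt_inj : ∀ i j, i ≠ j → ¬ ClsC (pt i) (pt j) := by decide +kernel
theorem pt_anti : ∀ i j, i ≠ j → cmul true (pt j) (pt i) = cmul true czC (cmul true (pt i) (pt j)) := by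
  decide +kernel
set_option synthInstance.maxSize 1024 in
set_option synthInstance.maxHeartbeats 200000 in
theorem pt_pts : ∀ x : Code, cmul true x x = oneC → ClsC x oneC ∨ ∃ i, ClsC x (pt i) := by decide +kernel
set_option synthInstance.maxSize 1024 in
set_option synthInstance.maxHeartbeats 200000 in
theorem pt_cls : ∀ x : Code, ClsC x oneC ∨ (∃ i, ClsC x (pt i)) ∨
    ∃ i j, i < j ∧ ClsC x (cmul true (pt i) (pt j)) := by decide +kernel
theorem pt_pair : ∀ i j k l : Fin 5, i < j → k < l →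
    ClsC (cmul true (pt i) (pt j)) (cmul true (pt k) (pt l)) → i = k ∧ j = l := by decide +kernel
set_option synthInstance.maxSize 1024 in
set_option synthInstance.maxHeartbeats 200000 in
theorem pt_sum : ∀ i j k l m : Fin 5, [i, j, k, l, m].Nodup →
    ClsC (pt i) (cmul true (cmul true (pt j) (pt k)) (cmul true (pt l) (pt m))) := by decide +kernel

theorem exists_frame [Finite G] {Q : Subgroup G} {z f : G} (h : Cfsg.Lib.LargeExtra.X2 Q z)
    (hcard : Nat.card Q = 32) (hf : f ^ 5 = 1) (hfN : ∀ q ∈ Q, f * q * f⁻¹ ∈ Q) (hfz : Commute f z)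
    (hfC : ∃ q ∈ Q, ¬ Commute f q) :
    (∀ q ∈ Q, Commute f q → q = 1 ∨ q = z) ∧ ∃ a : Fin 5 → G, Frame z Q a := by
  obtain ⟨hfree, a, c, b, d, ha, hc, hb, hd, g⟩ := exists_gens h hcard hf hfN hfz hfC
  refine ⟨hfree, fun i => ev z a c b d (pt i), ?_⟩
  have hz : ev z a c b d czC = z := by simp [ev, bp, czC]
  have h1 : ev z a c b d oneC = 1 := g.ev_one
  have hinj := g.ev_injective h.ne
  have hcl : ∀ x y : Code, Cls z (ev z a c b d x) (ev z a c b d y) ↔ ClsC x y := fun x y => by
    unfold Cls ClsC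
    rw [← hinj.eq_iff (a := x) (b := y), ← hinj.eq_iff (a := x) (b := cmul true czC y), ← g.ev_mul, hz]
  have hcl1 : ∀ x : Code, Cls z (ev z a c b d x) 1 ↔ ClsC x oneC := fun x => by rw [← hcl, h1]
  have hs : ∀ {q}, q ∈ Q → ∃ x, ev z a c b d x = q := fun hq => ev_surj g h.ne h.mem ha hc hb hd hcard hq
  exact {
    x2 := h
    card := hcard
    mem := fun i => g.ev_mem h.mem ha hc hb hd _
    sq := fun i => by rw [g.ev_mul, pt_sq, h1]
    ne1 := fun i e => pt_ne i ((hcl1 _).1 e)
    inj := fun i j hij e => pt_inj i j hij ((hcl _ _).1 e)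
    anti := fun i j hij => by rw [g.ev_mul, g.ev_mul, pt_anti i j hij, ← g.ev_mul, hz]
    pts := fun q hq e => by
      obtain ⟨x, rfl⟩ := hs hq
      rcases pt_pts x (hinj (by rw [← g.ev_mul, h1]; exact e)) with e' | ⟨i, e'⟩
      · exact Or.inl ((hcl1 _).2 e')
      · exact Or.inr ⟨i, (hcl _ _).2 e'⟩
    cls := fun q hq => by
      obtain ⟨x, rfl⟩ := hs hq
      rcases pt_cls x with e' | ⟨i, e'⟩ | ⟨i, j, hij, e'⟩
      · exact Or.inl ((hcl1 _).2 e')
      · exact Or.inr (Or.inl ⟨i, (hcl _ _).2 e'⟩)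
      · exact Or.inr (Or.inr ⟨i, j, hij, by rw [g.ev_mul]; exact (hcl _ _).2 e'⟩)
    pair := fun i j k l hij hkl e => pt_pair i j k l hij hkl (by rw [g.ev_mul, g.ev_mul] at e; exact (hcl _ _).1 e)
    sum := fun i j k l m hn => by
      rw [g.ev_mul, g.ev_mul, g.ev_mul]
      exact (hcl _ _).2 (pt_sum i j k l m hn) }

namespace Frame

variable {z : G} {Q : Subgroup G} {a : Fin 5 → G} (F : Frame z Q a)
include F

theorem zc {q : G} (hq : q ∈ Q) : Commute z q := (F.x2.central q hq).symm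

theorem z_ai (i : Fin 5) : a i * z = z * a i := (F.zc (F.mem i)).eq.symm

theorem cls_symm {q x : G} (e : Cls z q x) : Cls z x q := by
  rcases e with rfl | rfl
  · exact Or.inl rfl
  · exact Or.inr (by rw [← mul_assoc, F.x2.zz, one_mul])

theorem cls_trans {q x y : G} (e : Cls z q x) (e' : Cls z x y) : Cls z q y := by
  rcases e with rfl | rfl <;> rcases e' with rfl | rfl
  · exact Or.inl rfl
  · exact Or.inr rfl
  · exact Or.inr rfl
  · exact Or.inl (by rw [← mul_assoc, F.x2.zz, one_mul])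

/-- the point of a non-central involution is unique -/
theorem unique {q : G} {i j : Fin 5} (hi : Cls z q (a i)) (hj : Cls z q (a j)) : i = j := by
  by_contra hij
  exact F.inj i j hij (F.cls_trans (F.cls_symm hi) hj)

theorem pt_invol {q : G} {i : Fin 5} (e : Cls z q (a i)) : q ∈ Q ∧ q * q = 1 ∧ q ≠ 1 ∧ q ≠ z := by
  refine ⟨?_, ?_, fun h1 => F.ne1 i (F.cls_symm (h1 ▸ e)), fun h1 => F.ne1 i ?_⟩
  · rcases e with rfl | rfl
    exacts [F.mem i, mul_mem F.x2.mem (F.mem i)]
  · rcases e with rfl | rfl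
    · exact F.sq i
    · rw [Commute.mul_mul_mul_comm (F.zc (F.mem i)).symm, F.x2.zz, F.sq i, one_mul]
  · subst h1
    rcases e with e | e
    · exact Or.inr (by rw [← e, mul_one])
    · exact Or.inl (by exact (mul_eq_left.mp e.symm))

end Frame

variable {z : G} {Q : Subgroup G} {a : Fin 5 → G}

/-- the action on the five points -/
theorem exists_action (F : Frame z Q a) {C : Subgroup G} (hC : ∀ c ∈ C, ∀ q ∈ Q, c * q * c⁻¹ ∈ Q)
    (hz : ∀ c ∈ C, Commute c z) :
    ∃ σ : C →* Equiv.Perm (Fin 5), ∀ (c : C) (i : Fin 5), Cls z ((c : G) * a i * (c : G)⁻¹) (a (σ c i)) := by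
  have hex : ∀ (c : C) (i : Fin 5), ∃ j, Cls z ((c : G) * a i * (c : G)⁻¹) (a j) := by
    intro c i
    refine (F.pts _ (hC c c.2 _ (F.mem i)) ?_).resolve_left fun e => ?_
    · rw [show (c : G) * a i * (c : G)⁻¹ * ((c : G) * a i * (c : G)⁻¹) = c * (a i * a i) * (c : G)⁻¹ by group,
        F.sq i]; group
    · refine F.ne1 i ?_
      rcases e with e | e
      · exact Or.inl (by rwa [mul_inv_eq_one, mul_eq_left] at e)
      · refine Or.inr ?_
        rw [mul_one] at e ⊢
        calc a i = (c : G)⁻¹ * ((c : G) * a i * (c : G)⁻¹) * c := by group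
          _ = (c : G)⁻¹ * (c * z) := by rw [e, (hz c c.2).eq]; group
          _ = z := by group
  choose s hs using hex
  have hmul : ∀ (c d : C) (i : Fin 5), s (c * d) i = s c (s d i) := by
    intro c d i
    refine F.unique (hs (c * d) i) ?_
    have e1 := hs c (s d i)
    refine F.cls_trans ?_ e1
    have hcd : ((c * d : C) : G) * a i * ((c * d : C) : G)⁻¹ = c * ((d : G) * a i * (d : G)⁻¹) * (c : G)⁻¹ := by
      simp [mul_assoc]
    rw [hcd]
    rcases hs d i with e | e <;> rw [e]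
    · exact Or.inl rfl
    · refine Or.inr ?_
      rw [← mul_assoc, (hz c c.2).eq]
      group
  have hone : ∀ i, s 1 i = i := fun i => F.unique (hs 1 i) (Or.inl (by simp))
  let σ : C → Equiv.Perm (Fin 5) := fun c =>
    ⟨s c, s c⁻¹, fun i => by rw [← hmul, inv_mul_cancel, hone], fun i => by rw [← hmul, mul_inv_cancel, hone]⟩
  exact ⟨MonoidHom.mk' σ fun c d => Equiv.ext fun i => hmul c d i, fun c i => hs c i⟩

end Cfsg.Lib.HallJankoType
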