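import Cfsg.Agent.InvolCalc.KleinCentralizer
import Cfsg.Agent.InvolCalc.Classes
import Cfsg.Agent.LocalThree.DihedralEightGeneral

/-!
A group with a self-centralizing four-group as Sylow 2-subgroup whose involutions are permuted transitively.
-/

set_option autoImplicit false
set_option linter.unusedSectionVars false

namespace Cfsg.Lib.HallJankoType

open Subgroup

universe u

variable {K : Type u} [Group K] [Finite K]

set_option maxHeartbeats 1000000 in
theorem self_central_four {V : Subgroup K} {z w h : K} (hV : ∀ v, v ∈ V ↔ v = 1 ∨ v = z ∨ v = w ∨ v = z * w)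
    (h4 : Nat.card V = 4) (hsq : ∀ v ∈ V, v * v = 1) (hodd : ¬ 2 ∣ V.index)
    (hcent : ∀ v ∈ V, v ≠ 1 → ∀ x : K, Commute x v → x ∈ V)
    (hz : h * z * h⁻¹ = w) (hw : h * w * h⁻¹ = z * w) (hzw : h * (z * w) * h⁻¹ = z) (h3 : h ^ 3 = 1) :
    (Nat.card K = 12 ∧ V.Normal) ∨ Nonempty (K ≃* alternatingGroup (Fin 5)) := by
  classical
  haveI : Fact (Nat.Prime 2) := ⟨Nat.prime_two⟩
  have hzV : z ∈ V := (hV z).2 (Or.inr (Or.inl rfl))
  have hwV : w ∈ V := (hV w).2 (Or.inr (Or.inr (Or.inl rfl)))
  have hz1 : z ≠ 1 := by
    intro e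
    have ew : w = 1 := by rw [← hz, e]; group
    have hle : V ≤ ⊥ := fun v hv => by
      rcases (hV v).1 hv with r | r | r | r <;> simp [r, e, ew]
    have := card_le_of_le hle
    rw [h4, card_bot] at this
    omega
  have hw1 : w ≠ 1 := fun e => hz1 (conj_eq_one_iff.1 (hz.trans e))
  have hzw1 : z * w ≠ 1 := fun e => hw1 (conj_eq_one_iff.1 (hw.trans e))
  have hzz : z * z = 1 := hsq z hzV
  have hww : w * w = 1 := hsq w hwV
  have hcomm : ∀ a ∈ V, ∀ b ∈ V, Commute a b := fun a ha b hb => by
    show a * b = b * a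
    have hab : (a * b)⁻¹ = a * b := inv_eq_of_mul_eq_one_right (hsq _ (mul_mem ha hb))
    rw [← hab, mul_inv_rev, inv_eq_of_mul_eq_one_right (hsq a ha), inv_eq_of_mul_eq_one_right (hsq b hb)]
  have hVh : ∀ v ∈ V, h * v * h⁻¹ ∈ V := fun v hv => by
    rcases (hV v).1 hv with r | r | r | r <;> subst r
    · simp
    · rw [hz]; exact hwV
    · rw [hw]; exact mul_mem hzV hwV
    · rw [hzw]; exact hzV
  -- the elements normalising `V`
  have hform : ∀ g : K, g ∈ normalizer (V : Set K) → g ∈ V ∨ h⁻¹ * g ∈ V ∨ h * g ∈ V := by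
    intro g hg
    have h1 := (hV _).1 ((mem_normalizer_iff.1 hg z).1 hzV)
    rcases h1 with e | e | e | e
    · exact absurd (conj_eq_one_iff.1 e) hz1
    · exact Or.inl (hcent z hzV hz1 g (mul_inv_eq_iff_eq_mul.1 e))
    · refine Or.inr (Or.inl (hcent z hzV hz1 _ (mul_inv_eq_iff_eq_mul.1 ?_)))
      calc h⁻¹ * g * z * (h⁻¹ * g)⁻¹ = h⁻¹ * (g * z * g⁻¹) * h := by group
        _ = z := by rw [e, ← hz]; group
    · refine Or.inr (Or.inr (hcent z hzV hz1 _ (mul_inv_eq_iff_eq_mul.1 ?_)))
      calc h * g * z * (h * g)⁻¹ = h * (g * z * g⁻¹) * h⁻¹ := by group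
        _ = z := by rw [e, hzw]
  have hP : IsPGroup 2 V := IsPGroup.of_card (n := 2) h4
  let S : Sylow 2 K := hP.toSylow hodd
  have hS : (S : Subgroup K) = V := rfl
  by_cases hn : V.Normal
  · left
    refine ⟨?_, hn⟩
    have hall : ∀ g : K, g ∈ V ∨ h⁻¹ * g ∈ V ∨ h * g ∈ V := fun g =>
      hform g (by rw [normalizer_eq_top_iff.2 hn]; trivial)
    have hhV : h ∉ V := fun hh => by
      have := (hcomm h hh z hzV).eq
      exact hw1 (by
        have e : w = z := by rw [← hz, this]; group
        exact absurd (show z * w = 1 by rw [e, hzz]) hzw1)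
    let f : Fin 3 × V → K := fun p => h ^ (p.1 : ℕ) * p.2
    have hf : Function.Bijective f := by
      constructor
      · rintro ⟨i, u⟩ ⟨j, v⟩ e
        have e' : h ^ (i : ℕ) * (u : K) = h ^ (j : ℕ) * (v : K) := e
        have key : ∀ i j : Fin 3, (i : ℕ) < j → ∀ u v : V, h ^ (i : ℕ) * (u : K) ≠ h ^ (j : ℕ) * (v : K) := by
          intro i j hij u v e
          have h1 : h ^ ((j : ℕ) - i) ∈ V := by
            rw [show (j : ℕ) = i + (j - i) by omega, pow_add, mul_assoc, mul_left_cancel_iff] at e
            rw [eq_mul_inv_of_mul_eq e.symm]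
            exact mul_mem u.2 (inv_mem v.2)
          rcases (by omega : (j : ℕ) - i = 1 ∨ (j : ℕ) - i = 2) with r | r <;> rw [r] at h1
          · exact hhV (by simpa using h1)
          · apply hhV
            have h2 := pow_mem h1 2
            rw [← pow_mul, show 2 * 2 = 3 + 1 from rfl, pow_succ, h3, one_mul] at h2
            exact h2
        rcases lt_trichotomy (i : ℕ) j with r | r | r
        · exact absurd e' (key i j r u v)
        · obtain rfl := Fin.ext r
          exact Prod.ext rfl (Subtype.ext (mul_left_cancel e'))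
        · exact absurd e'.symm (key j i r v u)
      · intro g
        rcases hall g with r | r | r
        · exact ⟨(0, ⟨g, r⟩), by simp [f]⟩
        · exact ⟨(1, ⟨_, r⟩), by simp [f]⟩
        · exact ⟨(2, ⟨_, r⟩), by
            show h ^ 2 * (h * g) = g
            rw [← mul_assoc, ← pow_succ, h3, one_mul]⟩
    rw [← Nat.card_congr (Equiv.ofBijective f hf), Nat.card_prod, Nat.card_fin, h4]
  · right
    have hVM : ∀ M : Subgroup K, M.Normal → M ≠ ⊥ → M = ⊤ := by
      intro M hM hM1
      -- `M` has even order
      have hfix : ∀ v ∈ V, v ≠ 1 → ∀ D : Subgroup K, Odd (Nat.card D) → ∀ x ∈ D, v * x = x * v → x = 1 := by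
        intro v hv hv1 D hD x hx hc
        have hxV : x ∈ V := hcent v hv hv1 x hc.symm
        refine orderOf_eq_one_iff.1 ?_
        have h1 : orderOf x ∣ 2 := orderOf_dvd_of_pow_eq_one (by rw [pow_two, hsq x hxV])
        have h2 : orderOf x ∣ Nat.card D := by
          rw [← Subgroup.orderOf_mk x hx]; exact orderOf_dvd_natCard _
        exact Nat.eq_one_of_dvd_coprimes (Nat.coprime_two_left.2 hD) h1 h2
      have hodd0 : ∀ D : Subgroup K, Odd (Nat.card D) → (∀ v ∈ V, ∀ x ∈ D, v * x * v⁻¹ ∈ D) → D = ⊥ := fun D hD hn =>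
        Cfsg.Lib.DihedralEight.four_fpf hzz hww (hn z hzV) (hn w hwV) (hfix z hzV hz1 D hD) (hfix w hwV hw1 D hD)
          (hfix _ (mul_mem hzV hwV) hzw1 D hD)
      have heven : 2 ∣ Nat.card M := by
        by_contra hc
        exact hM1 (hodd0 M (Nat.odd_iff.2 (by omega)) fun v _ x hx => hM.conj_mem x hx v)
      obtain ⟨u, hu⟩ := exists_prime_orderOf_dvd_card' 2 heven
      have hu2 : orderOf (u : K) = 2 := by rwa [orderOf_coe]
      obtain ⟨g, hg⟩ := Cfsg.Lib.InvolCalc.exists_conj_le S (H := zpowers (u : K))
        (IsPGroup.of_card (n := 1) (by rw [Nat.card_zpowers, hu2, pow_one]))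
      have hv : g⁻¹ * u * g ∈ V := hg _ (mem_zpowers _)
      have hvM : g⁻¹ * u * g ∈ M := by simpa using hM.conj_mem u u.2 g⁻¹
      have hV' : V ≤ M := by
        have hcl : ∀ x ∈ M, h * x * h⁻¹ ∈ M := fun x hx => hM.conj_mem x hx h
        have hzwV := hzw
        rcases (hV _).1 hv with e | e | e | e
        · exfalso
          have : (u : K) = 1 := by
            rw [show (u : K) = g * (g⁻¹ * u * g) * g⁻¹ by group, e]; group
          rw [this, orderOf_one] at hu2
          omega
        all_goals
          rw [e] at hvM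
          have a1 := hcl _ hvM
          have a2 := hcl _ a1
          simp only [hz, hw, hzw] at a1 a2
          intro v hv'
          rcases (hV v).1 hv' with r | r | r | r <;> subst r <;> first | exact one_mem M | assumption
      -- the Sylow subgroup of `M`
      let V' : Subgroup M := V.subgroupOf M
      have hP' : IsPGroup 2 V' := hP.comap_of_injective _ M.subtype_injective
      have hodd' : ¬ 2 ∣ V'.index := fun hd => hodd (hd.trans (relIndex_dvd_index_of_le hV'))
      let T : Sylow 2 M := hP'.toSylow hodd'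
      by_cases hhM : h ∈ M
      · -- Frattini
        refine eq_top_iff.2 fun g _ => ?_
        have hfr := Sylow.normalizer_sup_eq_top (N := M) T
        have hmap : ((T : Subgroup M).map M.subtype) = V := map_subgroupOf_eq_of_le hV'
        rw [hmap] at hfr
        have hle : normalizer (V : Set K) ≤ M := fun n hn' => by
          rcases hform n hn' with r | r | r
          · exact hV' r
          · simpa using mul_mem hhM (hV' r)
          · simpa using mul_mem (inv_mem hhM) (hV' r)
        rw [sup_eq_right.2 hle] at hfr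
        rw [hfr]; trivial
      · exfalso
        have hPC : normalizer ((T : Subgroup M) : Set M) ≤ centralizer ((T : Subgroup M) : Set M) := by
          intro n hn'
          have hnV : (n : K) ∈ V := by
            have hnn : (n : K) ∈ normalizer (V : Set K) := mem_normalizer_iff.2 fun x => by
              constructor
              · intro hx
                exact mem_subgroupOf.1 ((mem_normalizer_iff.1 hn' ⟨x, hV' hx⟩).1 (mem_subgroupOf.2 hx))
              · intro hx
                have hxM : x ∈ M := by
                  have := hM.conj_mem _ (hV' hx) (n : K)⁻¹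
                  simpa [mul_assoc] using this
                exact mem_subgroupOf.1 ((mem_normalizer_iff.1 hn' ⟨x, hxM⟩).2 (mem_subgroupOf.2 hx))
            rcases hform _ hnn with r | r | r
            · exact r
            · exfalso
              apply hhM
              have := mul_mem n.2 (inv_mem (hV' r))
              rwa [mul_inv_rev, inv_inv, mul_inv_cancel_left] at this
            · exfalso
              apply hhM
              have := mul_mem (hV' r) (inv_mem n.2)
              rwa [mul_inv_cancel_right] at this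
          exact mem_centralizer_iff.2 fun v hv' => Subtype.ext (hcomm _ (mem_subgroupOf.1 hv') _ hnV)
        have hD := MonoidHom.ker_transferSylow_isComplement' T hPC
        obtain ⟨D0, hDn, hD⟩ : ∃ D0 : Subgroup M, D0.Normal ∧ IsComplement' D0 (T : Subgroup M) :=
          ⟨_, MonoidHom.normal_ker _, hD⟩
        have hDcard : Nat.card D0 = V'.index := hD.index_eq_card.symm
        have hDbot : D0.map M.subtype = ⊥ := by
          refine hodd0 _ ?_ fun v hv' x hx => ?_
          · rw [card_map_of_injective M.subtype_injective, hDcard]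
            exact Nat.odd_iff.2 (by omega)
          · obtain ⟨y, hy, rfl⟩ := mem_map.1 hx
            exact mem_map.2 ⟨⟨v, hV' hv'⟩ * y * ⟨v, hV' hv'⟩⁻¹, hDn.conj_mem y hy _, rfl⟩
        rw [Subgroup.map_eq_bot_iff_of_injective _ M.subtype_injective] at hDbot
        rw [hDbot, card_bot, eq_comm, Subgroup.index_eq_one, subgroupOf_eq_top] at hDcard
        exact hn ((le_antisymm hV' hDcard) ▸ hM)
    haveI : Nontrivial K := ⟨⟨z, 1, hz1⟩⟩
    haveI : IsSimpleGroup K := ⟨fun M hM => (em (M = ⊥)).imp id (hVM M hM)⟩
    have hcz : centralizer ({z} : Set K) = V := le_antisymm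
      (fun x hx => hcent z hzV hz1 x (mem_centralizer_singleton_iff.1 hx))
      (fun x hx => mem_centralizer_singleton_iff.2 (hcomm x hx z hzV).eq)
    refine Cfsg.Lib.KleinCent.simple_case z (Cfsg.Lib.InvolCalc.order_two_of_mul_self hzz hz1) V hcz.ge ?_ ?_ ?_
    · haveI : Nontrivial V := Finite.one_lt_card_iff_nontrivial.1 (by omega)
      refine ⟨h4, ((Nat.dvd_prime Nat.prime_two).1 (Monoid.exponent_dvd_of_forall_pow_eq_one (G := V) (n := 2) fun v =>
        Subtype.ext (by rw [SubmonoidClass.coe_pow, pow_two]; exact hsq v v.2))).resolve_left fun e => ?_⟩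
      exact not_subsingleton V (Monoid.exp_eq_one_iff.1 e)
    · rw [hcz, relIndex_self]; omega
    · rw [hcz, subgroupOf_self]; infer_instance

end Cfsg.Lib.HallJankoType
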