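import Cfsg.Agent.LocalThree.HallJankoType.Mover
import Cfsg.Agent.LocalThree.HallJankoType.KleinSelfCentral
import Mathlib.GroupTheory.Transfer

/-!
The centralizer of an outer involution: a four-group times a group with self-centralizing four-group.
-/

set_option autoImplicit false
set_option linter.unusedSectionVars false
set_option linter.style.haveILetI false

namespace Cfsg.Lib.HallJankoType

open Subgroup Equiv

variable {G : Type*} [Group G] [Finite G] {z : G} {Q : Subgroup G} {a : Fin 5 → G} {σ : Cz z →* Perm (Fin 5)}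

/-- an element of order three in `C(t)` permuting `z`, `w`, `zw` cyclically -/
structure Tri (z : G) (Q : Subgroup G) (t w h : G) : Prop where
  props : EProps z Q t w
  comm : Commute h t
  hz : h * z * h⁻¹ = w
  hw : h * w * h⁻¹ = z * w
  hzw : h * (z * w) * h⁻¹ = z
  maps : MapsTo' h (Ey z t)
  three : h ^ 3 = 1

/-- `C(t)` is the product of `W` and a normal subgroup `K` -/
structure TData (z : G) (Q : Subgroup G) (t w h : G) (K W : Subgroup G) : Prop where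
  tri : Tri z Q t w h
  le : K ≤ Cz t
  Wle : W ≤ Ey z t
  tW : t ∈ W
  Wfix : ∀ x ∈ W, Commute h x
  norm : ∀ g ∈ Cz t, ∀ x ∈ K, g * x * g⁻¹ ∈ K
  KE : ∀ x ∈ Ey z t, x ∈ K ↔ x ∈ Vset z w
  disj : ∀ x ∈ K, x ∈ W → x = 1
  hK : h ∈ K
  decomp : ∀ g ∈ Cz t, ∃ k ∈ K, ∃ u ∈ W, g = k * u
  card : Nat.card (Cz t) = 4 * Nat.card K
  four : ∃ m, Odd m ∧ Nat.card K = 4 * m
  invol : ∀ x ∈ Cz t, x * x = 1 → ∃ g ∈ Cz t, g * x * g⁻¹ ∈ Ey z t
  cent : ∀ x ∈ Cz t, ∀ v, (v = z ∨ v = w ∨ v = z * w) → Commute x v → x ∈ Ey z t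

namespace Hyp

variable (H : Hyp z Q a σ)
include H

theorem exists_tri {t : G} (ht : Outer z Q t) : ∃ w h, Tri z Q t w h := by
  classical
  have D := H.data
  obtain ⟨t₀, w₀, h₀, ht₀, M⟩ := H.exists_mover_std
  obtain ⟨k, hk⟩ := M.three
  have hzz := D.zz
  -- `h₀` has order three
  have hh3 : h₀ ^ 3 = 1 := by
    have hinj := fun {u v : G} (e : h₀ * u * h₀⁻¹ = h₀ * v * h₀⁻¹) => (MulAut.conj h₀).injective e
    have hod : Odd (orderOf h₀) := by
      obtain ⟨j, -, hj⟩ := (Nat.dvd_prime_pow Nat.prime_three).1 (orderOf_dvd_of_pow_eq_one hk)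
      rw [hj]; exact Odd.pow (by decide)
    have hfix2 : ∀ u, h₀ * (h₀ * u * h₀⁻¹) * h₀⁻¹ = u → h₀ * u * h₀⁻¹ = u := by
      intro u e
      have hc : Commute (h₀ ^ 2 ^ 1) u := by
        refine mul_inv_eq_iff_eq_mul.1 ?_
        rw [pow_one, show h₀ ^ 2 * u * (h₀ ^ 2)⁻¹ = h₀ * (h₀ * u * h₀⁻¹) * h₀⁻¹ by simp [pow_two, mul_assoc]]
        exact e
      exact mul_inv_eq_iff_eq_mul.2 (Cfsg.Lib.LargeExtra.commute_of_pow (n := 1) hod hc).eq
    have hcube : h₀ * (h₀ * (h₀ * z * h₀⁻¹) * h₀⁻¹) * h₀⁻¹ = z := by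
      have m1 := M.stab z (Or.inl rfl)
      have m2 := M.stab _ m1
      have m3 := M.stab _ m2
      have hmv := M.move
      generalize e1 : h₀ * z * h₀⁻¹ = u at *
      generalize e2 : h₀ * u * h₀⁻¹ = v at *
      have huv : v ≠ u := fun e => hmv (hinj (e2.trans (e.trans e1.symm)))
      have hvz : v ≠ z := fun e => hmv (e1.symm.trans (hfix2 z (by rw [e1, e2, e])))
      generalize e3 : h₀ * v * h₀⁻¹ = x at *
      have hxv : x ≠ v := fun e => huv (hinj (e3.trans (e.trans e2.symm)))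
      have hxu : x ≠ u := fun e => hvz (hinj (e3.trans (e.trans e1.symm)))
      rcases m1 with r | r | r <;> rcases m2 with s | s | s <;> rcases m3 with q | q | q <;>
        subst r <;> subst s <;> subst q <;> first | rfl | (exfalso; first | exact hmv rfl | exact huv rfl | exact hvz rfl | exact hxv rfl | exact hxu rfl)
    have hE : h₀ ^ 3 ∈ Ey z t₀ := mem_Ey.2 ⟨mem_Cz.2 (mul_inv_eq_iff_eq_mul.1 (by
      rw [show h₀ ^ 3 * z * (h₀ ^ 3)⁻¹ = h₀ * (h₀ * (h₀ * z * h₀⁻¹) * h₀⁻¹) * h₀⁻¹ by simp [pow_succ, mul_assoc]]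
      exact hcube)), M.comm.pow_left 3⟩
    have h2 : orderOf (h₀ ^ 3) ∣ 2 := orderOf_dvd_of_pow_eq_one (by rw [pow_two, M.props.sq _ hE])
    have h3 : orderOf (h₀ ^ 3) ∣ 3 ^ k := orderOf_dvd_of_pow_eq_one (by rw [← pow_mul, mul_comm, pow_mul, hk, one_pow])
    exact orderOf_eq_one_iff.1 (Nat.eq_one_of_dvd_coprimes (Nat.Coprime.pow_right k (by norm_num)) h2 h3)
  obtain ⟨c, hc, hct⟩ := D.outer_conj ht ht₀
  have hcz : c * z * c⁻¹ = z := mul_inv_eq_iff_eq_mul.2 (D.commC hc).eq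
  have hcz' : c⁻¹ * z * c = z := by simpa [mul_assoc] using (congrArg (fun x => c⁻¹ * x * c) hcz).symm
  have P : EProps z Q t (c⁻¹ * w₀ * c) := D.EProps_conj hc (by rw [hct]; exact M.props)
  set w' := c⁻¹ * w₀ * c with hw'
  set h := c⁻¹ * h₀ * c with hh
  have hconj : ∀ v, h * v * h⁻¹ = c⁻¹ * (h₀ * (c * v * c⁻¹) * h₀⁻¹) * c := fun v => by rw [hh]; group
  have h30 : h ^ 3 = 1 := by
    rw [hh, show c⁻¹ * h₀ * c = MulAut.conj c⁻¹ h₀ by simp, ← map_pow, hh3, map_one]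
  have hst : Stab3 z w' h := by
    rintro v hv
    have hv' : c * v * c⁻¹ = z ∨ c * v * c⁻¹ = w₀ ∨ c * v * c⁻¹ = z * w₀ := by
      rcases hv with rfl | rfl | rfl
      · exact Or.inl hcz
      · exact Or.inr (Or.inl (by rw [hw']; group))
      · refine Or.inr (Or.inr ?_)
        rw [show c * (z * w') * c⁻¹ = (c * z * c⁻¹) * (c * w' * c⁻¹) by group, hcz, hw']; group
    rw [hconj]
    rcases M.stab _ hv' with e | e | e <;> rw [e]
    · exact Or.inl hcz'
    · exact Or.inr (Or.inl rfl)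
    · refine Or.inr (Or.inr ?_)
      rw [hw', show c⁻¹ * (z * w₀) * c = (c⁻¹ * z * c) * (c⁻¹ * w₀ * c) by group, hcz']
  have hmv : h * z * h⁻¹ ≠ z := fun e => M.move (by
    rw [hconj, hcz] at e
    calc h₀ * z * h₀⁻¹ = c * (c⁻¹ * (h₀ * z * h₀⁻¹) * c) * c⁻¹ := by group
      _ = z := by rw [e, hcz])
  have hmaps : MapsTo' h (Ey z t) := fun x hx => by
    rw [hconj]
    have h1 : c * x * c⁻¹ ∈ Ey z t₀ := mem_Ey.2 ⟨mul_mem (mul_mem hc (mem_Ey.1 hx).1) (inv_mem hc),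
      hct ▸ (Commute.conj_iff c).2 (mem_Ey.1 hx).2⟩
    have h2 := mem_Ey.1 (M.maps _ h1)
    refine mem_Ey.2 ⟨mul_mem (mul_mem (inv_mem hc) h2.1) hc, ?_⟩
    have h4 := (Commute.conj_iff c⁻¹).2 h2.2
    rw [← hct] at h4
    simpa [mul_assoc] using h4
  have hcomm : Commute h t := by
    have h4 := (Commute.conj_iff c⁻¹).2 M.comm
    rw [← hct] at h4
    simpa [hh, mul_assoc] using h4
  -- name the image of `z`
  set w := h * z * h⁻¹ with hw
  have hwc : w = w' ∨ w = z * w' := (hst z (Or.inl rfl)).resolve_left hmv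
  have hV : ∀ u, u ∈ Vset z w ↔ u ∈ Vset z w' := by
    intro u
    rcases hwc with e | e <;> rw [e]
    simp only [Vset, Set.mem_insert_iff, Set.mem_singleton_iff, ← mul_assoc, hzz, one_mul]
    tauto
  have hwV : w ∈ Ey z t ∧ w ∈ Q := (P.inQ w).2 ((hV w).1 (by simp [Vset]))
  have P' : EProps z Q t w := ⟨hwV.2, P.sq w hwV.1, fun e => D.frame.x2.ne (conj_eq_one_iff.1 e), hmv, P.card, P.sq,
    P.comm, fun x => (P.inQ x).trans (hV x).symm⟩
  have hw1 : h * w * h⁻¹ = z * w := by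
    have hmem : ∀ u, (u = z ∨ u = w' ∨ u = z * w') → (u = z ∨ u = w ∨ u = z * w) := by
      intro u hu
      rcases hwc with e | e <;> rw [e]
      · exact hu
      · rw [← mul_assoc z z, hzz, one_mul]; tauto
    rcases hmem _ (hst w (Or.inr hwc)) with e | e | e
    · exfalso
      have e2 : h ^ 2 * z * (h ^ 2)⁻¹ = z := by
        rw [show h ^ 2 * z * (h ^ 2)⁻¹ = h * (h * z * h⁻¹) * h⁻¹ by rw [pow_two]; group]; exact e
      apply hmv
      have h3z : h ^ 3 * z * (h ^ 3)⁻¹ = z := by rw [h30]; group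
      rw [show h ^ 3 * z * (h ^ 3)⁻¹ = h * (h ^ 2 * z * (h ^ 2)⁻¹) * h⁻¹ by rw [pow_succ']; group, e2] at h3z
      exact h3z
    · exact absurd ((MulAut.conj h).injective (show h * w * h⁻¹ = h * z * h⁻¹ from e)) hmv
    · exact e
  have hw2 : h * (z * w) * h⁻¹ = z := by
    rw [show h * (z * w) * h⁻¹ = (h * z * h⁻¹) * (h * w * h⁻¹) by group, hw1, ← hw, ← mul_assoc,
      show w * z = z * w from (D.commQ hwV.2).eq.symm, mul_assoc, P'.ww, mul_one]
  exact ⟨w, h, P', hcomm, rfl, hw1, hw2, hmaps, h30⟩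

theorem exists_tdata {t : G} (ht : Outer z Q t) : ∃ w h K W, TData z Q t w h K W := by
  classical
  have D := H.data
  obtain ⟨w, h, T⟩ := H.exists_tri ht
  haveI : Fact (Nat.Prime 2) := ⟨Nat.prime_two⟩
  have P := T.props
  set E := Ey z t with hE
  have hEX : E ≤ Cz t := inf_le_right
  have hzz := D.zz
  have hV3 : ∀ v, (v = z ∨ v = w ∨ v = z * w) → v ∈ E ∧ v ∈ Q := fun v hv =>
    (P.inQ v).2 (by rcases hv with rfl | rfl | rfl <;> simp [Vset])
  have h2inv : h⁻¹ = h ^ 2 := inv_eq_of_mul_eq_one_right (by rw [← pow_succ', T.three])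
  have hmaps2 : MapsTo' (h ^ 2) E := fun x hx => by
    have := T.maps _ (T.maps x hx)
    rwa [show h * (h * x * h⁻¹) * h⁻¹ = h ^ 2 * x * (h ^ 2)⁻¹ by simp [pow_two, mul_assoc]] at this
  have hmapsi : MapsTo' h⁻¹ E := h2inv ▸ hmaps2
  have hcent : ∀ x ∈ Cz t, ∀ v, (v = z ∨ v = w ∨ v = z * w) → Commute x v → x ∈ E := by
    have hz0 : ∀ x ∈ Cz t, Commute x z → x ∈ E := fun x hx hc => mem_Ey.2 ⟨mem_Cz.2 hc, mem_Cz.1 hx⟩
    have hw0 : ∀ x ∈ Cz t, Commute x w → x ∈ E := fun x hx hc => by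
      have h1 : h⁻¹ * x * h ∈ E := by
        refine hz0 _ (mul_mem (mul_mem (inv_mem (mem_Cz.2 T.comm)) hx) (mem_Cz.2 T.comm)) ?_
        refine (Commute.conj_iff h).1 ?_
        rw [T.hz, show h * (h⁻¹ * x * h) * h⁻¹ = x by group]
        exact hc
      have := T.maps _ h1
      rwa [show h * (h⁻¹ * x * h) * h⁻¹ = x by group] at this
    intro x hx v hv hc
    rcases hv with rfl | rfl | rfl
    · exact hz0 x hx hc
    · exact hw0 x hx hc
    · have h1 : h * x * h⁻¹ ∈ E := by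
        refine hz0 _ (mul_mem (mul_mem (mem_Cz.2 T.comm) hx) (inv_mem (mem_Cz.2 T.comm))) ?_
        have := (Commute.conj_iff h).2 hc
        rwa [T.hzw] at this
      have := hmapsi _ h1
      simpa [mul_assoc] using this
  have hnf : ∀ g ∈ Cz t, MapsTo' g E → g ∈ E ∨ h⁻¹ * g ∈ E ∨ h * g ∈ E := by
    intro g hg hgE
    have hzE := (hV3 z (Or.inl rfl)).1
    have hgz := hgE z hzE
    have hQ : g * z * g⁻¹ ∈ Q := H.mem_Q_of_conj (mem_Ey.1 hgz).1 (isConj_iff.2 ⟨g, rfl⟩)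
    rcases (P.inQ _).1 ⟨hgz, hQ⟩ with e | e | e | e
    · exact absurd (conj_eq_one_iff.1 e) D.frame.x2.ne
    · exact Or.inl (hcent g hg z (Or.inl rfl) (mul_inv_eq_iff_eq_mul.1 e))
    · refine Or.inr (Or.inl (hcent _ (mul_mem (inv_mem (mem_Cz.2 T.comm)) hg) z (Or.inl rfl) (mul_inv_eq_iff_eq_mul.1 ?_)))
      calc h⁻¹ * g * z * (h⁻¹ * g)⁻¹ = h⁻¹ * (g * z * g⁻¹) * h := by group
        _ = z := by rw [e, ← T.hz]; group
    · refine Or.inr (Or.inr (hcent _ (mul_mem (mem_Cz.2 T.comm) hg) z (Or.inl rfl) (mul_inv_eq_iff_eq_mul.1 ?_)))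
      calc h * g * z * (h * g)⁻¹ = h * (g * z * g⁻¹) * h⁻¹ := by group
        _ = z := by rw [e, T.hzw]
  -- `E` is a Sylow 2-subgroup of `C(t)`
  set E' := E.subgroupOf (Cz t) with hE'
  have hEP : IsPGroup 2 E' := IsPGroup.of_card (n := 4) (by
    rw [hE', Nat.card_congr (subgroupOfEquivOfLe hEX).toEquiv, P.card]; norm_num)
  obtain ⟨S, hS⟩ := hEP.exists_le_sylow
  have hSE : E' = S := by
    by_contra hne
    have hlt : E'.subgroupOf (S : Subgroup (Cz t)) < ⊤ := lt_top_iff_ne_top.2 fun e =>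
      hne (le_antisymm hS (subgroupOf_eq_top.1 e))
    haveI : Group.IsNilpotent (S : Subgroup (Cz t)) := S.isPGroup'.isNilpotent
    obtain ⟨r, hr, hrE⟩ := SetLike.exists_of_lt (Group.normalizerCondition_of_isNilpotent (G := (S : Subgroup (Cz t))) _ hlt)
    have hrmaps : MapsTo' ((r : Cz t) : G) E := fun x hx => by
      have := (mem_normalizer_iff.1 hr ⟨⟨x, hEX hx⟩, hS (mem_subgroupOf.2 hx)⟩).1
        (mem_subgroupOf.2 (mem_subgroupOf.2 hx))
      exact mem_subgroupOf.1 (mem_subgroupOf.1 this)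
    have hr3 : ((r : Cz t) : G) ^ 3 ∈ E := by
      rcases hnf _ (r : Cz t).2 hrmaps with e | e | e
      · exact pow_mem e 3
      · rw [show ((r : Cz t) : G) ^ 3 = h * (h⁻¹ * r) * h⁻¹ * (h ^ 2 * (h⁻¹ * r) * (h ^ 2)⁻¹) * h ^ 3 * (h⁻¹ * r) by
          simp [pow_succ, mul_assoc], T.three, mul_one]
        exact mul_mem (mul_mem (T.maps _ e) (hmaps2 _ e)) e
      · rw [show ((r : Cz t) : G) ^ 3 = h⁻¹ * (h * r) * h * ((h ^ 2)⁻¹ * (h * r) * h ^ 2) * (h ^ 3)⁻¹ * (h * r) by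
          simp [pow_succ, mul_assoc], T.three, inv_one, mul_one]
        exact mul_mem (mul_mem (by simpa using hmapsi _ e) (by simpa [pow_two, mul_assoc] using hmapsi _ (hmapsi _ e))) e
    obtain ⟨n, hn⟩ := IsPGroup.iff_orderOf.1 S.isPGroup' r
    obtain ⟨m, hm⟩ := exists_pow_eq_self_of_coprime (x := r) (n := 3) (by
      rw [hn]; exact Nat.Coprime.pow_right n (by norm_num))
    apply hrE
    rw [← hm]
    exact pow_mem (mem_subgroupOf.2 (mem_subgroupOf.2 (by simpa using hr3))) m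
  -- the quotient of `E` by the four-group
  set V0 := Q.subgroupOf E with hV0
  haveI hV0n : V0.Normal := ⟨fun v hv g => by
    have hc : g * v = v * g := Subtype.ext (P.comm _ g.2 _ v.2).eq
    rwa [hc, mul_inv_cancel_right]⟩
  letI : CommGroup (E ⧸ V0) :=
    { (inferInstance : Group (E ⧸ V0)) with
      mul_comm := fun x y => by
        induction x using QuotientGroup.induction_on with
        | _ x => induction y using QuotientGroup.induction_on with
          | _ y => exact congrArg (QuotientGroup.mk (s := V0)) (Subtype.ext (P.comm _ x.2 _ y.2).eq : x * y = y * x) }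
  let c : E →* E ⧸ V0 := QuotientGroup.mk' V0
  have hc1 : ∀ e : E, c e = 1 ↔ (e : G) ∈ Vset z w := fun e => by
    rw [QuotientGroup.mk'_apply, QuotientGroup.eq_one_iff, hV0, mem_subgroupOf, ← P.inQ]
    exact ⟨fun h => ⟨e.2, h⟩, fun h => h.2⟩
  have hA4 : Nat.card (E ⧸ V0) = 4 := by
    have h1 := card_eq_card_quotient_mul_card_subgroup V0
    have h2 : Nat.card V0 = 4 := by
      let F : Finset G := {1, z, w, z * w}
      have hF : F.card = 4 := by
        rw [Finset.card_insert_of_notMem (by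
            simp only [Finset.mem_insert, Finset.mem_singleton, not_or]
            exact ⟨D.frame.x2.ne.symm, P.w1.symm, fun e => P.wz (by
              rw [eq_inv_of_mul_eq_one_right e.symm, D.frame.x2.inv_z])⟩),
          Finset.card_insert_of_notMem (by
            simp only [Finset.mem_insert, Finset.mem_singleton, not_or]
            exact ⟨P.wz.symm, fun e => P.w1 (mul_eq_left.mp e.symm)⟩),
          Finset.card_pair (fun e => D.frame.x2.ne (mul_eq_right.mp e.symm))]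
      rw [← hF, ← Fintype.card_coe, ← Nat.card_eq_fintype_card]
      exact Nat.card_congr
        { toFun := fun x => ⟨x.1.1, by simpa [F, Vset] using (P.inQ x.1.1).1 ⟨x.1.2, mem_subgroupOf.1 x.2⟩⟩
          invFun := fun v => ⟨⟨v.1, ((P.inQ v.1).2 (by
              have hv := v.2
              simp only [F, Finset.mem_insert, Finset.mem_singleton] at hv
              simpa [Vset] using hv)).1⟩, mem_subgroupOf.2 ((P.inQ v.1).2 (by
              have hv := v.2
              simp only [F, Finset.mem_insert, Finset.mem_singleton] at hv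
              simpa [Vset] using hv)).2⟩
          left_inv := fun x => rfl
          right_inv := fun v => rfl }
    rw [P.card, h2] at h1
    omega
  have hA2 : ∀ x : E ⧸ V0, x * x = 1 := fun x => by
    induction x using QuotientGroup.induction_on with
    | _ x => exact congrArg (QuotientGroup.mk (s := V0)) (Subtype.ext (P.sq _ x.2) : x * x = 1)
  let ψ : E →* E :=
    { toFun := fun e => ⟨h * e * h⁻¹, T.maps _ e.2⟩
      map_one' := Subtype.ext (by simp)
      map_mul' := fun x y => Subtype.ext (by simp [mul_assoc]) }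
  have hψ3 : ∀ e, ψ (ψ (ψ e)) = e := fun e => Subtype.ext (by
    show h * (h * (h * e * h⁻¹) * h⁻¹) * h⁻¹ = e
    rw [show h * (h * (h * e * h⁻¹) * h⁻¹) * h⁻¹ = h ^ 3 * e * (h ^ 3)⁻¹ by simp [pow_succ, mul_assoc], T.three]
    group)
  have hψV : ∀ e, c e = 1 → c (ψ e) = 1 := fun e he => by
    rw [hc1] at he ⊢
    show h * (e : G) * h⁻¹ ∈ Vset z w
    rcases he with r | r | r | r <;> rw [r]
    · simp [Vset]
    · simp [Vset, T.hz]
    · simp [Vset, T.hw]
    · simp [Vset, T.hzw]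
  have hψcong : ∀ e e', c e = c e' → c (ψ e) = c (ψ e') := fun e e' he => by
    rw [← mul_inv_eq_one, ← map_inv, ← map_mul, ← map_inv, ← map_mul]
    exact hψV _ (by rw [map_mul, map_inv, he, mul_inv_cancel])
  set te : E := ⟨t, mem_Ey.2 ⟨ht.1, Commute.refl t⟩⟩ with hte
  have hψt : ψ te = te := Subtype.ext (mul_inv_eq_iff_eq_mul.2 T.comm.eq)
  have hT1 : c te ≠ 1 := fun e => ht.2.2 ((P.inQ t).2 ((hc1 te).1 e)).2
  have hψne : ∀ e u, ψ u = u → c e ≠ c u → c (ψ e) ≠ c u := fun e u hu hne he => hne (by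
    have h1 := hψcong _ _ (hψcong _ _ he)
    rwa [hψ3, hu, hu] at h1)
  have htriv : ∀ e, c (ψ e) = c e := by
    intro e
    by_cases h1 : c e = 1
    · rw [h1, hψV e h1]
    by_cases h2 : c e = c te
    · rw [hψcong _ _ h2, hψt, h2]
    by_contra hne
    have n1 : c (ψ e) ≠ 1 := fun q => hψne e 1 (map_one ψ) (by rwa [map_one]) (by rwa [map_one])
    have n2 : c (ψ e) ≠ c te := hψne e te hψt h2
    have m1 : c (ψ (ψ e)) ≠ 1 := fun q => hψne (ψ e) 1 (map_one ψ) (by rwa [map_one]) (by rwa [map_one])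
    have m2 : c (ψ (ψ e)) ≠ c te := hψne (ψ e) te hψt n2
    letI := Fintype.ofFinite (E ⧸ V0)
    have huniv : ({1, c te, c e, c (ψ e)} : Finset (E ⧸ V0)) = Finset.univ := by
      refine Finset.eq_univ_of_card _ ?_
      rw [← Nat.card_eq_fintype_card, hA4, Finset.card_insert_of_notMem (by
          simp only [Finset.mem_insert, Finset.mem_singleton, not_or]
          exact ⟨Ne.symm hT1, Ne.symm h1, Ne.symm n1⟩),
        Finset.card_insert_of_notMem (by
          simp only [Finset.mem_insert, Finset.mem_singleton, not_or]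
          exact ⟨Ne.symm h2, Ne.symm n2⟩), Finset.card_pair (Ne.symm hne)]
    have hy : c (ψ (ψ e)) ∈ ({1, c te, c e, c (ψ e)} : Finset (E ⧸ V0)) := huniv ▸ Finset.mem_univ _
    simp only [Finset.mem_insert, Finset.mem_singleton] at hy
    rcases hy with q | q | q | q
    · exact m1 q
    · exact m2 q
    · have h5 := hψcong _ _ q
      rw [hψ3] at h5
      exact hne h5.symm
    · have h5 := hψcong _ _ (hψcong _ _ q)
      rw [hψ3, hψ3] at h5
      exact hne h5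
  -- the fixed points of `h`
  set W : Subgroup G := E ⊓ centralizer ({h} : Set G) with hW
  have hWmem : ∀ x, x ∈ W ↔ x ∈ E ∧ Commute h x := fun x => by
    rw [hW, mem_inf, mem_centralizer_singleton_iff]
    exact and_congr_right fun _ => eq_comm
  have hproj : ∀ e : E, ∃ u : E, (u : G) ∈ W ∧ c u = c e := fun e => by
    refine ⟨e * ψ e * ψ (ψ e), (hWmem _).2 ⟨SetLike.coe_mem _, ?_⟩, ?_⟩
    · refine mul_inv_eq_iff_eq_mul.1 ?_
      show ((ψ (e * ψ e * ψ (ψ e)) : E) : G) = ((e * ψ e * ψ (ψ e) : E) : G)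
      rw [map_mul, map_mul, hψ3]
      refine congrArg Subtype.val (?_ : ψ e * ψ (ψ e) * e = e * ψ e * ψ (ψ e))
      exact Subtype.ext (by
        simp only [Subgroup.coe_mul]
        rw [← (P.comm _ e.2 _ (mul_mem (ψ e).2 (ψ (ψ e)).2)).eq, mul_assoc])
    · rw [map_mul, map_mul, htriv, htriv, htriv, hA2, one_mul]
  -- the transfer
  haveI hSc : IsMulCommutative (S : Subgroup (Cz t)) := ⟨⟨fun x y => Subtype.ext (Subtype.ext
    (P.comm _ (mem_subgroupOf.1 (hSE.ge x.2)) _ (mem_subgroupOf.1 (hSE.ge y.2))).eq)⟩⟩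
  let ϕ : E' →* E ⧸ V0 := c.comp (subgroupOfEquivOfLe hEX).toMonoidHom
  let f : Cz t →* E ⧸ V0 := MonoidHom.transfer ϕ
  have hidx : Odd E'.index := by
    rw [hSE]
    exact Nat.odd_iff.2 (Nat.two_dvd_ne_zero.1 S.not_dvd_index)
  have hfW : ∀ u : E, (u : G) ∈ W → f ⟨u, hEX u.2⟩ = c u := by
    intro u hu
    have key : ∀ (k : ℕ) (g₀ : Cz t), g₀⁻¹ * (⟨u, hEX u.2⟩ : Cz t) ^ k * g₀ ∈ E' →
        g₀⁻¹ * (⟨u, hEX u.2⟩ : Cz t) ^ k * g₀ = (⟨u, hEX u.2⟩ : Cz t) ^ k := by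
      intro k g₀ hm
      have hu' : (⟨u, hEX u.2⟩ : Cz t) ^ k ∈ (S : Subgroup (Cz t)) :=
        pow_mem (hSE.le (mem_subgroupOf.2 u.2)) k
      obtain ⟨n, hn, he⟩ := S.conj_eq_normalizer_conj_of_mem _ g₀ hu' (hSE.le hm)
      rw [he]
      have hnE : MapsTo' (n : G) E := fun x hx => by
        have := hSE.ge ((mem_normalizer_iff.1 hn ⟨x, hEX hx⟩).1 (hSE.le (mem_subgroupOf.2 hx)))
        exact mem_subgroupOf.1 this
      have hcu : Commute (n : G) ((u : G) ^ k) := by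
        have hk : (u : G) ^ k ∈ W := pow_mem hu k
        obtain ⟨hkE, hkh⟩ := (hWmem _).1 hk
        rcases hnf _ n.2 hnE with e | e | e
        · exact P.comm _ e _ hkE
        · have := hkh.mul_left (P.comm _ e _ hkE)
          rwa [mul_inv_cancel_left] at this
        · have := hkh.inv_left.mul_left (P.comm _ e _ hkE)
          rwa [inv_mul_cancel_left] at this
      refine Subtype.ext ?_
      simp only [Subgroup.coe_mul, InvMemClass.coe_inv, SubmonoidClass.coe_pow]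
      rw [mul_assoc, ← hcu.eq, inv_mul_cancel_left]
    show MonoidHom.transfer ϕ _ = _
    rw [MonoidHom.transfer_eq_pow ϕ _ key]
    show c ⟨(u : G) ^ E'.index, _⟩ = c u
    congr 1
    refine Subtype.ext ?_
    obtain ⟨j, hj⟩ := hidx
    show (u : G) ^ E'.index = u
    rw [hj, pow_succ, pow_mul, pow_two, P.sq _ u.2, one_pow, one_mul]
  have hfz : ∀ v, (v = z ∨ v = w ∨ v = z * w) → ∀ hv : v ∈ Cz t, f ⟨v, hv⟩ = 1 := by
    have hzX : z ∈ Cz t := hEX (hV3 z (Or.inl rfl)).1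
    have hwX : w ∈ Cz t := hEX (hV3 w (Or.inr (Or.inl rfl))).1
    have hhX : h ∈ Cz t := mem_Cz.2 T.comm
    have e1 : f ⟨w, hwX⟩ = f ⟨z, hzX⟩ := by
      rw [show (⟨w, hwX⟩ : Cz t) = ⟨h, hhX⟩ * ⟨z, hzX⟩ * ⟨h, hhX⟩⁻¹ from Subtype.ext T.hz.symm, map_mul, map_mul,
        map_inv, mul_comm (f ⟨h, hhX⟩), mul_inv_cancel_right]
    have e2 : f (⟨z, hzX⟩ * ⟨w, hwX⟩) = f ⟨w, hwX⟩ := by
      rw [show (⟨z, hzX⟩ * ⟨w, hwX⟩ : Cz t) = ⟨h, hhX⟩ * ⟨w, hwX⟩ * ⟨h, hhX⟩⁻¹ from Subtype.ext T.hw.symm, map_mul,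
        map_mul (f := f) (⟨h, hhX⟩), map_inv, mul_comm (f ⟨h, hhX⟩), mul_inv_cancel_right]
    rw [map_mul, e1] at e2
    have ez : f ⟨z, hzX⟩ = 1 := mul_eq_left.mp e2
    rintro v (rfl | rfl | rfl) hv
    · exact ez
    · exact e1.trans ez
    · rw [show (⟨z * w, hv⟩ : Cz t) = ⟨z, hzX⟩ * ⟨w, hwX⟩ from rfl, map_mul, e1, ez, one_mul]
  have hfE : ∀ e : E, f ⟨e, hEX e.2⟩ = c e := by
    intro e
    obtain ⟨u, hu, huc⟩ := hproj e
    have hv : ((e * u⁻¹ : E) : G) ∈ Vset z w := (hc1 _).1 (by rw [map_mul, map_inv, huc, mul_inv_cancel])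
    have hf1 : f ⟨((e * u⁻¹ : E) : G), hEX (SetLike.coe_mem _)⟩ = 1 := by
      rcases hv with r | r
      · rw [show (⟨((e * u⁻¹ : E) : G), hEX (SetLike.coe_mem _)⟩ : Cz t) = 1 from Subtype.ext r, map_one]
      · exact hfz _ r _
    rw [show (⟨e, hEX e.2⟩ : Cz t) = ⟨((e * u⁻¹ : E) : G), hEX (SetLike.coe_mem _)⟩ * ⟨u, hEX u.2⟩ from
      Subtype.ext (by simp), map_mul, hf1, one_mul, hfW u hu, huc]
  set K : Subgroup G := f.ker.map (Cz t).subtype with hK
  have hKm : ∀ x : Cz t, (x : G) ∈ K ↔ f x = 1 := fun x => by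
    rw [hK, ← MonoidHom.mem_ker]
    exact mem_map_iff_mem (Cz t).subtype_injective
  have hKX : K ≤ Cz t := map_subtype_le _
  have hcard : Nat.card (Cz t) = 4 * Nat.card K := by
    have hsurj : Function.Surjective f := fun x => by
      induction x using QuotientGroup.induction_on with
      | _ e => exact ⟨⟨e, hEX e.2⟩, hfE e⟩
    rw [card_eq_card_quotient_mul_card_subgroup f.ker, Nat.card_congr
      (QuotientGroup.quotientKerEquivOfSurjective f hsurj).toEquiv, hA4, hK, card_map_of_injective (Cz t).subtype_injective]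
  refine ⟨w, h, K, W, ⟨T, hKX, inf_le_left, (hWmem t).2 ⟨mem_Ey.2 ⟨ht.1, Commute.refl t⟩, T.comm⟩,
    fun x hx => ((hWmem x).1 hx).2, ?_, ?_, ?_, ?_, ?_, hcard, ?_, ?_, hcent⟩⟩
  · intro g hg x hx
    refine (hKm (⟨g, hg⟩ * ⟨x, hKX hx⟩ * ⟨g, hg⟩⁻¹)).2 ?_
    rw [map_mul, map_mul, map_inv, (hKm ⟨x, hKX hx⟩).1 hx, mul_one, mul_inv_cancel]
  · intro x hx
    exact (hKm ⟨x, hEX hx⟩).trans ((iff_of_eq (by rw [hfE ⟨x, hx⟩])).trans (hc1 ⟨x, hx⟩))
  · intro x hxK hxW
    obtain ⟨hxE, hxh⟩ := (hWmem x).1 hxW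
    have h1 : f ⟨x, hEX hxE⟩ = 1 := (hKm ⟨x, hEX hxE⟩).1 hxK
    rw [hfE ⟨x, hxE⟩, hc1] at h1
    have hfix : h * x * h⁻¹ = x := mul_inv_eq_iff_eq_mul.2 hxh.eq
    rcases h1 with r | r | r | r
    · exact r
    all_goals exfalso; change x = _ at r; subst r
    · exact P.wz (T.hz.symm.trans hfix)
    · exact D.frame.x2.ne (mul_eq_right.mp (T.hw.symm.trans hfix))
    · exact P.w1 (mul_eq_left.mp (T.hzw.symm.trans hfix).symm)
  · refine (hKm ⟨h, mem_Cz.2 T.comm⟩).2 ?_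
    have h3 : f ⟨h, mem_Cz.2 T.comm⟩ ^ 3 = 1 := by
      rw [← map_pow, show (⟨h, mem_Cz.2 T.comm⟩ : Cz t) ^ 3 = 1 from Subtype.ext T.three, map_one]
    rwa [pow_succ, pow_two, hA2, one_mul] at h3
  · intro g hg
    obtain ⟨e, he⟩ := QuotientGroup.mk'_surjective V0 (f ⟨g, hg⟩)
    obtain ⟨u, hu, huc⟩ := hproj e
    refine ⟨g * (u : G)⁻¹, (hKm (⟨g, hg⟩ * ⟨u, hEX u.2⟩⁻¹)).2 ?_, u, hu, by group⟩
    rw [map_mul, map_inv, hfE u, huc, ← he, mul_inv_cancel]
  · refine ⟨E'.index, hidx, ?_⟩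
    have h1 := E'.card_mul_index
    rw [hE', Nat.card_congr (subgroupOfEquivOfLe hEX).toEquiv, P.card, ← hE', hcard] at h1
    omega
  · intro x hx hxx
    obtain ⟨g, hg⟩ := Cfsg.Lib.InvolCalc.exists_conj_le S (H := zpowers (⟨x, hx⟩ : Cz t)) (by
      obtain ⟨i, -, hi⟩ := (Nat.dvd_prime_pow Nat.prime_two).1 (show orderOf (⟨x, hx⟩ : Cz t) ∣ 2 ^ 1 from
        orderOf_dvd_of_pow_eq_one (Subtype.ext (by rw [SubmonoidClass.coe_pow, pow_one, pow_two]; exact hxx)))
      exact IsPGroup.of_card (n := i) (by rw [Nat.card_zpowers, hi]))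
    refine ⟨(g⁻¹ : Cz t), (g⁻¹ : Cz t).2, ?_⟩
    have := mem_subgroupOf.1 (hSE.ge (hg _ (mem_zpowers _)))
    simp only [Subgroup.coe_mul, InvMemClass.coe_inv] at this
    rw [show ((g⁻¹ : Cz t) : G) = (g : G)⁻¹ from rfl, inv_inv]
    exact this

end Hyp

end Cfsg.Lib.HallJankoType
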