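import Cfsg.Agent.LocalThree.HallJankoType.TLocal

/-!
Elements of order five commuting with `z`.
-/

set_option autoImplicit false
set_option linter.unusedSectionVars false
set_option linter.style.haveILetI false

namespace Cfsg.Lib.HallJankoType

open Subgroup Equiv

universe u

variable {G : Type u} [Group G] [Finite G] {z : G} {Q : Subgroup G} {a : Fin 5 → G} {σ : Cz z →* Perm (Fin 5)}

namespace Hyp

variable (H : Hyp z Q a σ)
include H

theorem five_z {f : G} (hf : f ∈ Cz z) (of : orderOf f = 5) :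
    (∀ v ∈ Cz f, orderOf v = 2 → IsConj z v) ∧ ¬ 4 ∣ Nat.card (Cz f) ∧
      (∀ n ∈ normalizer (zpowers f : Set G), n * f * n⁻¹ = f ∨ n * f * n⁻¹ = f⁻¹) ∧
      Nat.card (normalizer (zpowers f : Set G)) ∣ 2 * Nat.card (Cz f) ∧
      ∃ O : Subgroup G, O ≤ Cz f ∧ (∀ g ∈ Cz f, ∀ x ∈ O, g * x * g⁻¹ ∈ O) ∧ Nat.card (Cz f) = 2 * Nat.card O ∧
        Odd (Nat.card O) ∧ ∀ x ∈ Cz f, Odd (orderOf x) → x ∈ O := by
  classical
  haveI : Fact (Nat.Prime 2) := ⟨Nat.prime_two⟩
  have D := H.data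
  obtain ⟨hcent, hnorm, o10⟩ := H.cent_five hf of
  have hzf : Commute z f := (D.commC hf).symm
  set L : Subgroup G := Cz f with hL
  have hzL : z ∈ L := mem_Cz.2 hzf
  have hzP : IsPGroup 2 (zpowers (⟨z, hzL⟩ : L)) :=
    IsPGroup.of_card (n := 1) (by rw [Nat.card_zpowers, Subgroup.orderOf_mk, H.oz, pow_one])
  obtain ⟨S, hS⟩ := hzP.exists_le_sylow
  have hSz : zpowers (⟨z, hzL⟩ : L) = S := by
    by_contra hne
    have hlt : (zpowers (⟨z, hzL⟩ : L)).subgroupOf (S : Subgroup L) < ⊤ := lt_top_iff_ne_top.2 fun e =>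
      hne (le_antisymm hS (subgroupOf_eq_top.1 e))
    haveI : Group.IsNilpotent (S : Subgroup L) := S.isPGroup'.isNilpotent
    obtain ⟨r, hr, hrZ⟩ := SetLike.exists_of_lt (Group.normalizerCondition_of_isNilpotent (G := (S : Subgroup L)) _ hlt)
    have hzS : (⟨z, hzL⟩ : L) ∈ (S : Subgroup L) := hS (mem_zpowers _)
    have h1 := mem_subgroupOf.1 ((mem_normalizer_iff.1 hr ⟨_, hzS⟩).1 (mem_subgroupOf.2 (mem_zpowers _)))
    have hrz : Commute ((r : L) : G) z := by
      rw [Cfsg.Lib.LargeExtra.mem_zpowers_two (Subtype.ext D.zz)] at h1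
      refine mul_inv_eq_iff_eq_mul.1 ?_
      rcases h1 with e | e
      · exact absurd (conj_eq_one_iff.1 (congrArg (fun x : L => (x : G)) e :
          ((r : L) : G) * z * ((r : L) : G)⁻¹ = 1)) D.frame.x2.ne
      · exact congrArg (fun x : L => (x : G)) e
    obtain ⟨j, hj⟩ := mem_zpowers_iff.1 (hcent _ (mem_Cz.2 hrz) (mem_Cz.1 (r : L).2))
    obtain ⟨n, hn⟩ := IsPGroup.iff_orderOf.1 S.isPGroup' r
    have hrG : orderOf ((r : L) : G) = 2 ^ n := by rw [Subgroup.orderOf_coe, Subgroup.orderOf_coe, hn]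
    have h2 : ((r : L) : G) ^ 2 = 1 := by
      refine orderOf_dvd_iff_pow_eq_one.1 ?_
      refine (((by norm_num : Nat.Coprime 2 5).pow_left n).coprime_dvd_left (dvd_of_eq hrG)).dvd_of_dvd_mul_right
        (?_ : _ ∣ 2 * 5)
      rw [← hj, show 2 * 5 = orderOf (z * f) from o10.symm]
      exact orderOf_dvd_of_pow_eq_one (by rw [← zpow_natCast, ← zpow_mul, mul_comm, zpow_mul, zpow_natCast,
        pow_orderOf_eq_one, one_zpow])
    apply hrZ
    refine mem_subgroupOf.2 (mem_zpowers_iff.2 ⟨j, Subtype.ext ?_⟩)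
    show z ^ j = ((r : L) : G)
    rw [← hj, hzf.mul_zpow] at h2 ⊢
    rw [(hzf.zpow_zpow j j).mul_pow, show (z ^ j) ^ 2 = 1 by
      rw [← zpow_natCast, ← zpow_mul, mul_comm, zpow_mul, zpow_natCast, pow_two, D.zz, one_zpow], one_mul] at h2
    have a1 : orderOf (f ^ j) ∣ 2 := orderOf_dvd_of_pow_eq_one h2
    have a2 : orderOf (f ^ j) ∣ 5 := orderOf_dvd_of_pow_eq_one (by
      rw [← zpow_natCast, ← zpow_mul, mul_comm, zpow_mul, zpow_natCast, ← of, pow_orderOf_eq_one, one_zpow])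
    rw [orderOf_eq_one_iff.1 (Nat.eq_one_of_dvd_coprimes (by norm_num) a1 a2), mul_one]
  have hSc : Nat.card (S : Subgroup L) = 2 := by
    rw [← hSz, Nat.card_zpowers, Subgroup.orderOf_mk, H.oz]
  have hinv : ∀ v ∈ L, orderOf v = 2 → ∃ l ∈ L, l * v * l⁻¹ = z := by
    intro v hv ov
    obtain ⟨l, hl⟩ := Cfsg.Lib.InvolCalc.exists_conj_le S (H := zpowers (⟨v, hv⟩ : L))
      (IsPGroup.of_card (n := 1) (by rw [Nat.card_zpowers, Subgroup.orderOf_mk, ov, pow_one]))
    have hl' := hl _ (mem_zpowers _)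
    rw [← hSz, Cfsg.Lib.LargeExtra.mem_zpowers_two (Subtype.ext D.zz)] at hl'
    refine ⟨(l : G)⁻¹, inv_mem l.2, ?_⟩
    rw [inv_inv]
    rcases hl' with e | e
    · exfalso
      have e' : (l : G)⁻¹ * v * (l : G) = 1 := congrArg (fun x : L => (x : G)) e
      rw [show v = (l : G) * ((l : G)⁻¹ * v * l) * (l : G)⁻¹ by group, e'] at ov
      simp at ov
    · exact congrArg (fun x : L => (x : G)) e
  have hcases : ∀ n ∈ normalizer (zpowers f : Set G), n * f * n⁻¹ = f ∨ n * f * n⁻¹ = f⁻¹ := by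
    intro n hn
    have hnf : n * f * n⁻¹ ∈ zpowers f := (mem_normalizer_iff.1 hn f).1 (mem_zpowers f)
    have hnzL : n * z * n⁻¹ ∈ L := by
      refine mem_Cz.2 ?_
      obtain ⟨j, hj⟩ := mem_zpowers_iff.1 ((mem_normalizer_iff.1 (inv_mem hn) f).1 (mem_zpowers f))
      have := (Commute.conj_iff n).2 (hzf.zpow_right j)
      rwa [hj, show n * (n⁻¹ * f * n⁻¹⁻¹) * n⁻¹ = f by group] at this
    obtain ⟨l, hl, hl'⟩ := hinv _ hnzL (order_two_of_conj H.oz (isConj_iff.2 ⟨n, rfl⟩))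
    set d := l * n with hd
    have hdz : Commute d z :=
      mul_inv_eq_iff_eq_mul.1 ((show d * z * d⁻¹ = l * (n * z * n⁻¹) * l⁻¹ by rw [hd]; group).trans hl')
    have hdf : d * f * d⁻¹ = n * f * n⁻¹ := by
      obtain ⟨j, hj⟩ := mem_zpowers_iff.1 hnf
      rw [hd, show l * n * f * (l * n)⁻¹ = l * (n * f * n⁻¹) * l⁻¹ by group, ← hj,
        ((mem_Cz.1 hl).zpow_right j).eq, mul_inv_cancel_right]
    have := hnorm d (mem_Cz.2 hdz) (hdf ▸ hnf)
    rwa [hdf] at this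
  refine ⟨fun v hv ov => ?_, fun h4 => ?_, hcases, ?_, ?_⟩
  · obtain ⟨l, -, hl⟩ := hinv v hv ov
    exact (isConj_iff.2 ⟨l, hl⟩).symm
  · have h := S.pow_dvd_card_of_pow_dvd_card (n := 2) h4
    rw [hSc] at h
    norm_num at h
  · set N := normalizer (zpowers f : Set G)
    have hLN : L ≤ N := fun x hx => by
      refine mem_normalizer_iff.2 fun y => ⟨fun hy => ?_, fun hy => ?_⟩
      · obtain ⟨j, rfl⟩ := mem_zpowers_iff.1 hy
        rw [((mem_Cz.1 hx).zpow_right j).eq, mul_inv_cancel_right]; exact hy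
      · obtain ⟨j, hj⟩ := mem_zpowers_iff.1 hy
        have : y = f ^ j := by
          rw [eq_comm, ← mul_right_inj x, ← mul_left_inj x⁻¹, ((mem_Cz.1 hx).zpow_right j).eq, mul_inv_cancel_right]
          exact hj
        exact this ▸ zpow_mem (mem_zpowers _) j
    have hidx : (L.subgroupOf N).index ∣ 2 := by
      by_cases hall : N ≤ L
      · rw [subgroupOf_eq_top.2 hall, index_top]; norm_num
      · obtain ⟨g, hgN, hgL⟩ := SetLike.not_le_iff_exists.1 hall
        refine dvd_of_eq (Subgroup.index_eq_two_iff.2 ⟨⟨g, hgN⟩, fun b => ?_⟩)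
        have hgf : g * f * g⁻¹ = f⁻¹ :=
          (hcases g hgN).resolve_left fun e => hgL (mem_Cz.2 (mul_inv_eq_iff_eq_mul.1 e))
        have hne : f⁻¹ ≠ f := fun e => hgL (mem_Cz.2 (mul_inv_eq_iff_eq_mul.1 (hgf.trans e)))
        simp only [mem_subgroupOf, Subgroup.coe_mul, hL, mem_Cz]
        rcases hcases b b.2 with e | e
        · refine Or.inr ⟨mul_inv_eq_iff_eq_mul.1 e, fun h => hne ?_⟩
          have h' := mul_inv_eq_iff_eq_mul.2 h.eq
          rw [show (b : G) * g * f * ((b : G) * g)⁻¹ = (b : G) * (g * f * g⁻¹) * (b : G)⁻¹ by group, hgf,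
            show (b : G) * f⁻¹ * (b : G)⁻¹ = ((b : G) * f * (b : G)⁻¹)⁻¹ by group, e] at h'
          exact h'
        · refine Or.inl ⟨mul_inv_eq_iff_eq_mul.1 ?_, fun h => hne ?_⟩
          · rw [show (b : G) * g * f * ((b : G) * g)⁻¹ = (b : G) * (g * f * g⁻¹) * (b : G)⁻¹ by group, hgf,
              show (b : G) * f⁻¹ * (b : G)⁻¹ = ((b : G) * f * (b : G)⁻¹)⁻¹ by group, e, inv_inv]
          · exact e.symm.trans (mul_inv_eq_iff_eq_mul.2 h.eq)
    rw [← (L.subgroupOf N).card_mul_index, Nat.card_congr (subgroupOfEquivOfLe hLN).toEquiv, mul_comm 2]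
    exact Nat.mul_dvd_mul_left _ hidx
  · have hPC : normalizer ((S : Subgroup L) : Set L) ≤ centralizer ((S : Subgroup L) : Set L) := by
      intro n hn
      refine mem_centralizer_iff.2 fun v hv => ?_
      have hnv := (mem_normalizer_iff.1 hn v).1 hv
      rw [SetLike.mem_coe, ← hSz, Cfsg.Lib.LargeExtra.mem_zpowers_two (Subtype.ext D.zz)] at hv
      rcases hv with rfl | rfl
      · simp
      · rw [← hSz, Cfsg.Lib.LargeExtra.mem_zpowers_two (Subtype.ext D.zz)] at hnv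
        rcases hnv with e | e
        · exact absurd (congrArg (fun x : L => (x : G)) (conj_eq_one_iff.1 e)) D.frame.x2.ne
        · exact (mul_inv_eq_iff_eq_mul.1 e).symm
    obtain ⟨D0, hDn, hD⟩ : ∃ D0 : Subgroup L, D0.Normal ∧ IsComplement' D0 (S : Subgroup L) :=
      ⟨_, MonoidHom.normal_ker _, MonoidHom.ker_transferSylow_isComplement' S hPC⟩
    have hi : D0.index = 2 := hD.symm.index_eq_card.trans hSc
    have hc0 : Nat.card L = 2 * Nat.card D0 := by rw [← D0.card_mul_index, hi, mul_comm]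
    refine ⟨D0.map L.subtype, map_subtype_le _, ?_, ?_, ?_, ?_⟩
    · rintro g hg _ ⟨x, hx, rfl⟩
      exact ⟨⟨g, hg⟩ * x * ⟨g, hg⟩⁻¹, hDn.conj_mem x hx _, rfl⟩
    · rw [card_map_of_injective L.subtype_injective]; exact hc0
    · rw [card_map_of_injective L.subtype_injective, show Nat.card D0 = (S : Subgroup L).index from hD.index_eq_card.symm]
      exact Nat.odd_iff.2 (Nat.two_dvd_ne_zero.1 S.not_dvd_index)
    · intro x hx hox
      refine ⟨⟨x, hx⟩, ?_, rfl⟩
      rw [SetLike.mem_coe, ← QuotientGroup.eq_one_iff (N := D0)]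
      have h1 : orderOf ((⟨x, hx⟩ : L) : L ⧸ D0) ∣ 2 := hi ▸ orderOf_dvd_natCard _
      have h2 : orderOf ((⟨x, hx⟩ : L) : L ⧸ D0) ∣ orderOf x := by
        rw [← Subgroup.orderOf_mk x hx]; exact orderOf_map_dvd (QuotientGroup.mk' D0) _
      exact orderOf_eq_one_iff.1 (Nat.eq_one_of_dvd_coprimes (Nat.coprime_two_left.2 hox) h1 h2)

end Hyp

end Cfsg.Lib.HallJankoType
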