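import Cfsg.Agent.LargeExtra.Basic
import Cfsg.Agent.Components.GenFitting

/-!
An extraspecial group `Q` of order 32 normalised by a group inducing `A₅` on it has exactly five
pairs of non-central involutions; these are recorded as a frame.
-/

set_option autoImplicit false
set_option linter.unusedSectionVars false

namespace Cfsg.Lib.HallJankoType

open Subgroup
open scoped commutatorElement

variable {G : Type*} [Group G]

/-- exponent notation -/
def bp (x : G) (i : Bool) : G := if i then x else 1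

theorem bp_mem {Q : Subgroup G} {x : G} (hx : x ∈ Q) (i : Bool) : bp x i ∈ Q := by
  cases i
  · exact one_mem _
  · exact hx

theorem bp_merge {x z : G} {ε : Bool} (h : x * x = bp z ε) (i j : Bool) :
    bp x i * bp x j = bp z (ε && i && j) * bp x (xor i j) := by
  cases i <;> cases j <;> cases ε <;> simp_all [bp]

theorem bp_swap {x y z : G} (hzx : Commute z x) (h : y * x = z * (x * y)) (i j : Bool) :
    bp y j * bp x i = bp z (i && j) * (bp x i * bp y j) := by
  cases i <;> cases j <;> simp_all [bp]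

theorem bp_comm {x y : G} (h : Commute x y) (i j : Bool) : Commute (bp x i) (bp y j) := by
  cases i <;> cases j <;> simp_all [bp]

/-- coordinates: sign, two coordinates for each hyperbolic pair -/
abbrev Code := Bool × Bool × Bool × Bool × Bool

/-- multiplication in `D₈ * D₈` (`ε = false`) and `D₈ * Q₈` (`ε = true`) -/
def cmul (ε : Bool) (x y : Code) : Code :=
  (xor x.1 (xor y.1 (xor (x.2.2.1 && y.2.1) (xor (x.2.2.2.2 && y.2.2.2.1)
      (xor (ε && x.2.2.2.1 && y.2.2.2.1) (ε && x.2.2.2.2 && y.2.2.2.2))))),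
    xor x.2.1 y.2.1, xor x.2.2.1 y.2.2.1, xor x.2.2.2.1 y.2.2.2.1, xor x.2.2.2.2 y.2.2.2.2)

/-- inverse -/
def cinv (ε : Bool) (x : Code) : Code := (xor x.1 (cmul ε x x).1, x.2)

/-- the value of a code -/
def ev (z a c b d : G) (x : Code) : G :=
  bp z x.1 * ((bp a x.2.1 * bp c x.2.2.1) * (bp b x.2.2.2.1 * bp d x.2.2.2.2))

/-- generators of `Q` in hyperbolic position -/
structure Gens (z a c b d : G) (ε : Bool) : Prop where
  zz : z * z = 1
  ca : Commute z a
  cc : Commute z c
  cb : Commute z b
  cd : Commute z d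
  sa : a * a = 1
  sc : c * c = 1
  sb : b * b = bp z ε
  sd : d * d = bp z ε
  ac : c * a = z * (a * c)
  bd : d * b = z * (b * d)
  ab : Commute a b
  ad : Commute a d
  cbc : Commute c b
  cdc : Commute c d

namespace Gens

variable {z a c b d : G} {ε : Bool} (h : Gens z a c b d ε)
include h

theorem ev_mul (x y : Code) : ev z a c b d x * ev z a c b d y = ev z a c b d (cmul ε x y) := by
  obtain ⟨s, i, j, k, l⟩ := x
  obtain ⟨s', i', j', k', l'⟩ := y
  have hz : ∀ e e' : Bool, bp z e * bp z e' = bp z (xor e e') := fun e e' => by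
    cases e <;> cases e' <;> simp [bp, h.zz]
  have hA : ∀ e i j, Commute (bp z e) (bp a i * bp c j) := fun e i j =>
    (bp_comm h.ca e i).mul_right (bp_comm h.cc e j)
  have hB : ∀ e k l, Commute (bp z e) (bp b k * bp d l) := fun e k l =>
    (bp_comm h.cb e k).mul_right (bp_comm h.cd e l)
  have hAB : ∀ i j k l, Commute (bp a i * bp c j) (bp b k * bp d l) := fun i j k l =>
    ((bp_comm h.ab i k).mul_right (bp_comm h.ad i l)).mul_left
      ((bp_comm h.cbc j k).mul_right (bp_comm h.cdc j l))
  have hP : bp a i * bp c j * (bp a i' * bp c j') =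
      bp z (j && i') * (bp a (xor i i') * bp c (xor j j')) := by
    have e1 := bp_merge (ε := false) (z := z) (by simpa [bp] using h.sa) i i'
    have e2 := bp_merge (ε := false) (z := z) (by simpa [bp] using h.sc) j j'
    simp only [Bool.false_and, bp, Bool.false_eq_true, if_false, one_mul] at e1 e2
    calc bp a i * bp c j * (bp a i' * bp c j') = bp a i * (bp c j * bp a i') * bp c j' := by group
      _ = bp a i * bp z (i' && j) * (bp a i' * (bp c j * bp c j')) := by rw [bp_swap h.ca h.ac]; group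
      _ = bp z (j && i') * (bp a i * bp a i' * (bp c j * bp c j')) := by
          rw [Bool.and_comm i' j, ← (bp_comm h.ca _ _).eq]; group
      _ = _ := by rw [show bp a i * bp a i' = bp a (xor i i') from e1,
          show bp c j * bp c j' = bp c (xor j j') from e2]
  have hR : bp b k * bp d l * (bp b k' * bp d l') =
      bp z (xor (l && k') (xor (ε && k && k') (ε && l && l'))) * (bp b (xor k k') * bp d (xor l l')) := by
    calc bp b k * bp d l * (bp b k' * bp d l') = bp b k * (bp d l * bp b k') * bp d l' := by group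
      _ = bp b k * bp z (k' && l) * (bp b k' * (bp d l * bp d l')) := by rw [bp_swap h.cb h.bd]; group
      _ = bp z (l && k') * (bp b k * bp b k' * (bp d l * bp d l')) := by
          rw [Bool.and_comm k' l, ← (bp_comm h.cb _ _).eq]; group
      _ = bp z (l && k') * (bp z (ε && k && k') * (bp b (xor k k') * bp z (ε && l && l')) * bp d (xor l l')) := by
          rw [bp_merge h.sb, bp_merge h.sd]; group
      _ = _ := by rw [← hz, ← hz, ← (bp_comm h.cb _ _).eq]; group
  show bp z s * ((bp a i * bp c j) * (bp b k * bp d l)) * (bp z s' * ((bp a i' * bp c j') * (bp b k' * bp d l')))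
    = bp z _ * ((bp a _ * bp c _) * (bp b _ * bp d _))
  calc bp z s * ((bp a i * bp c j) * (bp b k * bp d l)) * (bp z s' * ((bp a i' * bp c j') * (bp b k' * bp d l')))
      = bp z s * ((bp a i * bp c j) * ((bp b k * bp d l) * bp z s') * ((bp a i' * bp c j') * (bp b k' * bp d l'))) := by group
    _ = bp z s * ((bp a i * bp c j * bp z s') * ((bp b k * bp d l) * (bp a i' * bp c j')) * (bp b k' * bp d l')) := by
        rw [← (hB s' k l).eq]; group
    _ = bp z s * bp z s' * ((bp a i * bp c j * (bp a i' * bp c j')) * (bp b k * bp d l * (bp b k' * bp d l'))) := by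
        rw [← (hA s' i j).eq, ← (hAB i' j' k l).eq]; group
    _ = bp z (xor s s') * (bp z (j && i') * ((bp a (xor i i') * bp c (xor j j')) *
        bp z (xor (l && k') (xor (ε && k && k') (ε && l && l')))) * (bp b (xor k k') * bp d (xor l l'))) := by
        rw [hP, hR, hz]; group
    _ = bp z (xor s s') * bp z (j && i') * bp z (xor (l && k') (xor (ε && k && k') (ε && l && l'))) *
        ((bp a (xor i i') * bp c (xor j j')) * (bp b (xor k k') * bp d (xor l l'))) := by
        rw [← (hA _ (xor i i') (xor j j')).eq]; group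
    _ = _ := by rw [hz, hz, Bool.xor_assoc, Bool.xor_assoc]; rfl

theorem ev_one : ev z a c b d (false, false, false, false, false) = 1 := by simp [ev, bp]

set_option synthInstance.maxHeartbeats 200000 in
set_option synthInstance.maxSize 1024 in
theorem ev_injective (hz1 : z ≠ 1) : Function.Injective (ev z a c b d) := by
  -- an element with trivial value commutes with all four generators
  have key : ∀ x : Code, ev z a c b d x = 1 → x = (false, false, false, false, false) := by
    intro x hx
    have hcomm : ∀ g : Code, cmul ε g x = cmul ε x g := by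
      intro g
      by_contra hne
      have h1 : ev z a c b d (cmul ε g x) = ev z a c b d (cmul ε x g) := by
        rw [← h.ev_mul, ← h.ev_mul, hx, one_mul, mul_one]
      have hd : ∀ u v : Code, u.2 = v.2 → u ≠ v → ev z a c b d u ≠ ev z a c b d v := by
        rintro ⟨s, r⟩ ⟨s', r'⟩ (rfl : r = r') hne he
        have hs : s ≠ s' := fun e => hne (by rw [e])
        have := mul_right_cancel (he : bp z s * _ = bp z s' * _)
        cases s <;> cases s' <;> simp_all [bp]
      have hsame : ∀ (e : Bool) (u v : Code), (cmul e u v).2 = (cmul e v u).2 := by decide +kernel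
      exact hd _ _ (hsame ε g x) hne h1
    have hcen : ∀ (e : Bool) (x : Code), (∀ g : Code, cmul e g x = cmul e x g) → x.2 = (false, false, false, false) := by
      decide +kernel
    obtain ⟨s, r⟩ := x
    have hr : r = (false, false, false, false) := hcen ε _ hcomm
    subst hr
    cases s
    · rfl
    · exact absurd (by simpa [ev, bp] using hx) hz1
  intro x y hxy
  have hinv : ∀ (e : Bool) (u v : Code), cmul e (cinv e v) v = (false, false, false, false, false) ∧
      (cmul e (cinv e v) u = (false, false, false, false, false) → u = v) := by decide +kernel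
  obtain ⟨hw1, hw2⟩ := hinv ε x y
  refine hw2 (key _ ?_)
  rw [← h.ev_mul, hxy, h.ev_mul, hw1, h.ev_one]

theorem ev_mem {Q : Subgroup G} (hz : z ∈ Q) (ha : a ∈ Q) (hc : c ∈ Q) (hb : b ∈ Q) (hd : d ∈ Q) (x : Code) :
    ev z a c b d x ∈ Q :=
  mul_mem (bp_mem hz _) (mul_mem (mul_mem (bp_mem ha _) (bp_mem hc _)) (mul_mem (bp_mem hb _) (bp_mem hd _)))

end Gens

theorem ev_surj {Q : Subgroup G} {z a c b d : G} {ε : Bool} (h : Gens z a c b d ε) (hz1 : z ≠ 1)
    (hz : z ∈ Q) (ha : a ∈ Q) (hc : c ∈ Q) (hb : b ∈ Q) (hd : d ∈ Q) [Finite G] (hcard : Nat.card Q = 32)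
    {q : G} (hq : q ∈ Q) : ∃ x, ev z a c b d x = q := by
  have hinj : Function.Injective (fun x : Code => (⟨ev z a c b d x, h.ev_mem hz ha hc hb hd x⟩ : Q)) :=
    fun x y e => h.ev_injective hz1 (congrArg Subtype.val e)
  have hbij := (Nat.bijective_iff_injective_and_card _).2 ⟨hinj, by
    rw [hcard, Nat.card_eq_fintype_card]; rfl⟩
  obtain ⟨x, hx⟩ := hbij.2 ⟨q, hq⟩
  exact ⟨x, congrArg Subtype.val hx⟩

theorem modEq_five {α : Type*} [Fintype α] [DecidableEq α] (π : Equiv.Perm α) (h : π ^ 5 ^ 1 = 1) :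
    Fintype.card α ≡ Fintype.card (Function.fixedPoints (π : α → α)) [MOD 5] := by
  haveI : Fact (Nat.Prime 5) := ⟨by norm_num⟩
  let φ : Equiv.Perm α →* Function.End α :=
    { toFun := fun σ => (σ : α → α), map_one' := rfl, map_mul' := fun _ _ => rfl }
  exact Equiv.Perm.card_fixedPoints_modEq (f := φ π) (p := 5) (n := 1) (by rw [← map_pow, h, map_one])

/-- A group of order 32 of this kind with a fixed point free operator of order five is `D₈ * Q₈`. -/
theorem exists_gens [Finite G] {Q : Subgroup G} {z f : G} (h : Cfsg.Lib.LargeExtra.X2 Q z)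
    (hcard : Nat.card Q = 32) (hf : f ^ 5 = 1) (hfN : ∀ q ∈ Q, f * q * f⁻¹ ∈ Q) (hfz : Commute f z)
    (hfC : ∃ q ∈ Q, ¬ Commute f q) :
    (∀ q ∈ Q, Commute f q → q = 1 ∨ q = z) ∧
      ∃ a c b d, a ∈ Q ∧ c ∈ Q ∧ b ∈ Q ∧ d ∈ Q ∧ Gens z a c b d true := by
  classical
  haveI : Fact (Nat.Prime 5) := ⟨by norm_num⟩
  letI : Fintype Q := Fintype.ofFinite Q
  have hbij : Function.Bijective (fun q : Q => (⟨f * q * f⁻¹, hfN q q.2⟩ : Q)) :=
    Finite.injective_iff_bijective.1 fun q r e =>
      Subtype.ext ((MulAut.conj f).injective (congrArg Subtype.val e))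
  let π : Equiv.Perm Q := Equiv.ofBijective _ hbij
  have hπ : ∀ (n : ℕ) (q : Q), (((π ^ n) q : Q) : G) = f ^ n * q * (f ^ n)⁻¹ := by
    intro n q
    induction n with
    | zero => simp
    | succ n ih =>
      rw [pow_succ', Equiv.Perm.mul_apply]
      show f * (((π ^ n) q : Q) : G) * f⁻¹ = _
      rw [ih, pow_succ']
      group
  have hπ5 : π ^ 5 ^ 1 = 1 := Equiv.ext fun q => Subtype.ext (by rw [pow_one, hπ, hf]; simp)
  set H := Q ⊓ centralizer ({f} : Set G) with hH
  have hmemH : ∀ q, q ∈ H ↔ q ∈ Q ∧ Commute f q := fun q => by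
    rw [hH, mem_inf, mem_centralizer_singleton_iff]
    exact and_congr_right fun _ => ⟨fun e => e.symm, fun e => e.eq.symm⟩
  -- fixed points
  have hfix : ∀ q : Q, π q = q ↔ Commute f q := fun q => by
    rw [Subtype.ext_iff]
    exact mul_inv_eq_iff_eq_mul
  have hH2 : Nat.card H = 2 := by
    obtain ⟨n, hn⟩ := h.isP.exists_card_eq
    have hHP : IsPGroup 2 H := h.isP.to_le inf_le_left
    haveI : Fact (Nat.Prime 2) := ⟨Nat.prime_two⟩
    obtain ⟨m, hm⟩ := hHP.exists_card_eq
    have hle : Nat.card H ≤ 32 := hcard ▸ Subgroup.card_le_of_le inf_le_left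
    have hlt : Nat.card H ≠ 32 := fun e => by
      obtain ⟨q, hq, hqf⟩ := hfC
      have heq : H = Q := Subgroup.eq_of_le_of_card_ge inf_le_left (by omega)
      exact hqf ((hmemH q).1 (heq.symm ▸ hq)).2
    have hmod := modEq_five π hπ5
    have hc : Fintype.card (Function.fixedPoints (π : Q → Q)) = Nat.card H := by
      rw [← Nat.card_eq_fintype_card]
      refine Nat.card_congr ⟨fun q => ⟨q.1, (hmemH _).2 ⟨q.1.2, (hfix q.1).1 q.2⟩⟩,
        fun q => ⟨⟨q.1, ((hmemH _).1 q.2).1⟩, (hfix _).2 ((hmemH _).1 q.2).2⟩, fun q => rfl, fun q => rfl⟩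
    rw [hc, ← Nat.card_eq_fintype_card, hcard] at hmod
    have hge : 2 ≤ Nat.card H := by
      refine (Finite.one_lt_card_iff_nontrivial).2 ⟨⟨1, one_mem _⟩, ⟨z, (hmemH z).2 ⟨h.mem, hfz⟩⟩, ?_⟩
      exact fun e => h.ne (congrArg Subtype.val e).symm
    rw [hm] at hle hlt hge hmod ⊢
    have : m ≤ 5 := by
      by_contra hm5
      have : 2 ^ 6 ≤ 2 ^ m := Nat.pow_le_pow_right two_pos (by omega)
      omega
    unfold Nat.ModEq at hmod
    interval_cases m <;> revert hmod hlt hge <;> decide
  have hfree : ∀ q ∈ Q, Commute f q → q = 1 ∨ q = z := by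
    intro q hq hqf
    by_contra hne
    push Not at hne
    have h3 : ({1, z, q} : Finset G).card = 3 := by
      rw [Finset.card_eq_three]; exact ⟨1, z, q, h.ne.symm, hne.1.symm, hne.2.symm, rfl⟩
    have hle : ({1, z, q} : Finset G).card ≤ Nat.card H := by
      rw [← Nat.card_eq_finsetCard]
      refine Nat.card_le_card_of_injective (fun x => ⟨x.1, ?_⟩) fun x y e => Subtype.ext (congrArg Subtype.val e :)
      have := x.2
      simp only [Finset.mem_insert, Finset.mem_singleton] at this
      rcases this with e | e | e <;> rw [e]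
      · exact one_mem _
      · exact (hmemH z).2 ⟨h.mem, hfz⟩
      · exact (hmemH q).2 ⟨hq, hqf⟩
    omega
  refine ⟨hfree, ?_⟩
  have hconj : ∀ {x y : G}, x ∈ Q → y ∈ Q → ¬ Commute x y → x * y = z * (y * x) := fun {x y} hx hy hn => by
    rw [← mul_assoc, ← mul_inv_eq_iff_eq_mul]
    exact h.not_commute_conj hx hy hn
  have hnot : ∀ {x : G}, x ∈ Q → x ≠ 1 → x ≠ z → ∃ y ∈ Q, ¬ Commute y x := fun {x} hx h1 h2 => by
    by_contra hall
    push Not at hall
    rcases h.cen x hx (fun a ha => hall a ha) with e | e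
    · exact h1 e
    · exact h2 e
  -- a non-central involution
  obtain ⟨a, ha, haa, ha1, haz⟩ : ∃ a ∈ Q, a * a = 1 ∧ a ≠ 1 ∧ a ≠ z := by
    by_contra hno
    push Not at hno
    have hsq : ∀ q ∈ Q, q ≠ 1 → q ≠ z → q * q = z := fun q hq h1 h2 =>
      (h.sq q hq).resolve_left fun e => h2 (hno q hq e h1)
    obtain ⟨q₀, hq₀, hq₀f⟩ := hfC
    have hq1 : q₀ ≠ 1 := fun e => hq₀f (e ▸ Commute.one_right f)
    have hqz : q₀ ≠ z := fun e => hq₀f (e ▸ hfz)
    obtain ⟨r, hr, hrq⟩ := hnot hq₀ hq1 hqz
    obtain ⟨u, hu, v, hv, hu', hv', huv⟩ := h.exists_noncommuting (by omega) hq₀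
    have hun : u ≠ 1 ∧ u ≠ z := ⟨fun e => huv (e ▸ Commute.one_left v), fun e => huv (e ▸ (h.central v hv).symm)⟩
    have huq : u ≠ q₀ := fun e => huv (e ▸ hv'.symm)
    have hp1 : u * q₀ ≠ 1 := fun e => huv (by
      rw [eq_inv_of_mul_eq_one_left e]; exact hv'.symm.inv_left)
    have hsqp : u * q₀ * (u * q₀) = 1 := by
      rw [Commute.mul_mul_mul_comm hu'.symm, hsq u hu hun.1 hun.2, hsq q₀ hq₀ hq1 hqz, h.zz]
    have hz' : u * q₀ = z := hno _ (mul_mem hu hq₀) hsqp hp1
    refine huv ?_
    rw [eq_mul_inv_of_mul_eq hz']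
    exact ((h.central v hv).symm).mul_left hv'.symm.inv_left
  obtain ⟨c, hc, hca, hcc⟩ : ∃ c ∈ Q, ¬ Commute c a ∧ c * c = 1 := by
    obtain ⟨c, hc, hca⟩ := hnot ha ha1 haz
    rcases h.sq c hc with e | e
    · exact ⟨c, hc, hca, e⟩
    · refine ⟨c * a, mul_mem hc ha, fun e' => hca ?_, ?_⟩
      · simpa using e'.mul_left (Commute.refl a).inv_left
      · calc c * a * (c * a) = c * a * c⁻¹ * (c * c) * a := by group
          _ = z * (a * z) * a := by rw [h.not_commute_conj hc ha hca, e]; group
          _ = (z * z) * (a * a) := by rw [(h.central a ha).eq]; group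
          _ = 1 := by rw [h.zz, haa, one_mul]
  have hac : ¬ Commute a c := fun e => hca e.symm
  have hfour : ∀ q ∈ Q, ∃ g, (g = 1 ∨ g = a ∨ g = c ∨ g = a * c) ∧ Commute (q * g) a ∧ Commute (q * g) c := by
    intro q hq
    by_cases h1 : Commute q a <;> by_cases h2 : Commute q c
    · exact ⟨1, Or.inl rfl, by simpa using h1, by simpa using h2⟩
    · exact ⟨a, Or.inr (Or.inl rfl), h1.mul_left (Commute.refl a), h.commute_mul hq ha hc h2 hac⟩
    · exact ⟨c, Or.inr (Or.inr (Or.inl rfl)), h.commute_mul hq hc ha h1 hca, h2.mul_left (Commute.refl c)⟩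
    · refine ⟨a * c, Or.inr (Or.inr (Or.inr rfl)), h.commute_mul hq (mul_mem ha hc) ha h1 ?_,
        h.commute_mul hq (mul_mem ha hc) hc h2 ?_⟩
      · exact fun e => hca (by simpa using (Commute.refl a).inv_left.mul_left e)
      · exact fun e => hac (by simpa using e.mul_left (Commute.refl c).inv_left)
  obtain ⟨b, hb, hba, hbc, hb1, hbz⟩ : ∃ b ∈ Q, Commute b a ∧ Commute b c ∧ b ≠ 1 ∧ b ≠ z := by
    by_contra hno
    push Not at hno
    let s : Finset G := ({1, a, c, a * c} : Finset G).image (fun g => g⁻¹) ∪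
      ({1, a, c, a * c} : Finset G).image (fun g => z * g⁻¹)
    have hsub : (Q : Set G) ⊆ (s : Set G) := fun q hq => by
      obtain ⟨g, hg, hga, hgc⟩ := hfour q hq
      have hgQ : g ∈ Q := by
        rcases hg with rfl | rfl | rfl | rfl
        exacts [one_mem _, ha, hc, mul_mem ha hc]
      have hg' : g ∈ ({1, a, c, a * c} : Finset G) := by simpa using hg
      by_cases h1 : q * g = 1
      · exact Finset.mem_coe.2 (Finset.mem_union_left _ (Finset.mem_image.2 ⟨g, hg', (eq_inv_of_mul_eq_one_left h1).symm⟩))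
      · exact Finset.mem_coe.2 (Finset.mem_union_right _ (Finset.mem_image.2 ⟨g, hg',
          (eq_mul_inv_of_mul_eq (hno _ (mul_mem hq hgQ) hga hgc h1)).symm⟩))
    have h1 := Set.ncard_le_ncard hsub (Finset.finite_toSet _)
    rw [Set.ncard_coe_finset] at h1
    have h2 : s.card ≤ 8 := (Finset.card_union_le _ _).trans
      (add_le_add (Finset.card_image_le.trans Finset.card_le_four) (Finset.card_image_le.trans Finset.card_le_four))
    have h3 : (Q : Set G).ncard = Nat.card Q := rfl
    omega
  obtain ⟨d, hd, hda, hdc, hdb⟩ : ∃ d ∈ Q, Commute d a ∧ Commute d c ∧ ¬ Commute d b := by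
    by_contra hno
    push Not at hno
    obtain ⟨q, hq, hqb⟩ := hnot hb hb1 hbz
    obtain ⟨g, hg, hga, hgc⟩ := hfour q hq
    have hgQ : g ∈ Q := by
      rcases hg with rfl | rfl | rfl | rfl
      exacts [one_mem _, ha, hc, mul_mem ha hc]
    have hgb : Commute g b := by
      rcases hg with rfl | rfl | rfl | rfl
      exacts [Commute.one_left b, hba.symm, hbc.symm, hba.symm.mul_left hbc.symm]
    exact hqb (by simpa using (hno _ (mul_mem hq hgQ) hga hgc).mul_left hgb.inv_left)
  have mk : ∀ {b d : G}, b ∈ Q → d ∈ Q → Commute b a → Commute b c → Commute d a → Commute d c → ¬ Commute d b →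
      ∀ e, b * b = bp z e → d * d = bp z e → Gens z a c b d e := fun {b d} hb hd h1 h2 h3 h4 h5 e h6 h7 =>
    { zz := h.zz, ca := (h.central a ha).symm, cc := (h.central c hc).symm, cb := (h.central b hb).symm,
      cd := (h.central d hd).symm, sa := haa, sc := hcc, sb := h6, sd := h7, ac := hconj hc ha hca,
      bd := hconj hd hb h5, ab := h1.symm, ad := h3.symm, cbc := h2.symm, cdc := h4.symm }
  have hflip : ∀ {u v : G}, u ∈ Q → v ∈ Q → ¬ Commute u v → u * u = z → v * v = 1 → u * v * (u * v) = 1 :=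
    fun {u v} hu hv hn eu ev => by
      calc u * v * (u * v) = u * v * u⁻¹ * (u * u) * v := by group
        _ = z * (v * z) * v := by rw [h.not_commute_conj hu hv hn, eu]; group
        _ = (z * z) * (v * v) := by rw [(h.central v hv).eq]; group
        _ = 1 := by rw [h.zz, ev, one_mul]
  suffices hbad : ∀ b d : G, b ∈ Q → d ∈ Q → Commute b a → Commute b c → Commute d a → Commute d c → ¬ Commute d b →
      b * b = 1 → d * d = 1 → False by
    have hbd : ¬ Commute b d := fun e => hdb e.symm
    rcases h.sq b hb with eb | eb <;> rcases h.sq d hd with ed | ed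
    · exact (hbad b d hb hd hba hbc hda hdc hdb eb ed).elim
    · refine (hbad b (d * b) hb (mul_mem hd hb) hba hbc (hda.mul_left hba) (hdc.mul_left hbc) ?_ eb
        (hflip hd hb hdb ed eb)).elim
      exact fun e => hdb (by simpa using e.mul_left (Commute.refl b).inv_left)
    · refine (hbad (b * d) d (mul_mem hb hd) hd (hba.mul_left hda) (hbc.mul_left hdc) hda hdc ?_
        (hflip hb hd hbd eb ed) ed).elim
      exact fun e => hbd (by simpa using e.symm.mul_left (Commute.refl d).inv_left)
    · exact ⟨a, c, b, d, ha, hc, hb, hd, mk hb hd hba hbc hda hdc hdb true (by simpa [bp] using eb) (by simpa [bp] using ed)⟩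
  intro b d hb hd hba hbc hda hdc hdb eb ed
  have g := mk hb hd hba hbc hda hdc hdb false (by simpa [bp] using eb) (by simpa [bp] using ed)
  -- the involutions of the plus type are too many
  let I := {q : Q // (q : G) * q = 1}
  letI : Fintype I := Fintype.ofFinite I
  have hI : ∀ q : Q, (q : G) * q = 1 ↔ ((π q : Q) : G) * (π q : Q) = 1 := fun q => by
    show _ ↔ f * (q : G) * f⁻¹ * (f * (q : G) * f⁻¹) = 1
    rw [show f * (q : G) * f⁻¹ * (f * (q : G) * f⁻¹) = f * ((q : G) * q) * f⁻¹ by group, mul_inv_eq_one, mul_eq_left]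
  let πI : Equiv.Perm I := π.subtypePerm (fun q => (hI q).symm)
  have hπI : πI ^ 5 ^ 1 = 1 := by
    refine Equiv.ext fun q => Subtype.ext ?_
    rw [Equiv.Perm.subtypePerm_pow, Equiv.Perm.subtypePerm_apply]
    show (π ^ 5 ^ 1) q.1 = q.1
    rw [hπ5]
    rfl
  have hmod := modEq_five πI hπI
  have hc2 : Fintype.card (Function.fixedPoints (πI : I → I)) = 2 := by
    rw [← Nat.card_eq_fintype_card, ← hH2]
    refine Nat.card_congr ⟨fun q => ⟨q.1.1, (hmemH _).2 ⟨q.1.1.2, (hfix q.1.1).1 (congrArg Subtype.val q.2)⟩⟩,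
      fun q => ⟨⟨⟨q.1, ((hmemH _).1 q.2).1⟩, ?_⟩, Subtype.ext ((hfix _).2 ((hmemH _).1 q.2).2)⟩, fun q => rfl, fun q => rfl⟩
    rcases hfree q.1 ((hmemH _).1 q.2).1 ((hmemH _).1 q.2).2 with e | e
    · simp [e]
    · show (q : G) * q = 1
      rw [e, h.zz]
  have hc20 : Fintype.card I = 20 := by
    have e : Nat.card {x : Code // cmul false x x = (false, false, false, false, false)} = Nat.card I := by
      refine Nat.card_eq_of_bijective (fun x => ⟨⟨ev z a c b d x.1, g.ev_mem h.mem ha hc hb hd x.1⟩, ?_⟩) ⟨?_, ?_⟩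
      · show ev z a c b d x.1 * ev z a c b d x.1 = 1
        rw [g.ev_mul, x.2, g.ev_one]
      · exact fun x y e => Subtype.ext (g.ev_injective h.ne (congrArg (fun q : I => ((q.1 : Q) : G)) e))
      · rintro ⟨⟨q, hq⟩, hqq⟩
        obtain ⟨x, rfl⟩ := ev_surj g h.ne h.mem ha hc hb hd hcard hq
        exact ⟨⟨x, g.ev_injective h.ne (by rw [← g.ev_mul, g.ev_one]; exact hqq)⟩, rfl⟩
    rw [← Nat.card_eq_fintype_card, ← e, Nat.card_eq_fintype_card]
    decide +kernel
  rw [hc2, hc20] at hmod
  exact absurd hmod (by decide)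

/-- the five singular points in the coordinates -/
def pt : Fin 5 → Code :=
  ![(false, true, false, false, false), (false, false, true, false, false), (false, true, true, true, false),
    (false, true, true, false, true), (false, true, true, true, true)]

end Cfsg.Lib.HallJankoType
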