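import Cfsg.Agent.LocalThree.HallJankoType.OuterCentralizer
import Cfsg.Agent.InvolCalc.Classes

/-!
The two classes of involutions and an element of order a power of three moving `z` inside the
centralizer of an outer involution.
-/

set_option autoImplicit false
set_option linter.unusedSectionVars false

namespace Cfsg.Lib.HallJankoType

open Subgroup Equiv

variable {G : Type*} [Group G] [Finite G] {z : G} {Q : Subgroup G} {a : Fin 5 → G} {σ : Cz z →* Perm (Fin 5)}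

/-- the Hall–Janko situation -/
structure Hyp (z : G) (Q : Subgroup G) (a : Fin 5 → G) (σ : Cz z →* Perm (Fin 5)) : Prop where
  data : Data z Q a σ
  nwc : ∃ g : G, g * z * g⁻¹ ∈ Q ∧ g * z * g⁻¹ ≠ z
  two : ∃ x y : G, orderOf x = 2 ∧ orderOf y = 2 ∧ ¬ IsConj x y

/-- stabilises the three involutions `z`, `w`, `zw` -/
def Stab3 (z w g : G) : Prop :=
  ∀ v : G, (v = z ∨ v = w ∨ v = z * w) → (g * v * g⁻¹ = z ∨ g * v * g⁻¹ = w ∨ g * v * g⁻¹ = z * w)

theorem Stab3.mul {z w g h : G} (hg : Stab3 z w g) (hh : Stab3 z w h) : Stab3 z w (g * h) := fun v hv => by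
  rw [show g * h * v * (g * h)⁻¹ = g * (h * v * h⁻¹) * g⁻¹ by group]
  exact hg _ (hh v hv)

theorem Stab3.pow {z w g : G} (hg : Stab3 z w g) (n : ℕ) : Stab3 z w (g ^ n) := by
  induction n with
  | zero => intro v hv; simpa using hv
  | succ n ih => rw [pow_succ]; exact ih.mul hg

namespace Hyp

variable (H : Hyp z Q a σ)
include H

theorem oz : orderOf z = 2 :=
  Cfsg.Lib.InvolCalc.order_two_of_mul_self H.data.zz H.data.frame.x2.ne

theorem pts_conj {q : G} (hq : q ∈ Q) (hqq : q * q = 1) (h1 : q ≠ 1) : IsConj z q := by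
  have D := H.data
  by_cases hqz : q = z
  · rw [hqz]
  obtain ⟨g, hgQ, hgz⟩ := H.nwc
  have hg2 : g * z * g⁻¹ * (g * z * g⁻¹) = 1 := by
    rw [show g * z * g⁻¹ * (g * z * g⁻¹) = g * (z * z) * g⁻¹ by group, D.zz]; group
  have pts : ∀ {q : G}, q ∈ Q → q * q = 1 → q ≠ 1 → q ≠ z → ∃ i, Cls z q (a i) := fun {q} hq hqq h1 hz => by
    refine (D.frame.pts q hq hqq).resolve_left fun e => ?_
    rcases e with e | e
    · exact h1 e
    · exact hz (by rw [e, mul_one])
  obtain ⟨i, hi⟩ := pts hgQ hg2 (fun e => D.frame.x2.ne (conj_eq_one_iff.1 e)) hgz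
  obtain ⟨j, hj⟩ := pts hq hqq h1 hqz
  obtain ⟨ρ, hρ, hρij⟩ : ∃ ρ : Perm (Fin 5), Perm.sign ρ = 1 ∧ ρ i = j := by
    exact (by decide +kernel : ∀ i j : Fin 5, ∃ ρ : Perm (Fin 5), Perm.sign ρ = 1 ∧ ρ i = j) i j
  obtain ⟨c, rfl⟩ := D.surj ρ hρ
  have h2 : Cls z ((c : G) * (g * z * g⁻¹) * (c : G)⁻¹) q := by
    refine D.frame.cls_trans (D.cls_conj c.2 hi) (D.frame.cls_trans ?_ (D.frame.cls_symm hj))
    rw [← hρij]
    exact D.act c i
  rcases h2 with e | e
  · exact isConj_iff.2 ⟨(c : G) * g, by rw [← e]; group⟩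
  · obtain ⟨k, hk⟩ : ∃ k : Fin 5, k ≠ j := exists_ne j
    have hkq : a k * q * (a k)⁻¹ = z * q := by
      refine D.frame.x2.not_commute_conj (D.frame.mem k) hq fun hc => ?_
      have hc' : Commute (a k) (a j) := by
        rcases hj with rfl | rfl
        · exact hc
        · simpa [← mul_assoc, D.zz] using Commute.mul_right (D.frame.z_ai k : Commute (a k) z) hc
      have := D.frame.anti k j hk
      rw [← hc'.eq] at this
      exact D.frame.x2.ne (mul_eq_right.mp this.symm)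
    refine isConj_iff.2 ⟨a k * ((c : G) * g), ?_⟩
    have e' : z * q = (c : G) * (g * z * g⁻¹) * (c : G)⁻¹ := e.symm
    have hkz : a k * z = z * a k := D.frame.z_ai k
    calc a k * ((c : G) * g) * z * (a k * ((c : G) * g))⁻¹
        = a k * ((c : G) * (g * z * g⁻¹) * (c : G)⁻¹) * (a k)⁻¹ := by group
      _ = z * (a k * q * (a k)⁻¹) := by rw [← e', ← mul_assoc (a k) z, hkz]; group
      _ = q := by rw [hkq, ← mul_assoc, D.zz, one_mul]

theorem exists_conj_C {x : G} (hx : orderOf x = 2) : ∃ g : G, g * x * g⁻¹ ∈ Cz z := by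
  classical
  haveI : Fact (Nat.Prime 2) := ⟨Nat.prime_two⟩
  have D := H.data
  -- a Sylow 2-subgroup of `C` above `Q` is one of `G`
  have hQP : IsPGroup 2 (Q.subgroupOf (Cz z)) :=
    D.frame.x2.isP.comap_of_injective _ (Cz z).subtype_injective
  obtain ⟨P, hP⟩ := hQP.exists_le_sylow
  set R : Subgroup G := (P : Subgroup (Cz z)).map (Cz z).subtype with hR
  have hRP : IsPGroup 2 R := P.isPGroup'.map _
  obtain ⟨S, hS⟩ := hRP.exists_le_sylow
  have hRC : R ≤ Cz z := map_subtype_le _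
  have hQR : Q ≤ R := fun q hq => ⟨⟨q, D.le hq⟩, hP (mem_subgroupOf.2 hq), rfl⟩
  have hRS : R = S := by
    by_contra hne
    have hlt : R.subgroupOf (S : Subgroup G) < ⊤ := lt_top_iff_ne_top.2 fun e =>
      hne (le_antisymm hS (subgroupOf_eq_top.1 e))
    haveI : Group.IsNilpotent (S : Subgroup G) := S.isPGroup'.isNilpotent
    have hn := Group.normalizerCondition_of_isNilpotent (G := (S : Subgroup G)) _ hlt
    obtain ⟨r, hr, hrR⟩ := SetLike.exists_of_lt hn
    have hfix : (r : G) * z * (r : G)⁻¹ = z := by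
      have hzR : z ∈ R := hQR D.frame.x2.mem
      have hmem : ∀ v ∈ R, (r : G) * v * (r : G)⁻¹ ∈ R := fun v hv => by
        have := (mem_normalizer_iff.1 hr ⟨v, hS hv⟩).1 (mem_subgroupOf.2 hv)
        exact mem_subgroupOf.1 this
      have hzc : (r : G) * z * (r : G)⁻¹ ∈ centralizer (Q : Set G) := mem_centralizer_iff.2 fun q hq => by
        have h1 : (r : G)⁻¹ * q * r ∈ R := by
          have := (mem_normalizer_iff.1 (inv_mem hr) ⟨q, hS (hQR hq)⟩).1 (mem_subgroupOf.2 (hQR hq))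
          simpa [mem_subgroupOf] using this
        have h2 : (r : G)⁻¹ * q * r * z = z * ((r : G)⁻¹ * q * r) := (mem_Cz.1 (hRC h1)).eq
        calc q * ((r : G) * z * (r : G)⁻¹) = (r : G) * ((r : G)⁻¹ * q * r * z) * (r : G)⁻¹ := by group
          _ = _ := by rw [h2]; group
      rcases D.frame.x2.cen _ (D.cen hzc) (fun q hq => mem_centralizer_iff.1 hzc q hq) with e | e
      · exact absurd (conj_eq_one_iff.1 e) D.frame.x2.ne
      · exact e
    have hrC : (r : G) ∈ Cz z := mem_Cz.2 (mul_inv_eq_iff_eq_mul.1 hfix)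
    -- `P` is maximal
    set r' : Cz z := ⟨r, hrC⟩
    have hrn : r' ∈ normalizer ((P : Subgroup (Cz z)) : Set (Cz z)) := by
      refine mem_normalizer_iff.2 fun v => ?_
      have h1 := mem_normalizer_iff.1 hr
      constructor
      · intro hv
        have hvR : (v : G) ∈ R := ⟨v, hv, rfl⟩
        obtain ⟨u, hu, e⟩ := mem_subgroupOf.1 ((h1 ⟨v, hS hvR⟩).1 (mem_subgroupOf.2 hvR))
        exact (Subtype.ext (e : (u : G) = (r : G) * v * (r : G)⁻¹) : u = r' * v * r'⁻¹) ▸ hu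
      · intro hv
        have hvR : (r : G) * v * (r : G)⁻¹ ∈ R := ⟨_, hv, rfl⟩
        have hvS : (v : G) ∈ (S : Subgroup G) := by
          have := mul_mem (mul_mem (inv_mem r.2) (hS hvR)) r.2
          simpa [mul_assoc] using this
        obtain ⟨u, hu, e⟩ := mem_subgroupOf.1 ((h1 ⟨v, hvS⟩).2 (mem_subgroupOf.2 hvR))
        exact (Subtype.ext (e : (u : G) = (v : G)) : u = v) ▸ hu
    obtain ⟨k, hk⟩ := S.isPGroup' r
    have hzp : IsPGroup 2 (zpowers r') := by
      rintro ⟨_, i, rfl⟩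
      refine ⟨k, Subtype.ext ?_⟩
      show (r' ^ i) ^ 2 ^ k = 1
      rw [← zpow_natCast, zpow_comm, zpow_natCast, show r' ^ 2 ^ k = 1 from Subtype.ext (by
        have := congrArg Subtype.val hk
        exact this), one_zpow]
    have hsup : IsPGroup 2 (zpowers r' ⊔ (P : Subgroup (Cz z)) : Subgroup (Cz z)) :=
      hzp.to_sup_of_normal_right' P.isPGroup' (zpowers_le.2 hrn)
    have := P.is_maximal' hsup le_sup_right
    exact hrR (mem_subgroupOf.2 ⟨r', this ▸ mem_sup_left (mem_zpowers r'), rfl⟩)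
  obtain ⟨g, hg⟩ := Cfsg.Lib.InvolCalc.exists_conj_le S (H := zpowers x)
    (IsPGroup.of_card (n := 1) (by rw [Nat.card_zpowers, hx, pow_one]))
  exact ⟨g⁻¹, by rw [inv_inv]; exact hRC (hRS.symm ▸ hg x (mem_zpowers x))⟩

theorem exists_outer : ∃ y, Outer z Q y := by
  by_contra hno
  push Not at hno
  obtain ⟨x, y, hx, hy, hxy⟩ := H.two
  refine hxy ?_
  have all : ∀ x : G, orderOf x = 2 → IsConj z x := fun x hx => by
    obtain ⟨g, hg⟩ := H.exists_conj_C hx
    have h2 : g * x * g⁻¹ * (g * x * g⁻¹) = 1 := by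
      rw [show g * x * g⁻¹ * (g * x * g⁻¹) = g * (x * x) * g⁻¹ by group, Cfsg.Lib.InvolCalc.sq_of_order_two hx]; group
    have hQ : g * x * g⁻¹ ∈ Q := by
      by_contra hq
      exact hno _ ⟨hg, h2, hq⟩
    exact (H.pts_conj hQ h2 (fun e => Cfsg.Lib.InvolCalc.ne_one_of_order_two hx (conj_eq_one_iff.1 e))).trans
      (isConj_iff.2 ⟨g⁻¹, by group⟩)
  exact (all x hx).symm.trans (all y hy)

theorem outer_not_conj {y : G} (hy : Outer z Q y) : ¬ IsConj z y := by
  intro hzy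
  obtain ⟨x, x', hx, hx', hxx'⟩ := H.two
  refine hxx' ?_
  have all : ∀ x : G, orderOf x = 2 → IsConj z x := fun x hx => by
    obtain ⟨g, hg⟩ := H.exists_conj_C hx
    have h2 : g * x * g⁻¹ * (g * x * g⁻¹) = 1 := by
      rw [show g * x * g⁻¹ * (g * x * g⁻¹) = g * (x * x) * g⁻¹ by group, Cfsg.Lib.InvolCalc.sq_of_order_two hx]; group
    refine IsConj.trans ?_ (isConj_iff.2 ⟨g⁻¹, by group⟩ : IsConj (g * x * g⁻¹) x)
    by_cases hQ : g * x * g⁻¹ ∈ Q
    · exact H.pts_conj hQ h2 (fun e => Cfsg.Lib.InvolCalc.ne_one_of_order_two hx (conj_eq_one_iff.1 e))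
    · obtain ⟨c, -, hc⟩ := H.data.outer_conj hy ⟨hg, h2, hQ⟩
      exact hzy.trans (isConj_iff.2 ⟨c, hc⟩)
  exact (all x hx).symm.trans (all x' hx')

theorem mem_Q_of_conj {u : G} (hu : u ∈ Cz z) (huz : IsConj z u) : u ∈ Q := by
  by_contra hQ
  obtain ⟨g, rfl⟩ := isConj_iff.1 huz
  refine H.outer_not_conj ⟨hu, ?_, hQ⟩ huz
  rw [show g * z * g⁻¹ * (g * z * g⁻¹) = g * (z * z) * g⁻¹ by group, H.data.zz]; group

theorem outer_iff {u : G} (hu : u ∈ Cz z) (hu2 : orderOf u = 2) : Outer z Q u ↔ ¬ IsConj z u :=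
  ⟨fun h => H.outer_not_conj h, fun h => ⟨hu, Cfsg.Lib.InvolCalc.sq_of_order_two hu2, fun hQ =>
    h (H.pts_conj hQ (Cfsg.Lib.InvolCalc.sq_of_order_two hu2) (Cfsg.Lib.InvolCalc.ne_one_of_order_two hu2))⟩⟩

theorem class_cases {t x : G} (ht : Outer z Q t) (hx : orderOf x = 2) : IsConj z x ∨ IsConj t x := by
  obtain ⟨g, hg⟩ := H.exists_conj_C hx
  have hgx : orderOf (g * x * g⁻¹) = 2 := by
    rw [show g * x * g⁻¹ = MulAut.conj g x from rfl, MulEquiv.orderOf_eq]; exact hx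
  have hb : IsConj (g * x * g⁻¹) x := isConj_iff.2 ⟨g⁻¹, by group⟩
  by_cases h : IsConj z (g * x * g⁻¹)
  · exact Or.inl (h.trans hb)
  · obtain ⟨c, -, hc⟩ := H.data.outer_conj ht ((H.outer_iff hg hgx).2 h)
    exact Or.inr ((isConj_iff.2 ⟨c, hc⟩).trans hb)

/-- swapping `z` with a singular point's partner -/
theorem exists_swap {w : G} (hw : w ∈ Q) (hww : w * w = 1) (hw1 : w ≠ 1) (hwz : w ≠ z) :
    ∃ n : G, n * w * n⁻¹ = w ∧ n * z * n⁻¹ = z * w := by
  have D := H.data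
  obtain ⟨g, rfl⟩ := isConj_iff.1 (H.pts_conj hw hww hw1)
  set v := g⁻¹ * z * g with hv
  have hwc : Commute (g * z * g⁻¹) z := (D.commQ hw).symm
  have hvC : v ∈ Cz z := mem_Cz.2 (by
    refine (Commute.conj_iff g).1 ?_
    rw [hv, show g * (g⁻¹ * z * g) * g⁻¹ = z by group]
    exact hwc.symm)
  have hvQ : v ∈ Q := H.mem_Q_of_conj hvC (isConj_iff.2 ⟨g⁻¹, by rw [inv_inv]⟩)
  have hvz : v ≠ z := fun e => hwz (by rw [show g * z * g⁻¹ = g * v * g⁻¹ by rw [e], hv]; group)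
  have hv1 : v ≠ 1 := fun e => D.frame.x2.ne (by rw [show z = g * v * g⁻¹ by rw [hv]; group, e]; group)
  obtain ⟨r, hr, hrv⟩ := D.frame.x2.exists_swap hvQ (by
    rw [Cfsg.Lib.LargeExtra.mem_zpowers_two D.zz]
    exact not_or.2 ⟨hv1, hvz⟩)
  refine ⟨g * r * g⁻¹, ?_, ?_⟩
  · calc g * r * g⁻¹ * (g * z * g⁻¹) * (g * r * g⁻¹)⁻¹ = g * (r * z * r⁻¹) * g⁻¹ := by group
      _ = _ := by rw [(D.commQ hr).eq.symm, mul_inv_cancel_right]
  · calc g * r * g⁻¹ * z * (g * r * g⁻¹)⁻¹ = g * (r * v * r⁻¹) * g⁻¹ := by rw [hv]; group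
      _ = g * z * g⁻¹ * z := by rw [hrv, hv]; group
      _ = _ := hwc.eq

end Hyp

theorem odd_two_point {X : Type*} (e₁ e₂ : X) (π : X → X) (hπ : Function.Injective π)
    (h1 : π e₁ = e₁ ∨ π e₁ = e₂) (h2 : π e₂ = e₁ ∨ π e₂ = e₂) {m : ℕ} (hm : Odd m) (hper : π^[m] e₁ = e₁) :
    π e₁ = e₁ := by
  rcases h1 with h1 | h1
  · exact h1
  · rcases h2 with h2 | h2
    · obtain ⟨k, rfl⟩ := hm
      have h2k : ∀ k, π^[2 * k] e₁ = e₁ := fun k => by
        induction k with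
        | zero => rfl
        | succ k ih => rw [show 2 * (k + 1) = 2 + 2 * k by ring, Function.iterate_add_apply, ih]; show π (π e₁) = e₁; rw [h1, h2]
      rw [show 2 * k + 1 = 1 + 2 * k by ring, Function.iterate_add_apply, h2k] at hper
      exact hper
    · exact (hπ (h1.trans h2.symm)) ▸ h2

theorem exists_odd_pow (g : G) : ∃ k : ℕ, Odd (orderOf (g ^ 2 ^ k)) := by
  obtain ⟨k, m, hm, e⟩ := Nat.exists_eq_two_pow_mul_odd (orderOf_pos g).ne'
  refine ⟨k, ?_⟩
  rw [orderOf_pow' _ (by positivity), e, Nat.gcd_eq_right (Dvd.intro m rfl), Nat.mul_div_cancel_left _ (by positivity)]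
  exact hm

end Cfsg.Lib.HallJankoType
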