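import Cfsg.Agent.LocalThree.HallJankoType.Mover
import Cfsg.Agent.Fusion.SimpleGroup
import Cfsg.Agent.PGroups.Basic

/-!
The 2-fusion system of a group of Hall–Janko type is simple.
-/

set_option autoImplicit false
set_option linter.unusedSectionVars false
set_option linter.style.haveILetI false

namespace Cfsg.Lib.HallJankoType

open Subgroup Equiv

variable {G : Type*} [Group G] [Finite G] {z : G} {Q : Subgroup G} {a : Fin 5 → G} {σ : Cz z →* Perm (Fin 5)}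

/-- the Klein subgroup fixing the last point -/
def FourPerm (π : Perm (Fin 5)) : Prop := π * π = 1 ∧ π 4 = 4

theorem fourPerm_mul : ∀ π ρ : Perm (Fin 5), Perm.sign π = 1 → Perm.sign ρ = 1 →
    π * π = 1 ∧ π 4 = 4 → ρ * ρ = 1 ∧ ρ 4 = 4 → π * ρ * (π * ρ) = 1 ∧ (π * ρ) 4 = 4 := by decide +kernel

theorem fourPerm_max : ∀ π : Perm (Fin 5), Perm.sign π = 1 → π ^ 4 = 1 → (π * tau1) ^ 4 = 1 →
    (π * tau2) ^ 4 = 1 → π * π = 1 ∧ π 4 = 4 := by decide +kernel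

set_option synthInstance.maxSize 1024 in
set_option synthInstance.maxHeartbeats 200000 in
theorem fourPerm_rot : ∀ π ρ : Perm (Fin 5), Perm.sign π = 1 → Perm.sign ρ = 1 →
    π * π = 1 ∧ π 4 = 4 → π ≠ 1 → ρ * ρ = 1 ∧ ρ 4 = 4 → ρ ≠ 1 →
    ∃ γ : Perm (Fin 5), Perm.sign γ = 1 ∧ γ 4 = 4 ∧ γ * π * γ⁻¹ = ρ := by decide +kernel

theorem fourPerm_stab : ∀ γ π : Perm (Fin 5), Perm.sign γ = 1 → γ 4 = 4 → π * π = 1 → π 4 = 4 →
    γ * π * γ⁻¹ * (γ * π * γ⁻¹) = 1 ∧ (γ * π * γ⁻¹) 4 = 4 :=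
  fun γ π _ hγ hπ hπ4 => ⟨by rw [show γ * π * γ⁻¹ * (γ * π * γ⁻¹) = γ * (π * π) * γ⁻¹ by group, hπ]; group, by
    have h1 : γ⁻¹ 4 = 4 := Perm.inv_eq_iff_eq.mpr hγ.symm
    simp [Perm.mul_apply, h1, hπ4, hγ]⟩

theorem perm_two_invol : ∀ π : Perm (Fin 5), Perm.sign π = 1 →
    ∃ ρ : Perm (Fin 5), Perm.sign ρ = 1 ∧ ρ * ρ = 1 ∧ ρ * π * (ρ * π) = 1 := by decide +kernel

theorem perm_eight : ∀ π : Perm (Fin 5), Perm.sign π = 1 → π ^ 8 = 1 → π ^ 4 = 1 := by decide +kernel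

theorem sylow_fix : ∀ π : Perm (Fin 5), Perm.sign π = 1 → π ^ 4 = 1 →
    ∃ γ : Perm (Fin 5), Perm.sign γ = 1 ∧ γ * π * γ⁻¹ * (γ * π * γ⁻¹) = 1 ∧ (γ * π * γ⁻¹) 4 = 4 := by
  decide +kernel

namespace Hyp

variable (H : Hyp z Q a σ)
include H

/-- a Sylow 2-subgroup: the preimage of the Klein subgroup -/
def sylTwo : Subgroup G where
  carrier := {c | ∃ hc : c ∈ Cz z, FourPerm (σ ⟨c, hc⟩)}
  one_mem' := ⟨one_mem _, by rw [show (⟨1, one_mem _⟩ : Cz z) = 1 from rfl, map_one]; exact ⟨one_mul 1, rfl⟩⟩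
  mul_mem' := by
    rintro x y ⟨hx, ex⟩ ⟨hy, ey⟩
    refine ⟨mul_mem hx hy, ?_⟩
    rw [show (⟨x * y, mul_mem hx hy⟩ : Cz z) = ⟨x, hx⟩ * ⟨y, hy⟩ from rfl, map_mul]
    exact fourPerm_mul _ _ (H.data.sign _) (H.data.sign _) ex ey
  inv_mem' := by
    rintro x ⟨hx, e1, e2⟩
    refine ⟨inv_mem hx, ?_⟩
    rw [show (⟨x⁻¹, inv_mem hx⟩ : Cz z) = (⟨x, hx⟩ : Cz z)⁻¹ from rfl, map_inv, inv_eq_of_mul_eq_one_right e1]
    exact ⟨e1, e2⟩

theorem Q_le_sylTwo : Q ≤ H.sylTwo := fun q hq =>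
  ⟨H.data.le hq, by rw [(H.data.ker ⟨q, H.data.le hq⟩).2 hq]; exact ⟨one_mul 1, rfl⟩⟩

theorem sylTwo_le : H.sylTwo ≤ Cz z := fun _ h => h.1

theorem pow_two_of_sq {c : G} (hc : c ∈ Cz z) (h : σ ⟨c, hc⟩ * σ ⟨c, hc⟩ = 1) : ∃ k : ℕ, c ^ 2 ^ k = 1 := by
  have hQ : c * c ∈ Q := (H.data.ker (⟨c, hc⟩ * ⟨c, hc⟩)).1 (by rw [map_mul, h])
  obtain ⟨k, hk⟩ := H.data.frame.x2.isP ⟨_, hQ⟩
  refine ⟨k + 1, ?_⟩
  rw [pow_succ', pow_mul, pow_two]
  exact congrArg Subtype.val hk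

theorem isP_sylTwo : IsPGroup 2 H.sylTwo := fun ⟨c, hc, h, _⟩ => by
  obtain ⟨k, hk⟩ := H.pow_two_of_sq hc h
  exact ⟨k, Subtype.ext (by simpa using hk)⟩

theorem eq_of_le {P : Subgroup G} (hP : IsPGroup 2 P) (hle : H.sylTwo ≤ P) : P = H.sylTwo := by
  have D := H.data
  haveI : Fact (Nat.Prime 2) := ⟨Nat.prime_two⟩
  refine le_antisymm (fun x hx => ?_) hle
  -- `P` centralises `z`
  have hcen : ∀ g : G, (∀ b ∈ P, b * g = g * b) → g ≠ 1 → g = z := fun g hgc hg1 => by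
    have hq : g ∈ Q := D.cen (mem_centralizer_iff.2 fun q hq => hgc q (hle (H.Q_le_sylTwo hq)))
    exact (D.frame.x2.cen g hq fun b hb => hgc b (hle (H.Q_le_sylTwo hb))).resolve_left hg1
  obtain ⟨⟨g, hgP⟩, -, hgc, hg2⟩ := Cfsg.Lib.PGroups.exists_mem_center_of_normal_ne_bot hP (N := ⊤) (by
    intro h
    have hz : (⟨z, hle (H.Q_le_sylTwo D.frame.x2.mem)⟩ : P) ∈ (⊤ : Subgroup P) := mem_top _
    rw [h, mem_bot] at hz
    exact D.frame.x2.ne (congrArg Subtype.val hz))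
  have hgz : g = z := hcen g (fun b hb => congrArg Subtype.val (mem_center_iff.1 hgc ⟨b, hb⟩)) (by
    rintro rfl
    rw [show (⟨1, hgP⟩ : P) = 1 from rfl, orderOf_one] at hg2
    omega)
  have hPC : P ≤ Cz z := fun y hy => mem_Cz.2 (by
    have := congrArg Subtype.val (mem_center_iff.1 hgc ⟨y, hy⟩)
    simpa [hgz, Commute, SemiconjBy] using this)
  have h4 : ∀ π : Perm (Fin 5), Perm.sign π = 1 → (∃ k : ℕ, π ^ 2 ^ k = 1) → π ^ 4 = 1 := by
    intro π hπ hk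
    obtain ⟨k, hk⟩ := hk
    refine perm_eight π hπ (orderOf_dvd_iff_pow_eq_one.1 ?_)
    obtain ⟨j, -, hj⟩ := (Nat.dvd_prime_pow Nat.prime_two).1 (orderOf_dvd_of_pow_eq_one hk)
    have h2 : orderOf π ∣ 8 * 15 := by
      have := orderOf_dvd_natCard π
      rwa [Nat.card_perm, Nat.card_fin] at this
    rw [hj] at h2 ⊢
    exact (Nat.Coprime.pow_left j (by norm_num : Nat.Coprime 2 15)).dvd_of_dvd_mul_right h2
  have hpow : ∀ c (hc : c ∈ P), (σ ⟨c, hPC hc⟩) ^ 4 = 1 := fun c hc => by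
    refine h4 _ (D.sign _) ?_
    obtain ⟨k, hk⟩ := hP ⟨c, hc⟩
    refine ⟨k, ?_⟩
    rw [← map_pow, show (⟨c, hPC hc⟩ : Cz z) ^ 2 ^ k = 1 from Subtype.ext (by simpa using congrArg Subtype.val hk),
      map_one]
  obtain ⟨c₁, h1⟩ := D.surj tau1 (by decide)
  obtain ⟨c₂, h2⟩ := D.surj tau2 (by decide)
  have m1 : (c₁ : G) ∈ P := hle ⟨c₁.2, by rw [h1]; unfold FourPerm; decide⟩
  have m2 : (c₂ : G) ∈ P := hle ⟨c₂.2, by rw [h2]; unfold FourPerm; decide⟩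
  refine ⟨hPC hx, fourPerm_max _ (D.sign _) (hpow x hx) ?_ ?_⟩
  · rw [← h1, ← map_mul]; exact hpow _ (mul_mem hx m1)
  · rw [← h2, ← map_mul]; exact hpow _ (mul_mem hx m2)

/-- the preimage as a Sylow subgroup -/
def sylow : Sylow 2 G :=
  { H.sylTwo with isPGroup' := H.isP_sylTwo, is_maximal' := fun hP hle => H.eq_of_le hP hle }

/-- closed under conjugation inside the Sylow subgroup: trivial or everything -/
theorem closed_eq (T : Subgroup G) (hle : T ≤ H.sylTwo) (hT : T ≠ ⊥)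
    (hcl : ∀ g x : G, x ∈ T → g * x * g⁻¹ ∈ H.sylTwo → g * x * g⁻¹ ∈ T) : T = H.sylTwo := by
  have D := H.data
  haveI : Fact (Nat.Prime 2) := ⟨Nat.prime_two⟩
  have hn : (T.subgroupOf H.sylTwo).Normal := ⟨fun x hx s =>
    mem_subgroupOf.2 (by
      simpa using hcl s x (mem_subgroupOf.1 hx) (by simpa using (s * x * s⁻¹).2))⟩
  obtain ⟨⟨g, hgS⟩, hgT, hgc, hg2⟩ := Cfsg.Lib.PGroups.exists_mem_center_of_normal_ne_bot H.isP_sylTwo
    (N := T.subgroupOf H.sylTwo) (by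
      rw [Ne, subgroupOf_eq_bot, disjoint_iff, inf_eq_left.2 hle]; exact hT)
  have hgQ : g ∈ Q := D.cen (mem_centralizer_iff.2 fun q hq =>
    congrArg Subtype.val (mem_center_iff.1 hgc ⟨q, H.Q_le_sylTwo hq⟩))
  have hgz : g = z := (D.frame.x2.cen g hgQ fun b hb =>
    congrArg Subtype.val (mem_center_iff.1 hgc ⟨b, H.Q_le_sylTwo hb⟩)).resolve_left (by
      rintro rfl
      rw [show (⟨1, hgS⟩ : H.sylTwo) = 1 from rfl, orderOf_one] at hg2
      omega)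
  have hzT : z ∈ T := hgz ▸ mem_subgroupOf.1 hgT
  have hai : ∀ i, a i ∈ T := fun i => by
    obtain ⟨-, -, h1, -⟩ := D.frame.pt_invol (Or.inl rfl : Cls z (a i) (a i))
    obtain ⟨c, hc⟩ := isConj_iff.1 (H.pts_conj (D.frame.mem i) (D.frame.sq i) h1)
    rw [← hc]
    exact hcl c z hzT (hc ▸ H.Q_le_sylTwo (D.frame.mem i))
  have hcls : ∀ {q x : G}, Cls z q x → x ∈ T → q ∈ T := by
    rintro q x (rfl | rfl) hx
    exacts [hx, mul_mem hzT hx]
  have hQT : Q ≤ T := fun q hq => by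
    rcases D.frame.cls q hq with e | ⟨i, e⟩ | ⟨i, j, -, e⟩
    exacts [hcls e (one_mem T), hcls e (hai i), hcls e (mul_mem (hai i) (hai j))]
  -- an element outside `Q`
  have hne1 := (D.frame.pt_invol (Or.inl rfl : Cls z (a 0) (a 0))).2.2.1
  have hnez := (D.frame.pt_invol (Or.inl rfl : Cls z (a 0) (a 0))).2.2.2
  obtain ⟨n, hn0, hnz⟩ := H.exists_swap (D.frame.mem 0) (D.frame.sq 0) hne1 hnez
  set q := a 1 * a 2 with hqdef
  have hqq : q * q = z := by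
    calc q * q = a 1 * (a 2 * a 1) * a 2 := by rw [hqdef]; group
      _ = a 1 * z * a 1 * (a 2 * a 2) := by rw [D.frame.anti 1 2 (by decide)]; group
      _ = _ := by rw [D.frame.sq 2, D.frame.z_ai 1, mul_assoc z, D.frame.sq 1]; group
  have hqz : Commute q z := Commute.mul_left (D.frame.z_ai 1) (D.frame.z_ai 2)
  have hqa : Commute q (a 0) := by
    show q * a 0 = a 0 * q
    calc q * a 0 = a 1 * (a 2 * a 0) := by rw [hqdef]; group
      _ = a 1 * (z * (a 0 * a 2)) := by rw [D.frame.anti 0 2 (by decide)]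
      _ = z * (a 1 * a 0) * a 2 := by rw [← mul_assoc (a 1) z, D.frame.z_ai 1]; group
      _ = z * z * (a 0 * a 1) * a 2 := by rw [D.frame.anti 0 1 (by decide)]; group
      _ = _ := by rw [D.frame.x2.zz, hqdef]; group
  set u := n * q * n⁻¹ with hu
  have huz : Commute u z := by
    have h1 : Commute u (a 0) := hn0 ▸ (Commute.conj_iff n).2 hqa
    have h2 : Commute u (z * a 0) := hnz ▸ (Commute.conj_iff n).2 hqz
    have := h2.mul_right h1
    rwa [mul_assoc, D.frame.sq 0, mul_one] at this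
  have huu : u * u = z * a 0 := by
    rw [← hnz, hu, show n * q * n⁻¹ * (n * q * n⁻¹) = n * (q * q) * n⁻¹ by group, hqq]
  have huC : u ∈ Cz z := mem_Cz.2 huz
  have hza : z * a 0 ∈ Q := mul_mem D.frame.x2.mem (D.frame.mem 0)
  have hσu : σ ⟨u, huC⟩ ^ 4 = 1 := by
    rw [← map_pow]
    refine (D.ker _).2 ?_
    show u ^ 4 ∈ Q
    rw [show u ^ 4 = (u * u) * (u * u) by simp [pow_succ, mul_assoc], huu]
    exact mul_mem hza hza
  obtain ⟨γ, hγ, hγ1, hγ2⟩ := sylow_fix _ (D.sign _) hσu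
  obtain ⟨c, rfl⟩ := D.surj γ hγ
  set v := (c : G) * u * (c : G)⁻¹ with hv
  have hvS : v ∈ H.sylTwo := by
    refine ⟨mul_mem (mul_mem c.2 huC) (inv_mem c.2), ?_⟩
    rw [show (⟨v, _⟩ : Cz z) = c * ⟨u, huC⟩ * c⁻¹ from rfl, map_mul, map_mul, map_inv]
    exact ⟨hγ1, hγ2⟩
  have hvT : v ∈ T := by
    have e : v = ((c : G) * n) * q * ((c : G) * n)⁻¹ := by rw [hv, hu]; group
    rw [e] at hvS ⊢
    exact hcl _ q (hQT (mul_mem (D.frame.mem 1) (D.frame.mem 2))) hvS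
  have hvQ : v ∉ Q := fun h => by
    have huQ : u ∈ Q := by
      have := D.norm (c : G)⁻¹ (inv_mem c.2) v h
      rwa [hv, show (c : G)⁻¹ * ((c : G) * u * (c : G)⁻¹) * ((c : G)⁻¹)⁻¹ = u by group] at this
    rcases D.frame.x2.sq u huQ with e | e
    · rw [huu] at e
      exact hnez (by
        have h2 := congrArg (fun w => z * w) e
        simpa [← mul_assoc, D.frame.x2.zz] using h2)
    · rw [huu, mul_eq_left] at e
      exact hne1 e
  -- rotation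
  refine le_antisymm hle fun x hx => ?_
  obtain ⟨hxC, hxp⟩ := hx
  by_cases hx1 : σ ⟨x, hxC⟩ = 1
  · exact hQT ((D.ker _).1 hx1)
  obtain ⟨hvC, hvp⟩ := hvS
  obtain ⟨δ, hδ, hδ4, hδe⟩ := fourPerm_rot _ _ (D.sign ⟨v, hvC⟩) (D.sign ⟨x, hxC⟩) hvp
    (fun h => hvQ ((D.ker _).1 h)) hxp hx1
  obtain ⟨d, rfl⟩ := D.surj δ hδ
  have hdS : (d : G) * v * (d : G)⁻¹ ∈ H.sylTwo := by
    refine ⟨mul_mem (mul_mem d.2 hvC) (inv_mem d.2), ?_⟩
    rw [show (⟨(d : G) * v * (d : G)⁻¹, _⟩ : Cz z) = d * ⟨v, hvC⟩ * d⁻¹ from rfl, map_mul, map_mul, map_inv]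
    exact fourPerm_stab _ _ hδ hδ4 hvp.1 hvp.2
  have hdT := hcl _ v hvT hdS
  have hrest : ((d : G) * v * (d : G)⁻¹)⁻¹ * x ∈ Q := by
    refine (D.ker ((d * ⟨v, hvC⟩ * d⁻¹)⁻¹ * ⟨x, hxC⟩)).1 ?_
    rw [map_mul, map_inv, map_mul, map_mul, map_inv, hδe, inv_mul_cancel]
  have := mul_mem hdT (hQT hrest)
  rwa [mul_inv_cancel_left] at this

/-- the normaliser is generated by 2-elements normalising `Q` -/
theorem normalizer_le_gen :
    normalizer (H.sylTwo : Set G) ≤ closure {x : G | x ∈ normalizer (Q : Set G) ∧ ∃ k : ℕ, x ^ 2 ^ k = 1} := by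
  have D := H.data
  intro g hg
  have hgC : g ∈ Cz z := by
    have hzS := H.Q_le_sylTwo D.frame.x2.mem
    have hw : g * z * g⁻¹ ∈ centralizer (Q : Set G) := mem_centralizer_iff.2 fun q hq => by
      have h1 : g⁻¹ * q * g ∈ H.sylTwo := (mem_normalizer_iff.1 hg _).2 (by
        rw [show g * (g⁻¹ * q * g) * g⁻¹ = q by group]; exact H.Q_le_sylTwo hq)
      have h2 : g⁻¹ * q * g * z = z * (g⁻¹ * q * g) := (mem_Cz.1 (H.sylTwo_le h1)).eq
      calc q * (g * z * g⁻¹) = g * (g⁻¹ * q * g * z) * g⁻¹ := by group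
        _ = _ := by rw [h2]; group
    rcases D.frame.x2.cen _ (D.cen hw) (fun b hb => mem_centralizer_iff.1 hw b hb) with e | e
    · exact absurd (conj_eq_one_iff.1 e) D.frame.x2.ne
    · exact mem_Cz.2 (mul_inv_eq_iff_eq_mul.1 e)
  have hN : ∀ c ∈ Cz z, c ∈ normalizer (Q : Set G) := fun c hc => mem_normalizer_iff.2 fun q => by
    refine ⟨D.norm c hc q, fun h => ?_⟩
    have := D.norm c⁻¹ (inv_mem hc) _ h
    simpa [mul_assoc] using this
  obtain ⟨ρ, hρ, hρ2, hρg⟩ := perm_two_invol (σ ⟨g, hgC⟩) (D.sign _)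
  obtain ⟨c, rfl⟩ := D.surj ρ hρ
  have m1 : (c : G) ∈ {x : G | x ∈ normalizer (Q : Set G) ∧ ∃ k : ℕ, x ^ 2 ^ k = 1} :=
    ⟨hN _ c.2, H.pow_two_of_sq c.2 hρ2⟩
  have m2 : (c : G) * g ∈ {x : G | x ∈ normalizer (Q : Set G) ∧ ∃ k : ℕ, x ^ 2 ^ k = 1} :=
    ⟨hN _ (mul_mem c.2 hgC), H.pow_two_of_sq (mul_mem c.2 hgC) (by
      rw [show (⟨(c : G) * g, _⟩ : Cz z) = c * ⟨g, hgC⟩ from rfl, map_mul]; exact hρg)⟩
  have := mul_mem (inv_mem (subset_closure m1)) (subset_closure m2)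
  rwa [inv_mul_cancel_left] at this

end Hyp

open Cfsg Cfsg.FusionSystem Cfsg.Lib.Fusion in
/-- The main theorem, for any group isomorphic to one of Hall–Janko type. -/
theorem Hyp.isSimple_fusion (H : Hyp z Q a σ) {L : Type*} [Group L] [Finite L] (e : G ≃* L) (S : Sylow 2 L) :
    (groupFusionSystem (S : Subgroup L)).IsSimple 2 := by
  haveI : Fact (Nat.Prime 2) := ⟨Nat.prime_two⟩
  let S₀ : Sylow 2 L := H.sylow.mapSurjective (f := e.toMonoidHom) e.surjective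
  have hS₀ : (S₀ : Subgroup L) = H.sylTwo.map e.toMonoidHom := rfl
  refine isSimple_of_normalResidual S₀ S ?_ (fun T hT => ?_) ?_
  · rw [hS₀, Ne, map_eq_bot_iff_of_injective _ e.injective]
    intro h
    exact H.data.frame.x2.ne (mem_bot.1 (h ▸ H.Q_le_sylTwo H.data.frame.x2.mem))
  · by_cases hb : T = ⊥
    · exact Or.inl hb
    refine Or.inr ?_
    have hmapT : (T.comap e.toMonoidHom).map e.toMonoidHom = T := map_comap_eq_self_of_surjective e.surjective T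
    have key := H.closed_eq (T.comap e.toMonoidHom) (fun x hx => by
      obtain ⟨y, hy, he⟩ := hS₀.le (hT.1 hx)
      exact e.injective he ▸ hy) (fun h => hb (by rw [← hmapT, h, Subgroup.map_bot])) fun g x hx hgx => by
      have hm : IsMap (groupFusionSystem (S₀ : Subgroup L)) (zpowers (e x)) (fun y => e g * y * (e g)⁻¹) := by
        refine isMap_group_iff.mpr ⟨zpowers_le.2 (hT.1 hx), fun y hy => ?_, e g, fun _ _ => rfl⟩
        obtain ⟨i, rfl⟩ := hy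
        show e g * e x ^ i * (e g)⁻¹ ∈ _
        rw [← _root_.conj_zpow, ← map_inv, ← map_mul, ← map_mul, hS₀]
        exact zpow_mem (mem_map_of_mem _ hgx) i
      have h1 := stronglyClosed_apply hT hm (mem_zpowers (e x)) hx
      simpa [mem_comap] using h1
    rw [← hmapT, key, hS₀]
  · intro x hx
    refine subset_closure (Or.inl (Or.inl ⟨hx, Q.map e.toMonoidHom, ?_, ?_, ?_, ?_⟩))
    · rw [hS₀]; exact map_mono H.Q_le_sylTwo
    · rw [hS₀, ← map_equiv_normalizer_eq]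
      refine map_mono fun c hc => mem_normalizer_iff.2 fun q => ?_
      have hcC := H.sylTwo_le hc
      refine ⟨H.data.norm c hcC q, fun h => ?_⟩
      have := H.data.norm c⁻¹ (inv_mem hcC) _ h
      simpa [mul_assoc] using this
    · rintro y ⟨hy, hyc⟩
      obtain ⟨c, -, rfl⟩ := hS₀.le hy
      exact mem_map_of_mem _ (H.data.cen (mem_centralizer_iff.2 fun q hq => e.injective (by
        have := mem_centralizer_iff.1 hyc (e q) ⟨q, hq, rfl⟩
        rw [map_mul, map_mul]; exact this)))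
    · have hx' : e.symm x ∈ normalizer (H.sylTwo : Set G) := by
        rw [hS₀, ← map_equiv_normalizer_eq] at hx
        exact mem_map_equiv.1 hx
      have h2 := mem_map_of_mem e.toMonoidHom (H.normalizer_le_gen hx')
      rw [MonoidHom.map_closure, show e.toMonoidHom (e.symm x) = x from e.apply_symm_apply x] at h2
      refine closure_mono ?_ h2
      rintro _ ⟨y, ⟨hy, k, hk⟩, rfl⟩
      exact ⟨Subgroup.le_normalizer_map e.toMonoidHom ⟨y, hy, rfl⟩, k, by rw [← map_pow, hk, map_one]⟩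

end Cfsg.Lib.HallJankoType
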