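import Cfsg.Agent.LocalThree.HallJankoType.Fusion

/-!
An element of three-power order fixing an outer involution `t` and moving `z` inside the four-group
`C(z) ∩ C(t) ∩ Q`.
-/

set_option autoImplicit false
set_option linter.unusedSectionVars false

namespace Cfsg.Lib.HallJankoType

open Subgroup Equiv

variable {G : Type*} [Group G] [Finite G] {z : G} {Q : Subgroup G} {a : Fin 5 → G} {σ : Cz z →* Perm (Fin 5)}

def cyc3 : Perm (Fin 5) := swap 0 1 * swap 1 2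

theorem perm_rot : ∀ ρ π : Perm (Fin 5), (ρ = cyc3 ∨ ρ = cyc3 * cyc3) → (π = tau1 ∨ π = tau2 ∨ π = tau1 * tau2) →
    ∃ i : Fin 3, ρ ^ (i : ℕ) * π * (ρ ^ (i : ℕ))⁻¹ = tau1 := by decide +kernel

theorem perm_outer_four : ∀ π : Perm (Fin 5), Perm.sign π = 1 → π * π = 1 → π ≠ 1 → π 4 = 4 →
    π = tau1 ∨ π = tau2 ∨ π = tau1 * tau2 := by decide +kernel

/-- conjugation maps the second subgroup into itself -/
def MapsTo' (g : G) (E : Subgroup G) : Prop := ∀ x ∈ E, g * x * g⁻¹ ∈ E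

/-- what is wanted for an outer involution -/
structure Mover (z : G) (Q : Subgroup G) (t w h : G) : Prop where
  props : EProps z Q t w
  comm : Commute h t
  stab : Stab3 z w h
  move : h * z * h⁻¹ ≠ z
  three : ∃ k, h ^ 3 ^ k = 1
  maps : MapsTo' h (Ey z t)

namespace Hyp

variable (H : Hyp z Q a σ)
include H

theorem exists_mover_std : ∃ t w h, Outer z Q t ∧ Mover z Q t w h := by
  classical
  haveI : Fact (Nat.Prime 3) := ⟨Nat.prime_three⟩
  have D := H.data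
  obtain ⟨y₀, hy₀⟩ := H.exists_outer
  obtain ⟨c₀, hc₀, ec₀⟩ := D.to_std hy₀.1 (by rw [hy₀.2.1]; exact one_mem _) hy₀.2.2
  have hyO := D.outer_conj' hy₀ hc₀
  generalize hyd : c₀ * y₀ * c₀⁻¹ = y at hyO
  have hσy : σ ⟨y, hyO.1⟩ = tau1 := by subst hyd; exact ec₀
  clear ec₀ hyd
  obtain ⟨hy, hyy, hyQ⟩ := hyO
  set w := a 4 with hw
  have hwp := D.frame.pt_invol (Or.inl rfl : Cls z w w)
  obtain ⟨hwQ, hww, hw1, hwz⟩ := hwp
  have hzw : Commute z w := D.commQ hwQ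
  have P₁ := D.std_Ey hy hyy hσy
  -- the second standard involution
  set y' := a 0 * y * (a 0)⁻¹ with hy'
  have hy'O := D.outer_conj' (⟨hy, hyy, hyQ⟩ : Outer z Q y) (D.le (D.frame.mem 0))
  have hσ0 : σ ⟨a 0, D.le (D.frame.mem 0)⟩ = 1 := (D.ker _).2 (D.frame.mem 0)
  have hσy' : σ ⟨y', hy'O.1⟩ = tau1 := by
    rw [show (⟨y', hy'O.1⟩ : Cz z) = ⟨a 0, D.le (D.frame.mem 0)⟩ * ⟨y, hy⟩ * ⟨a 0, D.le (D.frame.mem 0)⟩⁻¹ from rfl,
      map_mul, map_mul, map_inv, hσ0, hσy]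
    group
  have P₂ := D.std_Ey hy'O.1 hy'O.2.1 hσy'
  have hVmem : ∀ {t}, EProps z Q t w → ∀ v ∈ Vset z w, v ∈ Ey z t ∧ v ∈ Q := fun {t} P v hv => (P.inQ v).2 hv
  have hwE : ∀ {t}, EProps z Q t w → w ∈ Ey z t := fun {t} P => (hVmem P w (by simp [Vset])).1
  -- any involution outside the four-group commuting with it lies in one of two subgroups
  have heqE : ∀ {t x : G}, EProps z Q t w → x ∈ Ey z t → Outer z Q x → Ey z t = Ey z x := fun {t x} P hx hxO => by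
    obtain ⟨w', P'⟩ := D.Ey_props hxO
    refine eq_of_le_of_card_ge (fun v hv => mem_Ey.2 ⟨(mem_Ey.1 hv).1, P.comm v hv x hx⟩) ?_
    rw [P.card, P'.card]
  have cover : ∀ x : G, x * x = 1 → Commute x z → Commute x w → x ∉ Vset z w →
      Outer z Q x ∧ (Ey z x = Ey z y ∨ Ey z x = Ey z y') := by
    intro x hxx hxz hxw hxV
    have hxC : x ∈ Cz z := mem_Cz.2 hxz
    have hxQ : x ∉ Q := by
      intro hxQ
      rcases D.frame.pts x hxQ hxx with e | ⟨i, e⟩
      · rcases e with e | e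
        · exact hxV (by simp [Vset, e])
        · exact hxV (by simp [Vset, e])
      · by_cases hi : i = 4
        · subst hi
          rcases e with e | e
          · exact hxV (by simp [Vset, e, hw])
          · exact hxV (by simp [Vset, e, hw])
        · have hc : Commute (a i) w := by
            rcases e with rfl | rfl
            · exact hxw
            · simpa [← mul_assoc, D.zz] using hzw.mul_left hxw
          have := D.frame.anti i 4 hi
          rw [← hw, ← hc.eq] at this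
          exact D.frame.x2.ne (mul_eq_right.mp this.symm)
    refine ⟨⟨hxC, hxx, hxQ⟩, ?_⟩
    obtain ⟨x', hx'C, hx'x, hσx', hxx'⟩ := D.exists_partner ⟨hxC, hxx, hxQ⟩ hxw
    have hx'O : Outer z Q x' := ⟨hx'C, hx'x, D.std_notMem hx'C hx'x hσx'⟩
    obtain ⟨w', P'⟩ := D.Ey_props hx'O
    have hxE : Ey z x' = Ey z x := by
      obtain ⟨wx, Px⟩ := D.Ey_props (⟨hxC, hxx, hxQ⟩ : Outer z Q x)
      refine eq_of_le_of_card_ge (fun v hv => mem_Ey.2 ⟨(mem_Ey.1 hv).1, P'.comm v hv x (mem_Ey.2 ⟨hxC, hxx'⟩)⟩) ?_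
      rw [P'.card, Px.card]
    suffices h : x' ∈ Ey z y ∨ x' ∈ Ey z y' by
      rcases h with h | h
      · exact Or.inl (hxE.symm.trans (heqE P₁ h hx'O).symm)
      · exact Or.inr (hxE.symm.trans (heqE P₂ h hx'O).symm)
    set u := y * x' with hu
    have hxu : x' = y * u := by rw [hu, ← mul_assoc, hyy, one_mul]
    have huQ : u ∈ Q := (D.ker ⟨u, mul_mem hy hx'C⟩).1 (by
      rw [show (⟨u, mul_mem hy hx'C⟩ : Cz z) = ⟨y, hy⟩ * ⟨x', hx'C⟩ from rfl, map_mul, hσy, hσx']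
      decide)
    have huR : RSet z a u := D.std_fixed hy hyy hσy huQ (by
      have h1 : y * u * y⁻¹ = u⁻¹ := eq_inv_of_mul_eq_one_left (by
        rw [inv_eq_of_mul_eq_one_right hyy, show y * u * y * u = (y * u) * (y * u) by group, ← hxu, hx'x])
      rw [h1]
      exact D.cls_self_inv huQ)
    -- `y' = y u₀` with `u₀` in the class of `a₀ a₁`
    have hu0 : Cls z (y * y') (a 0 * a 1) := by
      rw [hy', show y * (a 0 * y * (a 0)⁻¹) = (y * a 0 * y⁻¹) * (y * y) * (a 0)⁻¹ by group, hyy, mul_one,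
        inv_eq_of_mul_eq_one_right (D.frame.sq 0)]
      exact D.frame.cls_trans (D.cls_mul (D.commQ (D.frame.mem _)).symm (D.std_act hy hyy hσy 0) (Or.inl rfl))
        (D.cls_swap _ _)
    have hm : ∀ i, Commute (a i) z := fun i => (D.commQ (D.frame.mem i)).symm
    have inV : ∀ {t : G}, EProps z Q t w → ∀ {v : G}, (Cls z v 1 ∨ Cls z v w) → v ∈ Ey z t := fun {t} P {v} hv => by
      refine (hVmem P v ?_).1
      rcases hv with (e | e) | (e | e) <;> simp [Vset, e]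
    have hyE : y ∈ Ey z y := mem_Ey.2 ⟨hy, Commute.refl y⟩
    have hy'E : y' ∈ Ey z y' := mem_Ey.2 ⟨hy'O.1, Commute.refl y'⟩
    have second : ∀ {v : G}, Cls z u (a 0 * a 1 * v) → v ∈ Q → (Cls z v 1 ∨ Cls z v w) → x' ∈ Ey z y' := by
      intro v e hvQ hv
      have hyy' : y' = y * (y * y') := by rw [← mul_assoc, hyy, one_mul]
      have h1 : Cls z ((y * y')⁻¹ * u) v := by
        have hinv : Cls z (y * y')⁻¹ (a 0 * a 1) := by
          rcases id hu0 with e0 | e0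
          · exact D.frame.cls_trans (D.cls_self_inv (e0 ▸ mul_mem (D.frame.mem 0) (D.frame.mem 1))) hu0
          · exact D.frame.cls_trans (D.cls_self_inv (e0 ▸ mul_mem D.frame.x2.mem (mul_mem (D.frame.mem 0) (D.frame.mem 1)))) hu0
        refine D.frame.cls_trans (D.cls_mul ((hm 0).mul_left (hm 1)) hinv e) ?_
        rw [← mul_assoc]
        refine D.frame.cls_trans (D.cls_mul (x := a 0 * a 1 * (a 0 * a 1)) (x' := v) ?_ (Or.inl rfl) (Or.inl rfl)) ?_
        · exact ((hm 0).mul_left (hm 1)).mul_left ((hm 0).mul_left (hm 1))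
        · refine D.frame.cls_trans (D.cls_mul (Commute.one_left z) ?_ (Or.inl rfl)) (Or.inl (one_mul v))
          rcases D.frame.x2.sq _ (mul_mem (D.frame.mem 0) (D.frame.mem 1)) with e' | e'
          · exact Or.inl e'
          · exact Or.inr (by rw [e', mul_one])
      have hx' : x' = y' * ((y * y')⁻¹ * u) := by rw [mul_inv_rev, inv_eq_of_mul_eq_one_right hyy, show y'⁻¹ = y' from inv_eq_of_mul_eq_one_right hy'O.2.1, mul_assoc y' y u, ← hxu, ← mul_assoc, show y' * y' = 1 from hy'O.2.1, one_mul]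
      rw [hx']
      refine mul_mem hy'E (inV P₂ ?_)
      rcases hv with hv | hv
      · exact Or.inl (D.frame.cls_trans h1 hv)
      · exact Or.inr (D.frame.cls_trans h1 hv)
    rcases huR with e | e | e | e
    · exact Or.inl (hxu ▸ mul_mem hyE (inV P₁ (Or.inl e)))
    · exact Or.inl (hxu ▸ mul_mem hyE (inV P₁ (Or.inr e)))
    · exact Or.inr (second (v := 1) (by rwa [mul_one]) (one_mem Q) (Or.inl (Or.inl rfl)))
    · refine Or.inr (second (v := a 0 * a 1 * (a 2 * a 3)) ?_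
        (mul_mem (mul_mem (D.frame.mem 0) (D.frame.mem 1)) (mul_mem (D.frame.mem 2) (D.frame.mem 3)))
        (Or.inr (D.frame.cls_symm (D.frame.sum 4 0 1 2 3 (by decide)))))
      refine D.frame.cls_trans e ?_
      rw [← mul_assoc (a 0 * a 1) (a 0 * a 1)]
      refine D.frame.cls_symm (D.frame.cls_trans (D.cls_mul ((hm 0).mul_left (hm 1) |> fun h => h.mul_left h)
        (Or.inl rfl) (Or.inl rfl)) (D.frame.cls_trans (D.cls_mul (Commute.one_left z) ?_ (Or.inl rfl)) (Or.inl (one_mul _))))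
      rcases D.frame.x2.sq _ (mul_mem (D.frame.mem 0) (D.frame.mem 1)) with e' | e'
      · exact Or.inl e'
      · exact Or.inr (by rw [e', mul_one])
  -- elements stabilising the three involutions permute the two subgroups
  have himg : ∀ g : G, Stab3 z w g → ∀ t : G, (t = y ∨ t = y') →
      (Ey z t).map (MulAut.conj g).toMonoidHom = Ey z y ∨ (Ey z t).map (MulAut.conj g).toMonoidHom = Ey z y' := by
    intro g hg t ht
    obtain ⟨htO, P⟩ : Outer z Q t ∧ EProps z Q t w := by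
      rcases ht with rfl | rfl
      exacts [⟨⟨hy, hyy, hyQ⟩, P₁⟩, ⟨hy'O, P₂⟩]
    have h3 : ∀ v, (v = z ∨ v = w ∨ v = z * w) → v ∈ Ey z t ∧ v ∈ Q := fun v hv => hVmem P v (by
      rcases hv with rfl | rfl | rfl <;> simp [Vset])
    have hcz : ∀ v ∈ Ey z t, Commute (g * v * g⁻¹) z ∧ Commute (g * v * g⁻¹) w := by
      intro v hv
      have himz := hg z (Or.inl rfl)
      have himw := hg w (Or.inr (Or.inl rfl))
      have c1 : Commute (g * v * g⁻¹) (g * z * g⁻¹) := (Commute.conj_iff g).2 (P.comm v hv z (h3 z (Or.inl rfl)).1)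
      have c2 : Commute (g * v * g⁻¹) (g * w * g⁻¹) :=
        (Commute.conj_iff g).2 (P.comm v hv w (h3 w (Or.inr (Or.inl rfl))).1)
      have c3 : Commute (g * v * g⁻¹) (g * (z * w) * g⁻¹) :=
        (Commute.conj_iff g).2 (P.comm v hv _ (h3 _ (Or.inr (Or.inr rfl))).1)
      have hne : g * z * g⁻¹ ≠ g * w * g⁻¹ := fun e => hwz ((MulAut.conj g).injective e).symm
      have hmk : ∀ {u : G}, Commute u z → Commute u (z * w) → Commute u w := fun {u} h1 h2 => by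
        simpa [← mul_assoc, D.zz] using h1.mul_right h2
      have hmk' : ∀ {u : G}, Commute u w → Commute u (z * w) → Commute u z := fun {u} h1 h2 => by
        simpa [mul_assoc, hww] using h2.mul_right h1
      rcases himz with e | e | e <;> rcases himw with e' | e' | e' <;>
        first | exact absurd (e.trans e'.symm) hne | (rw [e] at c1; rw [e'] at c2; first
          | exact ⟨c1, c2⟩ | exact ⟨c2, c1⟩ | exact ⟨c1, hmk c1 c2⟩ | exact ⟨hmk' c1 c2, c1⟩
          | exact ⟨c2, hmk c2 c1⟩ | exact ⟨hmk' c2 c1, c2⟩)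
    set x := g * t * g⁻¹ with hx
    have htE : t ∈ Ey z t := mem_Ey.2 ⟨htO.1, Commute.refl t⟩
    have hxV : x ∉ Vset z w := by
      intro hxV
      have hginj := (MulAut.conj g).injective
      -- the preimage of the four-group is the four-group
      have h4 : ∀ v, v = 1 ∨ v = z ∨ v = w ∨ v = z * w → g * v * g⁻¹ ∈ Vset z w := by
        rintro v (rfl | hv)
        · simp [Vset]
        · rcases hg v hv with e | e | e <;> simp [Vset, e]
      let V4 : Finset G := {1, z, w, z * w}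
      have hsub : V4.image (fun v => g * v * g⁻¹) ⊆ V4 := fun v hv => by
        obtain ⟨u, hu, rfl⟩ := Finset.mem_image.1 hv
        have := h4 u (by simpa [V4] using hu)
        simpa [V4, Vset] using this
      have heq := Finset.eq_of_subset_of_card_le hsub (Finset.card_image_of_injective V4 hginj).ge
      have : x ∈ V4.image (fun v => g * v * g⁻¹) := by
        rw [heq]; simpa [V4, Vset] using hxV
      obtain ⟨v, hv, e⟩ := Finset.mem_image.1 this
      have htv : v = t := hginj e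
      exact htO.2.2 (htv ▸ (hVmem P v (by simpa [V4, Vset] using hv)).2)
    have hxx : x * x = 1 := by rw [hx, show g * t * g⁻¹ * (g * t * g⁻¹) = g * (t * t) * g⁻¹ by group, htO.2.1]; group
    obtain ⟨hxO, hxE⟩ := cover x hxx (hcz t htE).1 (hcz t htE).2 hxV
    have heq : (Ey z t).map (MulAut.conj g).toMonoidHom = Ey z x := by
      obtain ⟨wx, Px⟩ := D.Ey_props hxO
      refine eq_of_le_of_card_ge ?_ ?_
      · rintro _ ⟨v, hv, rfl⟩
        exact mem_Ey.2 ⟨mem_Cz.2 (hcz v hv).1, (Commute.conj_iff g).2 (P.comm v hv t htE)⟩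
      · rw [Px.card, Nat.card_congr ((Ey z t).equivMapOfInjective _ (MulAut.conj g).injective).toEquiv.symm, P.card]
    rw [heq]
    exact hxE
  have hodd : ∀ g : G, Stab3 z w g → Odd (orderOf g) → MapsTo' g (Ey z y) := by
    intro g hg ho v hv
    have := odd_two_point (Ey z y) (Ey z y') (fun E => E.map (MulAut.conj g).toMonoidHom)
      (Subgroup.map_injective (MulAut.conj g).injective) (himg g hg y (Or.inl rfl)) (himg g hg y' (Or.inr rfl)) ho (by
        have hit : ∀ n E, (fun E : Subgroup G => E.map (MulAut.conj g).toMonoidHom)^[n] E =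
            E.map (MulAut.conj (g ^ n)).toMonoidHom := by
          intro n E
          induction n with
          | zero => rw [pow_zero]; exact (Cfsg.Lib.InvolCalc.map_conj_one E).symm
          | succ n ih => rw [Function.iterate_succ_apply', ih, pow_succ', Cfsg.Lib.InvolCalc.map_conj_map]
        rw [hit, pow_orderOf_eq_one, Cfsg.Lib.InvolCalc.map_conj_one])
    exact this.le ⟨v, hv, rfl⟩
  -- the three-cycle on `z, w, zw`
  obtain ⟨n, hnw, hnz⟩ := H.exists_swap hwQ hww hw1 hwz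
  have hq0 : a 0 * w * (a 0)⁻¹ = z * w := D.frame.x2.not_commute_conj (D.frame.mem 0) hwQ fun e => by
    have := D.frame.anti 0 4 (by decide)
    rw [← hw, ← e.eq] at this
    exact D.frame.x2.ne (mul_eq_right.mp this.symm)
  have hq0z : a 0 * z * (a 0)⁻¹ = z := by rw [D.frame.z_ai, mul_inv_cancel_right]
  set g₃ := a 0 * n with hg₃
  have g1 : g₃ * z * g₃⁻¹ = w := by
    rw [hg₃, show a 0 * n * z * (a 0 * n)⁻¹ = a 0 * (n * z * n⁻¹) * (a 0)⁻¹ by group, hnz,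
      show a 0 * (z * w) * (a 0)⁻¹ = (a 0 * z * (a 0)⁻¹) * (a 0 * w * (a 0)⁻¹) by group, hq0z, hq0, ← mul_assoc, D.zz, one_mul]
  have g2 : g₃ * w * g₃⁻¹ = z * w := by
    rw [hg₃, show a 0 * n * w * (a 0 * n)⁻¹ = a 0 * (n * w * n⁻¹) * (a 0)⁻¹ by group, hnw, hq0]
  have g4 : g₃ * (z * w) * g₃⁻¹ = z := by
    rw [show g₃ * (z * w) * g₃⁻¹ = (g₃ * z * g₃⁻¹) * (g₃ * w * g₃⁻¹) by group, g1, g2, ← mul_assoc, ← hzw.eq, mul_assoc,
      hww, mul_one]
  have hgs : Stab3 z w g₃ := by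
    rintro v (rfl | rfl | rfl)
    exacts [Or.inr (Or.inl g1), Or.inr (Or.inr g2), Or.inl g4]
  obtain ⟨k, hk⟩ := exists_odd_pow g₃
  set h₀ := g₃ ^ 2 ^ k with hh₀
  have hh₀z : h₀ * z * h₀⁻¹ ≠ z := by
    intro e
    have h3 : g₃ ^ 3 * z * (g₃ ^ 3)⁻¹ = z := by
      rw [show g₃ ^ 3 * z * (g₃ ^ 3)⁻¹ = g₃ * (g₃ * (g₃ * z * g₃⁻¹) * g₃⁻¹) * g₃⁻¹ by simp [pow_succ, mul_assoc], g1, g2, g4]
    have h1 : g₃ ∈ Cz z := by
      obtain ⟨p, q, hpq⟩ := (Int.isCoprime_iff_gcd_eq_one.2 (by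
        exact_mod_cast ((Nat.coprime_primes Nat.prime_two Nat.prime_three).2 (by norm_num)).pow_left k) :
          IsCoprime ((2 : ℤ) ^ k) 3)
      have hA : g₃ ^ (2 ^ k : ℕ) ∈ Cz z := mem_Cz.2 (mul_inv_eq_iff_eq_mul.1 e)
      have hB : g₃ ^ 3 ∈ Cz z := mem_Cz.2 (mul_inv_eq_iff_eq_mul.1 h3)
      have h5 : g₃ = (g₃ ^ (2 ^ k : ℕ)) ^ p * (g₃ ^ 3) ^ q := by
        rw [← zpow_natCast g₃ (2 ^ k), ← zpow_natCast g₃ 3, ← zpow_mul, ← zpow_mul, ← zpow_add,
          show ((2 ^ k : ℕ) : ℤ) * p + ((3 : ℕ) : ℤ) * q = 1 by push_cast; rw [← hpq]; ring, zpow_one]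
      rw [h5]
      exact mul_mem (zpow_mem hA p) (zpow_mem hB q)
    exact hwz (g1.symm.trans (mul_inv_eq_iff_eq_mul.2 (mem_Cz.1 h1).eq))
  have hh₀s : Stab3 z w h₀ := hgs.pow _
  have hh₀E := hodd h₀ hh₀s hk
  -- rotate the cosets
  obtain ⟨c, hc⟩ := D.surj cyc3 (by decide +kernel)
  obtain ⟨k', hk'⟩ := exists_odd_pow (c : G)
  set ρ := (c : G) ^ 2 ^ k' with hρ
  have hρC : ρ ∈ Cz z := pow_mem c.2 _
  have hσρ : σ ⟨ρ, hρC⟩ = cyc3 ∨ σ ⟨ρ, hρC⟩ = cyc3 * cyc3 := by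
    rw [show (⟨ρ, hρC⟩ : Cz z) = c ^ 2 ^ k' from Subtype.ext (by simp [hρ]), map_pow, hc]
    have h3 : ∀ m : ℕ, cyc3 ^ m = cyc3 ^ (m % 3) := fun m => by
      conv_lhs => rw [← Nat.mod_add_div m 3, pow_add, pow_mul, (by decide +kernel : cyc3 ^ 3 = 1), one_pow, mul_one]
    rw [h3]
    have hne : 2 ^ k' % 3 ≠ 0 := fun e =>
      absurd (Nat.prime_three.dvd_of_dvd_pow (Nat.dvd_of_mod_eq_zero e)) (by norm_num)
    rcases (by omega : 2 ^ k' % 3 = 1 ∨ 2 ^ k' % 3 = 2) with e | e <;> rw [e]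
    · exact Or.inl (pow_one _)
    · exact Or.inr (pow_two _)
  have hρw : Commute ρ w := by
    have hfix : σ ⟨ρ, hρC⟩ 4 = 4 := by rcases hσρ with e | e <;> rw [e] <;> decide +kernel
    have h0 := D.act ⟨ρ, hρC⟩ 4
    rw [hfix] at h0
    change Cls z (ρ * w * ρ⁻¹) w at h0
    have hc2 : Commute (ρ ^ 2) w := by
      have e2 : ρ ^ 2 * w * (ρ ^ 2)⁻¹ = ρ * (ρ * w * ρ⁻¹) * ρ⁻¹ := by rw [pow_two]; group
      refine mul_inv_eq_iff_eq_mul.1 ?_
      rcases h0 with h0 | h0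
      · rw [e2, h0, h0]
      · rw [e2, h0, ← mul_assoc ρ z, (mem_Cz.1 hρC).eq, show z * ρ * w * ρ⁻¹ = z * (ρ * w * ρ⁻¹) by group, h0,
          ← mul_assoc, D.zz, one_mul]
    exact Cfsg.Lib.LargeExtra.commute_of_pow (n := 1) hk' (by simpa using hc2)
  have hρs : Stab3 z w ρ := by
    rintro v (rfl | rfl | rfl)
    · exact Or.inl (mul_inv_eq_iff_eq_mul.2 (mem_Cz.1 hρC).eq)
    · exact Or.inr (Or.inl (mul_inv_eq_iff_eq_mul.2 hρw.eq))
    · exact Or.inr (Or.inr (mul_inv_eq_iff_eq_mul.2 ((mem_Cz.1 hρC).mul_right hρw).eq))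
  have hρE := hodd ρ hρs hk'
  have hyE : y ∈ Ey z y := mem_Ey.2 ⟨hy, Commute.refl y⟩
  have hkey : ∀ {g : G}, Stab3 z w g → MapsTo' g (Ey z y) → g * y * g⁻¹ ∉ Q := by
    intro g hg hgE hQ'
    have hv := (P₁.inQ _).1 ⟨hgE y hyE, hQ'⟩
    rcases hv with e | e | e | e
    · exact hyQ (by rw [conj_eq_one_iff.1 e]; exact one_mem _)
    all_goals
      obtain ⟨v, hv', e'⟩ : ∃ v, (v = z ∨ v = w ∨ v = z * w) ∧ g * v * g⁻¹ = g * y * g⁻¹ := by
        rw [e]
        have hex : ∀ u, (u = z ∨ u = w ∨ u = z * w) → ∃ v, (v = z ∨ v = w ∨ v = z * w) ∧ g * v * g⁻¹ = u := by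
          intro u hu
          let T : Finset G := {z, w, z * w}
          have hsub : T.image (fun v => g * v * g⁻¹) ⊆ T := fun v hv => by
            obtain ⟨v', hv', rfl⟩ := Finset.mem_image.1 hv
            simpa [T] using hg v' (by simpa [T] using hv')
          have heq := Finset.eq_of_subset_of_card_le hsub
            (Finset.card_image_of_injective T (MulAut.conj g).injective).ge
          obtain ⟨v', hv', e'⟩ := Finset.mem_image.1 (heq.symm ▸ (show u ∈ T by simpa [T] using hu))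
          exact ⟨v', by simpa [T] using hv', e'⟩
        first
          | exact hex _ (Or.inl rfl)
          | exact hex _ (Or.inr (Or.inl rfl))
          | exact hex _ (Or.inr (Or.inr rfl))
      exact hyQ (((MulAut.conj g).injective e') ▸ (hVmem P₁ v (by rcases hv' with rfl | rfl | rfl <;> simp [Vset])).2)
  have hh₀Q := hkey hh₀s hh₀E
  have hh₀C : h₀ * y * h₀⁻¹ ∈ Cz z := (mem_Ey.1 (hh₀E y hyE)).1
  have hfour : σ ⟨h₀ * y * h₀⁻¹, hh₀C⟩ 4 = 4 := by
    refine D.frame.unique (q := (h₀ * y * h₀⁻¹) * w * (h₀ * y * h₀⁻¹)⁻¹) (D.act ⟨_, hh₀C⟩ 4) (Or.inl ?_)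
    rw [(P₁.comm _ (hh₀E y hyE) _ (hwE P₁)).eq, mul_inv_cancel_right]
  obtain ⟨i, hi⟩ := perm_rot _ _ hσρ (perm_outer_four _ (D.sign _)
    (D.sigma_inv_sq hh₀C (P₁.sq _ (hh₀E y hyE))) (fun e => hh₀Q ((D.ker _).1 e)) hfour)
  set g := ρ ^ (i : ℕ) * h₀ with hg
  have hρi : MapsTo' (ρ ^ (i : ℕ)) (Ey z y) := by
    intro v hv
    induction (i : ℕ) with
    | zero => simpa using hv
    | succ n ih =>
      rw [pow_succ', show ρ * ρ ^ n * v * (ρ * ρ ^ n)⁻¹ = ρ * (ρ ^ n * v * (ρ ^ n)⁻¹) * ρ⁻¹ by group]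
      exact hρE _ ih
  have hgE : MapsTo' g (Ey z y) := fun v hv => by
    rw [hg, show ρ ^ (i : ℕ) * h₀ * v * (ρ ^ (i : ℕ) * h₀)⁻¹ = ρ ^ (i : ℕ) * (h₀ * v * h₀⁻¹) * (ρ ^ (i : ℕ))⁻¹ by group]
    exact hρi _ (hh₀E v hv)
  have hgsT : Stab3 z w g := (hρs.pow _).mul hh₀s
  have hgz : g * z * g⁻¹ ≠ z := by
    intro e
    apply hh₀z
    rw [hg, show ρ ^ (i : ℕ) * h₀ * z * (ρ ^ (i : ℕ) * h₀)⁻¹ = ρ ^ (i : ℕ) * (h₀ * z * h₀⁻¹) * (ρ ^ (i : ℕ))⁻¹ by group] at e
    have := (mem_Cz.1 (pow_mem hρC (i : ℕ))).eq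
    refine (MulAut.conj (ρ ^ (i : ℕ))).injective ?_
    show ρ ^ (i : ℕ) * (h₀ * z * h₀⁻¹) * (ρ ^ (i : ℕ))⁻¹ = ρ ^ (i : ℕ) * z * (ρ ^ (i : ℕ))⁻¹
    rw [e, this, mul_inv_cancel_right]
  -- the coset of `y`
  have hgy : g * y * g⁻¹ * y ∈ Vset z w := by
    refine (P₁.inQ _).1 ⟨mul_mem (hgE y hyE) hyE, (D.ker ⟨_, mul_mem (mem_Ey.1 (hgE y hyE)).1 hy⟩).1 ?_⟩
    rw [show (⟨g * y * g⁻¹ * y, mul_mem (mem_Ey.1 (hgE y hyE)).1 hy⟩ : Cz z) =
      ⟨g * y * g⁻¹, (mem_Ey.1 (hgE y hyE)).1⟩ * ⟨y, hy⟩ from rfl, map_mul, hσy,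
      show (⟨g * y * g⁻¹, (mem_Ey.1 (hgE y hyE)).1⟩ : Cz z) =
        ⟨ρ ^ (i : ℕ), pow_mem hρC _⟩ * ⟨h₀ * y * h₀⁻¹, hh₀C⟩ * ⟨ρ ^ (i : ℕ), pow_mem hρC _⟩⁻¹ from
        Subtype.ext (by simp [hg, mul_assoc]), map_mul, map_mul, map_inv,
      show (⟨ρ ^ (i : ℕ), pow_mem hρC _⟩ : Cz z) = ⟨ρ, hρC⟩ ^ (i : ℕ) from Subtype.ext (by simp), map_pow, hi]
    decide +kernel
  -- the three part of `g`
  obtain ⟨e, m, hm, hord⟩ : ∃ e m : ℕ, ¬ 3 ∣ m ∧ orderOf g = 3 ^ e * m :=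
    Nat.exists_eq_pow_mul_and_not_dvd (orderOf_pos g).ne' 3 (by norm_num) |>.imp fun e ⟨m, h1, h2⟩ => ⟨m, h1, h2⟩
  set h := g ^ m with hh
  have hh3 : h ^ 3 ^ e = 1 := by rw [hh, ← pow_mul, mul_comm, ← hord, pow_orderOf_eq_one]
  have hhs : Stab3 z w h := hgsT.pow m
  have hhz : h * z * h⁻¹ ≠ z := by
    intro e'
    have h3 : g ^ 3 * z * (g ^ 3)⁻¹ = z := by
      have hg30 : g₃ ^ 3 * z * (g₃ ^ 3)⁻¹ = z := by
        rw [show g₃ ^ 3 * z * (g₃ ^ 3)⁻¹ = g₃ * (g₃ * (g₃ * z * g₃⁻¹) * g₃⁻¹) * g₃⁻¹ by simp [pow_succ, mul_assoc], g1, g2, g4]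
      -- `g` permutes `z`, `w`, `zw` as `h₀` does
      have hact : ∀ v, (v = z ∨ v = w ∨ v = z * w) → g * v * g⁻¹ = h₀ * v * h₀⁻¹ := fun v hv => by
        rw [hg, show ρ ^ (i : ℕ) * h₀ * v * (ρ ^ (i : ℕ) * h₀)⁻¹ = ρ ^ (i : ℕ) * (h₀ * v * h₀⁻¹) * (ρ ^ (i : ℕ))⁻¹ by group]
        refine mul_inv_eq_iff_eq_mul.2 (Commute.pow_left ?_ _).eq
        rcases hh₀s v hv with e | e | e <;> rw [e]
        exacts [mem_Cz.1 hρC, hρw, (mem_Cz.1 hρC).mul_right hρw]
      have m1 := hh₀s z (Or.inl rfl)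
      have m2 := hh₀s _ m1
      rw [show g ^ 3 * z * (g ^ 3)⁻¹ = g * (g * (g * z * g⁻¹) * g⁻¹) * g⁻¹ by simp [pow_succ, mul_assoc], hact z (Or.inl rfl), hact _ m1,
        hact _ m2, show h₀ * (h₀ * (h₀ * z * h₀⁻¹) * h₀⁻¹) * h₀⁻¹ = h₀ ^ 3 * z * (h₀ ^ 3)⁻¹ by simp [pow_succ, mul_assoc], hh₀, ← pow_mul,
        mul_comm, pow_mul]
      exact mul_inv_eq_iff_eq_mul.2 (Commute.pow_left (mul_inv_eq_iff_eq_mul.1 hg30 : Commute (g₃ ^ 3) z) _).eq
    apply hgz
    obtain ⟨p, q, hpq⟩ := (Int.isCoprime_iff_gcd_eq_one.2 (by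
      exact_mod_cast (Nat.prime_three.coprime_iff_not_dvd.2 hm).symm) : IsCoprime (m : ℤ) 3)
    have hA : g ^ m ∈ Cz z := mem_Cz.2 (mul_inv_eq_iff_eq_mul.1 e')
    have hB : g ^ 3 ∈ Cz z := mem_Cz.2 (mul_inv_eq_iff_eq_mul.1 h3)
    have h5 : g = (g ^ m) ^ p * (g ^ 3) ^ q := by
      rw [← zpow_natCast g m, ← zpow_natCast g 3, ← zpow_mul, ← zpow_mul, ← zpow_add,
        show (m : ℤ) * p + ((3 : ℕ) : ℤ) * q = 1 by push_cast; rw [← hpq]; ring, zpow_one]
    have : g ∈ Cz z := by rw [h5]; exact mul_mem (zpow_mem hA p) (zpow_mem hB q)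
    exact mul_inv_eq_iff_eq_mul.2 (mem_Cz.1 this).eq
  have hhE : MapsTo' h (Ey z y) := by
    intro v hv
    rw [hh]
    clear hh3 hhz hhs hord hm hh
    induction m with
    | zero => simpa using hv
    | succ n ih =>
      rw [pow_succ', show g * g ^ n * v * (g * g ^ n)⁻¹ = g * (g ^ n * v * (g ^ n)⁻¹) * g⁻¹ by group]
      exact hgE _ ih
  -- fixed point in the coset
  let T := {x : G // x * y ∈ Vset z w}
  letI : Fintype T := Fintype.ofFinite T
  have hVg : ∀ g : G, Stab3 z w g → ∀ v ∈ Vset z w, g * v * g⁻¹ ∈ Vset z w := fun g hg v hv => by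
    rcases hv with rfl | hv
    · simp [Vset]
    · rcases hg v hv with e | e | e <;> simp [Vset, e]
  have hVmul : ∀ u ∈ Vset z w, ∀ v ∈ Vset z w, u * v ∈ Vset z w := fun u hu v hv =>
    (P₁.inQ _).1 ⟨mul_mem (hVmem P₁ u hu).1 (hVmem P₁ v hv).1, mul_mem (hVmem P₁ u hu).2 (hVmem P₁ v hv).2⟩
  have hTh : ∀ g : G, Stab3 z w g → g * y * g⁻¹ * y ∈ Vset z w → ∀ x : G, x * y ∈ Vset z w → g * x * g⁻¹ * y ∈ Vset z w := by
    intro g hg hgy x hx
    rw [show g * x * g⁻¹ * y = g * (x * y) * g⁻¹ * (g * y⁻¹ * g⁻¹ * y) by group, inv_eq_of_mul_eq_one_right hyy]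
    exact hVmul _ (hVg g hg _ hx) _ hgy
  have hhy : h * y * h⁻¹ * y ∈ Vset z w := by
    rw [hh]
    clear hh3 hhz hhs hord hm hhE hh
    induction m with
    | zero => simp [Vset, hyy]
    | succ n ih =>
      rw [pow_succ', show g * g ^ n * y * (g * g ^ n)⁻¹ * y = g * (g ^ n * y * (g ^ n)⁻¹) * g⁻¹ * y by group]
      exact hTh g hgsT hgy _ ih
  let π : T → T := fun x => ⟨h * x.1 * h⁻¹, hTh h hhs hhy x.1 x.2⟩
  have hπinj : Function.Injective π := fun x x' e =>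
    Subtype.ext ((MulAut.conj h).injective (congrArg Subtype.val e))
  let πp : Equiv.Perm T := Equiv.ofBijective π (Finite.injective_iff_bijective.1 hπinj)
  have hπpow : ∀ n x, ((πp ^ n) x : T).1 = h ^ n * x.1 * (h ^ n)⁻¹ := fun n x => by
    induction n with
    | zero => simp
    | succ n ih =>
      rw [pow_succ', Equiv.Perm.mul_apply, pow_succ']
      show h * ((πp ^ n) x).1 * h⁻¹ = _
      rw [ih]; group
  let πe : Function.End T := fun x => π x
  have hπ3 : πe ^ 3 ^ e = 1 := by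
    let φ : Equiv.Perm T →* Function.End T :=
      { toFun := fun σ => (σ : T → T), map_one' := rfl, map_mul' := fun _ _ => rfl }
    rw [show πe = φ πp from rfl, ← map_pow,
      show πp ^ 3 ^ e = 1 from Equiv.ext fun x => Subtype.ext (by rw [hπpow, hh3]; simp), map_one]
  have hmod := Equiv.Perm.card_fixedPoints_modEq (p := 3) (n := e) hπ3
  have hT4 : Fintype.card T = 4 := by
    have h4 : ({1, z, w, z * w} : Finset G).card = 4 := by
      rw [Finset.card_insert_of_notMem (by simp [D.frame.x2.ne.symm, hw1.symm, ]; intro e; exact hwz (by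
            rw [eq_inv_of_mul_eq_one_right e.symm, D.frame.x2.inv_z])),
        Finset.card_insert_of_notMem (by simp [hwz.symm, hw1]),
        Finset.card_pair (fun e => D.frame.x2.ne (mul_eq_right.mp e.symm))]
    rw [← h4, ← Fintype.card_coe]
    exact Fintype.card_congr
      { toFun := fun x => ⟨x.1 * y, by simpa [Vset] using x.2⟩
        invFun := fun v => ⟨v.1 * y, by
          have hv := v.2
          simp only [Finset.mem_insert, Finset.mem_singleton] at hv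
          rw [mul_assoc, hyy, mul_one]
          simp only [Vset, Set.mem_insert_iff, Set.mem_singleton_iff]
          exact hv⟩
        left_inv := fun x => Subtype.ext (by show x.1 * y * y = x.1; rw [mul_assoc, hyy, mul_one])
        right_inv := fun v => Subtype.ext (by show v.1 * y * y = v.1; rw [mul_assoc, hyy, mul_one]) }
  obtain ⟨⟨t, ht⟩, hfix⟩ : ∃ x : T, π x = x := by
    by_contra hno
    push Not at hno
    haveI : IsEmpty (Function.fixedPoints πe) := ⟨fun x => hno x.1 x.2⟩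
    rw [Fintype.card_eq_zero (α := Function.fixedPoints πe), hT4] at hmod
    exact absurd hmod (by decide)
  have htE : t ∈ Ey z y := by
    have := mul_mem (hVmem P₁ _ ht).1 hyE
    rwa [mul_assoc, hyy, mul_one] at this
  have htQ : t ∉ Q := fun hQ' => hyQ (by
    have := mul_mem (inv_mem hQ') (hVmem P₁ _ ht).2
    rwa [inv_mul_cancel_left] at this)
  have htO : Outer z Q t := ⟨(mem_Ey.1 htE).1, P₁.sq t htE, htQ⟩
  have hEeq := heqE P₁ htE htO
  exact ⟨t, w, h, htO, {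
    props := ⟨P₁.wQ, P₁.ww, P₁.w1, P₁.wz, hEeq ▸ P₁.card, hEeq ▸ P₁.sq, hEeq ▸ P₁.comm, hEeq ▸ P₁.inQ⟩
    comm := mul_inv_eq_iff_eq_mul.1 (congrArg Subtype.val hfix)
    stab := hhs
    move := hhz
    three := ⟨e, hh3⟩
    maps := hEeq ▸ hhE }⟩

end Hyp

end Cfsg.Lib.HallJankoType
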