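import Cfsg.Agent.LocalThree.HallJankoType.Fusion
import Cfsg.Agent.LocalThree.HallJankoType.OrderFormula

/-!
The number of pairs of involutions, one from each class, whose dihedral group has central involution `z`.
-/

set_option autoImplicit false
set_option linter.unusedSectionVars false

namespace Cfsg.Lib.HallJankoType

open Subgroup Equiv

variable {G : Type*} [Group G] [Finite G] {z : G} {Q : Subgroup G} {a : Fin 5 → G} {σ : Cz z →* Perm (Fin 5)}

theorem moved_four : ∀ π : Perm (Fin 5), Perm.sign π = 1 → π * π = 1 → π ≠ 1 →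
    (Finset.univ.filter fun i => π i ≠ i).card = 4 := by decide +kernel

theorem sixty : Nat.card (alternatingGroup (Fin 5)) = 60 := by
  rw [Nat.card_eq_fintype_card]; decide +kernel

namespace Data

variable (D : Data z Q a σ)
include D

theorem card_Cz : Nat.card (Cz z) = 1920 := by
  have hker : σ.ker = Q.subgroupOf (Cz z) := by
    ext c
    rw [MonoidHom.mem_ker, D.ker, mem_subgroupOf]
  have hr : σ.range = alternatingGroup (Fin 5) := by
    ext π
    rw [MonoidHom.mem_range, Equiv.Perm.mem_alternatingGroup]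
    exact ⟨fun ⟨c, e⟩ => e ▸ D.sign c, D.surj π⟩
  rw [card_eq_card_quotient_mul_card_subgroup σ.ker, Nat.card_congr (QuotientGroup.quotientKerEquivRange σ).toEquiv,
    hr, hker, sixty, Nat.card_congr (subgroupOfEquivOfLe D.le).toEquiv, D.frame.card]

theorem card_outer {y₀ : G} (hy₀ : Outer z Q y₀) : Nat.card {y // Outer z Q y} = 120 := by
  obtain ⟨w, P⟩ := D.Ey_props hy₀
  have e1 : {x : Cz z // IsConj (⟨y₀, hy₀.1⟩ : Cz z) x} ≃ {y // Outer z Q y} :=
    { toFun := fun x => ⟨x.1.1, by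
        obtain ⟨c, hc⟩ := isConj_iff.1 x.2
        rw [← hc]
        exact D.outer_conj' hy₀ c.2⟩
      invFun := fun y => ⟨⟨y.1, y.2.1⟩, by
        obtain ⟨c, hc, e⟩ := D.outer_conj hy₀ y.2
        exact isConj_iff.2 ⟨⟨c, hc⟩, Subtype.ext e⟩⟩
      left_inv := fun x => rfl
      right_inv := fun y => rfl }
  have e2 : (centralizer ({(⟨y₀, hy₀.1⟩ : Cz z)} : Set (Cz z))) ≃ Ey z y₀ :=
    { toFun := fun c => ⟨c.1.1, mem_Ey.2 ⟨c.1.2, congrArg Subtype.val (mem_centralizer_singleton_iff.1 c.2)⟩⟩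
      invFun := fun c => ⟨⟨c.1, (mem_Ey.1 c.2).1⟩, mem_centralizer_singleton_iff.2 (Subtype.ext (mem_Ey.1 c.2).2.eq)⟩
      left_inv := fun c => rfl
      right_inv := fun c => rfl }
  have h := card_class_mul (⟨y₀, hy₀.1⟩ : Cz z)
  rw [Nat.card_congr e1, Nat.card_congr e2, P.card, D.card_Cz] at h
  omega

theorem commute_iff_fixed {y : G} (hy : Outer z Q y) {i : Fin 5} : Commute y (a i) ↔ σ ⟨y, hy.1⟩ i = i := by
  refine ⟨fun h => ?_, fun h => D.fixed_commute hy.1 hy.2.1 hy.2.2 h⟩
  exact D.frame.unique (q := y * a i * y⁻¹) (D.act ⟨y, hy.1⟩ i) (Or.inl (by rw [h.eq, mul_inv_cancel_right]))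

theorem commute_cls {y q : G} (hy : Commute y z) {i : Fin 5} (hq : Cls z q (a i)) : Commute y q ↔ Commute y (a i) := by
  rcases hq with rfl | rfl
  · exact Iff.rfl
  · exact ⟨fun h => by simpa [← mul_assoc, D.zz] using hy.mul_right h, fun h => hy.mul_right h⟩

theorem card_moved {y : G} (hy : Outer z Q y) :
    Nat.card {x // (x ∈ Q ∧ x * x = 1) ∧ ¬ Commute y x} = 8 := by
  classical
  let T := {i : Fin 5 // σ ⟨y, hy.1⟩ i ≠ i}
  let f : T × Bool → {x // (x ∈ Q ∧ x * x = 1) ∧ ¬ Commute y x} := fun p =>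
    ⟨if p.2 then z * a p.1.1 else a p.1.1, by
      have hc : Cls z (if p.2 then z * a p.1.1 else a p.1.1) (a p.1.1) := by
        cases p.2 <;> simp [Cls]
      refine ⟨⟨(D.frame.pt_invol hc).1, (D.frame.pt_invol hc).2.1⟩, fun h => p.1.2 ?_⟩
      exact (D.commute_iff_fixed hy).1 ((D.commute_cls (D.commC hy.1) hc).1 h)⟩
  have hf : Function.Bijective f := by
    constructor
    · rintro ⟨i, b⟩ ⟨j, b'⟩ h
      have h' : (if b then z * a i.1 else a i.1) = if b' then z * a j.1 else a j.1 := congrArg Subtype.val h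
      have hi : Cls z (if b then z * a i.1 else a i.1) (a i.1) := by cases b <;> simp [Cls]
      have hj : Cls z (if b' then z * a j.1 else a j.1) (a j.1) := by cases b' <;> simp [Cls]
      have hij : i = j := Subtype.ext (D.frame.unique hi (h' ▸ hj))
      subst hij
      cases b <;> cases b' <;> simp_all [D.frame.x2.ne]
    · rintro ⟨x, ⟨hxQ, hxx⟩, hxy⟩
      rcases D.frame.pts x hxQ hxx with e | ⟨i, e⟩
      · exfalso
        rcases e with rfl | rfl
        · exact hxy (Commute.one_right y)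
        · exact hxy (by rw [mul_one]; exact D.commC hy.1)
      · have hi : σ ⟨y, hy.1⟩ i ≠ i := fun h =>
          hxy ((D.commute_cls (D.commC hy.1) e).2 ((D.commute_iff_fixed hy).2 h))
        rcases e with rfl | rfl
        · exact ⟨⟨⟨i, hi⟩, false⟩, Subtype.ext (by simp [f])⟩
        · exact ⟨⟨⟨i, hi⟩, true⟩, Subtype.ext (by simp [f])⟩
  rw [← Nat.card_congr (Equiv.ofBijective f hf), Nat.card_prod, Nat.card_eq_fintype_card, Fintype.card_subtype,
    moved_four _ (D.sign _) (D.sigma_inv_sq hy.1 hy.2.1) (fun e => hy.2.2 ((D.ker _).1 e))]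
  simp

end Data

namespace Hyp

variable (H : Hyp z Q a σ)
include H

theorem pairSet_z {t : G} (ht : Outer z Q t) (x y : G) :
    (x, y) ∈ PairSet z t z ↔ Outer z Q y ∧ (x ∈ Q ∧ x * x = 1) ∧ ¬ Commute y x := by
  have D := H.data
  have ot : orderOf t = 2 :=
    Cfsg.Lib.InvolCalc.order_two_of_mul_self ht.2.1 fun e => ht.2.2 (e ▸ one_mem Q)
  constructor
  · rintro ⟨hx, hy, hu⟩
    have ox := order_two_of_conj H.oz hx
    have oy := order_two_of_conj ot hy
    have hzt := H.outer_not_conj ht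
    have he := even_of_not_conj ox oy fun e => hzt ((hx.trans e).trans hy.symm)
    obtain ⟨-, hux, huy⟩ := Cfsg.Lib.InvolCalc.central_spec ox oy he
    have hu' : (x * y) ^ (orderOf (x * y) / 2) = z := hu
    rw [hu'] at hux huy
    have hxC : x ∈ Cz z := mem_Cz.2 hux.symm
    have hxQ := H.mem_Q_of_conj hxC hx
    have hxx := Cfsg.Lib.InvolCalc.sq_of_order_two ox
    have hyO : Outer z Q y := (H.outer_iff (mem_Cz.2 huy.symm) oy).2 fun e => hzt (e.trans hy.symm)
    refine ⟨hyO, ⟨hxQ, hxx⟩, fun hc => hyO.2.2 ?_⟩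
    have h2 : (x * y) * (x * y) = 1 := by
      rw [show x * y * (x * y) = x * (y * x) * y by group, hc.eq, show x * (x * y) * y = (x * x) * (y * y) by group,
        hxx, hyO.2.1, one_mul]
    have hne : x * y ≠ 1 := fun e => hyO.2.2 (by
      rw [eq_inv_of_mul_eq_one_right e]; exact inv_mem hxQ)
    rw [Cfsg.Lib.InvolCalc.order_two_of_mul_self h2 hne, pow_one] at hu'
    rw [show y = x⁻¹ * z by rw [← hu', inv_mul_cancel_left]]
    exact mul_mem (inv_mem hxQ) D.frame.x2.mem
  · rintro ⟨hyO, ⟨hxQ, hxx⟩, hnc⟩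
    have hx1 : x ≠ 1 := fun e => hnc (e ▸ Commute.one_right y)
    obtain ⟨c, -, hc⟩ := D.outer_conj ht hyO
    refine ⟨H.pts_conj hxQ hxx hx1, isConj_iff.2 ⟨c, hc⟩, ?_⟩
    -- the square of `x y` lies in `Q`, so the fourth or eighth power is the involution `z`
    show (x * y) ^ (orderOf (x * y) / 2) = z
    set q := x * (y * x * y⁻¹) with hq
    have hinv := inv_eq_of_mul_eq_one_right hyO.2.1
    have hq2 : (x * y) ^ 2 = q := by rw [hq, hinv, pow_two]; simp [mul_assoc]
    have hqQ : q ∈ Q := mul_mem hxQ (D.norm y hyO.1 x hxQ)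
    have hq1 : q ≠ 1 := fun e => hnc (by
      have h1 := eq_inv_of_mul_eq_one_right e
      rw [inv_eq_of_mul_eq_one_right hxx] at h1
      exact mul_inv_eq_iff_eq_mul.1 h1)
    have hne : x * y ≠ 1 := fun e => hq1 (by rw [← hq2, e, one_pow])
    have main : ∀ n : ℕ, (x * y) ^ 2 ^ n = z → (x * y) ^ (orderOf (x * y) / 2) = z := by
      intro n hn
      have hord : orderOf (x * y) = 2 ^ (n + 1) :=
        haveI : Fact (Nat.Prime 2) := ⟨Nat.prime_two⟩
        orderOf_eq_prime_pow (by rw [hn]; exact D.frame.x2.ne) (by rw [pow_succ, pow_mul, hn, pow_two, D.zz])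
      rw [hord, pow_succ, Nat.mul_div_cancel _ two_pos, hn]
    rcases D.frame.x2.sq q hqQ with e | e
    · -- `q` is an involution
      by_cases hqz : q = z
      · exact main 1 (by rw [pow_one, hq2, hqz])
      · exfalso
        obtain ⟨i, hi⟩ : ∃ i, Cls z x (a i) := (D.frame.pts x hxQ hxx).resolve_left fun e => by
          rcases e with e | e
          · exact hx1 e
          · exact hnc (e ▸ (by rw [mul_one]; exact D.commC hyO.1))
        have hi' : Cls z (y * x * y⁻¹) (a (σ ⟨y, hyO.1⟩ i)) :=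
          D.frame.cls_trans (D.cls_conj hyO.1 hi) (D.act ⟨y, hyO.1⟩ i)
        have hne' : σ ⟨y, hyO.1⟩ i ≠ i := fun h =>
          hnc ((D.commute_cls (D.commC hyO.1) hi).2 ((D.commute_iff_fixed hyO).2 h))
        -- two different singular points do not commute
        have hc : Commute x (y * x * y⁻¹) := by
          have hb : y * x * y⁻¹ * (y * x * y⁻¹) = 1 := by
            rw [show y * x * y⁻¹ * (y * x * y⁻¹) = y * (x * x) * y⁻¹ by group, hxx]; group
          have h1 : x * (y * x * y⁻¹) = (x * (y * x * y⁻¹))⁻¹ := eq_inv_of_mul_eq_one_left e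
          rw [mul_inv_rev, inv_eq_of_mul_eq_one_right hb, inv_eq_of_mul_eq_one_right hxx] at h1
          exact h1
        have hcz : ∀ {u v : G} {j : Fin 5}, Commute u z → Cls z v (a j) → Commute u v → Commute u (a j) :=
          fun hu hv huv => (D.commute_cls hu hv).1 huv
        have h2 : Commute x (a (σ ⟨y, hyO.1⟩ i)) := hcz (D.commQ hxQ).symm hi' hc
        have h3 : Commute (a (σ ⟨y, hyO.1⟩ i)) (a i) := hcz (D.commQ (D.frame.mem _)).symm hi h2.symm
        have := D.frame.anti (σ ⟨y, hyO.1⟩ i) i hne'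
        rw [h3.eq] at this
        exact D.frame.x2.ne (mul_eq_right.mp this.symm)
    · exact main 2 (by rw [show (2 : ℕ) ^ 2 = 2 * 2 from rfl, pow_mul, hq2, pow_two, e])

theorem card_pairSet_z {t : G} (ht : Outer z Q t) : Nat.card (PairSet z t z) = 960 := by
  classical
  letI := Fintype.ofFinite {y // Outer z Q y}
  let e : PairSet z t z ≃ Σ y : {y // Outer z Q y}, {x // (x ∈ Q ∧ x * x = 1) ∧ ¬ Commute y.1 x} :=
    { toFun := fun p => ⟨⟨p.1.2, ((H.pairSet_z ht _ _).1 p.2).1⟩, ⟨p.1.1, ((H.pairSet_z ht _ _).1 p.2).2⟩⟩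
      invFun := fun p => ⟨(p.2.1, p.1.1), (H.pairSet_z ht _ _).2 ⟨p.1.2, p.2.2⟩⟩
      left_inv := fun p => rfl
      right_inv := fun p => rfl }
  rw [Nat.card_congr e, Nat.card_sigma, Finset.sum_congr rfl fun y _ => H.data.card_moved y.2, Finset.sum_const,
    Finset.card_univ, ← Nat.card_eq_fintype_card, H.data.card_outer ht]
  rfl

end Hyp

end Cfsg.Lib.HallJankoType
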