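import Cfsg.Agent.LocalThree.HallJankoType.CentralizerT
import Cfsg.Agent.LocalThree.HallJankoType.AltFive
import Cfsg.Agent.LocalThree.HallJankoType.PairCount

/-!
The pairs with central involution `t` and the two possible group orders.
-/

set_option autoImplicit false
set_option linter.unusedSectionVars false
set_option linter.style.haveILetI false

namespace Cfsg.Lib.HallJankoType

open Subgroup Equiv

variable {G : Type*} [Group G] [Finite G] {z : G} {Q : Subgroup G} {a : Fin 5 → G} {σ : Cz z →* Perm (Fin 5)}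

/-- `C(t)` is `W` times a group of order twelve or `A₅` -/
def Shape (z w : G) (K : Subgroup G) : Prop :=
  (Nat.card K = 12 ∧ ∀ x ∈ K, x * x = 1 → x ∈ Vset z w) ∨ Nonempty (K ≃* alternatingGroup (Fin 5))

namespace TData

variable {t w h : G} {K W : Subgroup G} (S : TData z Q t w h K W)
include S

theorem vmem {v : G} (hv : v ∈ Vset z w) : v ∈ Ey z t ∧ v ∈ K :=
  have h := ((S.tri.props.inQ v).2 hv).1
  ⟨h, (S.KE v h).2 hv⟩

theorem commVW {v : G} (hv : v ∈ Vset z w) {u : G} (hu : u ∈ W) : Commute u v :=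
  S.tri.props.comm _ (S.Wle hu) _ (S.vmem hv).1

/-- the four-group inside `K` -/
theorem shape_normal (hz1 : z ≠ 1) : (Nat.card K = 12 ∧ (((Ey z t).subgroupOf K).Normal)) ∨
    Nonempty (K ≃* alternatingGroup (Fin 5)) := by
  have hm := S.tri.props
  have hzK : z ∈ K := (S.vmem (by simp [Vset])).2
  have hwK : w ∈ K := (S.vmem (by simp [Vset])).2
  have hV : ∀ v : K, v ∈ (Ey z t).subgroupOf K ↔ v = 1 ∨ v = ⟨z, hzK⟩ ∨ v = ⟨w, hwK⟩ ∨ v = ⟨z, hzK⟩ * ⟨w, hwK⟩ := by
    intro v
    rw [mem_subgroupOf]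
    constructor
    · intro hv
      rcases (S.KE _ hv).1 v.2 with e | e | e | e
      · exact Or.inl (Subtype.ext e)
      · exact Or.inr (Or.inl (Subtype.ext e))
      · exact Or.inr (Or.inr (Or.inl (Subtype.ext e)))
      · exact Or.inr (Or.inr (Or.inr (Subtype.ext e)))
    · rintro (rfl | rfl | rfl | rfl) <;> exact (S.vmem (by simp [Vset])).1
  have h4 : Nat.card ((Ey z t).subgroupOf K) = 4 := by
    classical
    let F : Finset K := {1, ⟨z, hzK⟩, ⟨w, hwK⟩, ⟨z, hzK⟩ * ⟨w, hwK⟩}
    have hF : F.card = 4 := by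
      rw [Finset.card_insert_of_notMem (by
          simp only [Finset.mem_insert, Finset.mem_singleton, not_or]
          exact ⟨fun e => hz1 (congrArg Subtype.val e).symm, fun e => hm.w1 (congrArg Subtype.val e).symm,
            fun e => hm.wz (by
              have e' : z * w = 1 := (congrArg Subtype.val e).symm
              rw [eq_inv_of_mul_eq_one_left e', inv_eq_of_mul_eq_one_right hm.ww])⟩),
        Finset.card_insert_of_notMem (by
          simp only [Finset.mem_insert, Finset.mem_singleton, not_or]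
          exact ⟨fun e => hm.wz (congrArg Subtype.val e).symm,
            fun e => hm.w1 (mul_eq_left.mp (congrArg Subtype.val e).symm)⟩),
        Finset.card_pair (fun e => hz1 (mul_eq_right.mp (congrArg Subtype.val e).symm))]
    rw [← hF, ← Fintype.card_coe, ← Nat.card_eq_fintype_card]
    exact Nat.card_congr (Equiv.subtypeEquivRight fun v => by
      rw [hV]; simp [F])
  refine self_central_four hV h4 (fun v hv => Subtype.ext (hm.sq _ hv)) ?_ ?_ (h := ⟨h, S.hK⟩)
    (Subtype.ext S.tri.hz) (Subtype.ext S.tri.hw) (Subtype.ext S.tri.hzw) (Subtype.ext S.tri.three)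
  · obtain ⟨m, hm', hc⟩ := S.four
    have h1 := ((Ey z t).subgroupOf K).card_mul_index
    rw [h4, hc, Nat.mul_left_cancel_iff (by norm_num)] at h1
    rw [h1]
    exact fun h2 => Nat.not_even_iff_odd.2 hm' (even_iff_two_dvd.2 h2)
  · intro v hv hv1 x hc
    rw [hV] at hv
    refine mem_subgroupOf.2 (S.cent _ (S.le x.2) v ?_ (congrArg Subtype.val hc.eq))
    rcases hv with rfl | rfl | rfl | rfl
    · exact absurd rfl hv1
    · exact Or.inl rfl
    · exact Or.inr (Or.inl rfl)
    · exact Or.inr (Or.inr rfl)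

theorem invol_conj {x : G} (hx : x ∈ K) (hxx : x * x = 1) :
    ∃ g ∈ Cz t, g * x * g⁻¹ ∈ Vset z w := by
  obtain ⟨g, hg, he⟩ := S.invol x (S.le hx) hxx
  exact ⟨g, hg, (S.KE _ he).1 (S.norm g hg x hx)⟩

theorem shape (hz1 : z ≠ 1) : Shape z w K := by
  rcases S.shape_normal hz1 with ⟨h12, hn⟩ | h
  · refine Or.inl ⟨h12, fun x hx hxx => ?_⟩
    obtain ⟨g, hg, hv⟩ := S.invol_conj hx hxx
    obtain ⟨k, hk, u, hu, rfl⟩ := S.decomp g hg
    have hkV : u * x * u⁻¹ ∈ Vset z w := by
      have huX : u ∈ Cz t := (mem_inf.1 (S.Wle hu)).2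
      have h1 : (⟨u * x * u⁻¹, S.norm u huX x hx⟩ : K) ∈ (Ey z t).subgroupOf K := by
        have := hn.conj_mem (⟨k * u * x * (k * u)⁻¹, S.norm _ hg x hx⟩ : K) (mem_subgroupOf.2 (S.vmem hv).1) ⟨k, hk⟩⁻¹
        convert this using 1
        exact Subtype.ext (by simp [mul_assoc])
      exact (S.KE _ (mem_subgroupOf.1 h1)).1 (S.norm u huX x hx)
    have := S.commVW hkV hu
    rwa [show x = u * x * u⁻¹ from (mul_left_cancel (this.eq.trans (show u * x * u⁻¹ * u = u * x by group))).symm]
  · exact Or.inr h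

theorem commute_W (hz1 : z ≠ 1) {u k : G} (hu : u ∈ W) (hk : k ∈ K) : Commute u k := by
  have hm := S.tri.props
  rcases S.shape_normal hz1 with ⟨h12, hn⟩ | ⟨⟨e⟩⟩
  · -- `K` is the four-group extended by `h`
    have hle : K ≤ centralizer ({u} : Set G) := by
      classical
      let V : Subgroup K := (Ey z t).subgroupOf K
      let L : Subgroup K := (centralizer ({u} : Set G)).subgroupOf K
      suffices h : L = ⊤ from subgroupOf_eq_top.1 h
      have hVL : V ≤ L := fun v hv => mem_subgroupOf.2 (mem_centralizer_singleton_iff.2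
        (hm.comm _ (mem_subgroupOf.1 hv) _ (S.Wle hu)).eq)
      have hhL : (⟨h, S.hK⟩ : K) ∈ L := mem_subgroupOf.2 (mem_centralizer_singleton_iff.2 (S.Wfix u hu).eq)
      have hhV : (⟨h, S.hK⟩ : K) ∉ V := fun hh => hm.wz (by
        have := (hm.comm _ (mem_subgroupOf.1 hh) _ (S.vmem (v := z) (by simp [Vset])).1).eq
        rw [← S.tri.hz, this, mul_inv_cancel_right])
      have h4 : 4 ∣ Nat.card L := by
        have hc : Nat.card V = 4 := by
          have h1 := card_eq_card_quotient_mul_card_subgroup V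
          obtain ⟨m, hmo, hc⟩ := S.four
          have hd : Nat.card V ∣ 12 := h12 ▸ card_subgroup_dvd_card V
          have hd2 : Nat.card V ∣ 16 := by
            rw [← hm.card]
            exact card_dvd_of_injective ((K.subtype.comp V.subtype).codRestrict (Ey z t) fun v => mem_subgroupOf.1 v.2)
              (fun a b e => Subtype.ext (Subtype.ext (show ((a : K) : G) = ((b : K) : G) from congrArg (fun y : Ey z t => (y : G)) e)))
          have hd4 : Nat.card V ∣ 4 := by
            simpa using Nat.dvd_gcd hd hd2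
          refine le_antisymm (Nat.le_of_dvd (by norm_num) hd4) ?_
          let F : Finset K := {1, ⟨z, (S.vmem (by simp [Vset])).2⟩, ⟨w, (S.vmem (by simp [Vset])).2⟩}
          have hF : F.card = 3 := by
            rw [Finset.card_insert_of_notMem (by
                simp only [Finset.mem_insert, Finset.mem_singleton, not_or]
                exact ⟨fun e => hz1 (congrArg Subtype.val e).symm, fun e => hm.w1 (congrArg Subtype.val e).symm⟩),
              Finset.card_pair (fun e => hm.wz (congrArg Subtype.val e).symm)]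
          have : 3 ≤ Nat.card V := by
            rw [← hF, ← Fintype.card_coe, ← Nat.card_eq_fintype_card]
            refine Nat.card_le_card_of_injective (fun v => ⟨v.1, ?_⟩) fun a b h => Subtype.ext (congrArg (fun y : V => (y : K)) h)
            have hv := v.2
            simp only [F, Finset.mem_insert, Finset.mem_singleton] at hv
            rcases hv with r | r | r <;> rw [r] <;> exact mem_subgroupOf.2 (S.vmem (by simp [Vset])).1
          have := Nat.le_of_dvd (by norm_num) hd4
          have hne : Nat.card V ≠ 3 := fun h3 => by rw [h3] at hd4; norm_num at hd4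
          omega
        exact hc ▸ card_dvd_of_le hVL
      have h3 : 3 ∣ Nat.card L := by
        have ho : orderOf (⟨h, S.hK⟩ : K) = 3 := by
          haveI : Fact (Nat.Prime 3) := ⟨Nat.prime_three⟩
          exact orderOf_eq_prime (Subtype.ext S.tri.three) fun e => hhV (e ▸ one_mem V)
        rw [← ho, ← Subgroup.orderOf_mk _ hhL]
        exact orderOf_dvd_natCard _
      exact eq_top_of_card_eq L (Nat.dvd_antisymm (card_subgroup_dvd_card L)
        (h12 ▸ Nat.Coprime.mul_dvd_of_dvd_of_dvd (by norm_num) h3 h4))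
    exact (mem_centralizer_singleton_iff.1 (hle hk)).symm
  · have huX : u ∈ Cz t := (mem_inf.1 (S.Wle hu)).2
    let φ : MulAut K :=
      { toFun := fun x => ⟨u * x * u⁻¹, S.norm u huX x x.2⟩
        invFun := fun x => ⟨u⁻¹ * x * u, by
          have := S.norm u⁻¹ (inv_mem huX) x x.2
          rwa [inv_inv] at this⟩
        left_inv := fun x => Subtype.ext (by simp [mul_assoc])
        right_inv := fun x => Subtype.ext (by simp [mul_assoc])
        map_mul' := fun x y => Subtype.ext (by simp [mul_assoc]) }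
    have hzK : z ∈ K := (S.vmem (by simp [Vset])).2
    have h1 : MulAut.congr e φ = 1 := by
      refine alt_five_aut (a := e ⟨z, hzK⟩) (b := e ⟨h, S.hK⟩) ?_ ?_ ?_ ?_ ?_ ?_ ?_
      · rw [← map_mul, show (⟨z, hzK⟩ : K) * ⟨z, hzK⟩ = 1 from
          Subtype.ext (hm.sq _ (S.vmem (by simp [Vset])).1), map_one]
      · rw [ne_eq, map_eq_one_iff e e.injective]
        exact fun h => hz1 (congrArg Subtype.val h)
      · rw [← map_mul, ← map_mul, show (⟨h, S.hK⟩ : K) * ⟨h, S.hK⟩ * ⟨h, S.hK⟩ = 1 from Subtype.ext (by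
          show h * h * h = 1
          rw [← S.tri.three, pow_succ, pow_two]), map_one]
      · simp only [← map_inv, ← map_mul]
        refine congrArg e (Subtype.ext ?_)
        show h * z * h⁻¹ * z = z * (h * z * h⁻¹)
        rw [S.tri.hz]
        exact (hm.comm _ (S.vmem (by simp [Vset])).1 _ (S.vmem (by simp [Vset])).1).eq
      · rw [← map_inv, ← map_mul, ← map_mul, ne_eq, e.injective.eq_iff]
        exact fun h' => hm.wz (S.tri.hz.symm.trans (congrArg Subtype.val h'))
      · show e (φ (e.symm (e _))) = _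
        rw [e.symm_apply_apply]
        refine congrArg e (Subtype.ext ?_)
        exact mul_inv_eq_iff_eq_mul.2 (S.commVW (by simp [Vset]) hu).eq
      · show e (φ (e.symm (e _))) = _
        rw [e.symm_apply_apply]
        refine congrArg e (Subtype.ext ?_)
        exact mul_inv_eq_iff_eq_mul.2 (S.Wfix u hu).eq.symm
    have hφ : φ = 1 := (MulEquiv.map_eq_one_iff _).1 h1
    exact mul_inv_eq_iff_eq_mul.1 (congrArg Subtype.val (DFunLike.congr_fun hφ ⟨k, hk⟩))

end TData

namespace Hyp

variable (H : Hyp z Q a σ)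
include H

theorem pairSet_t {t w h : G} {K W : Subgroup G} (ht : Outer z Q t) (S : TData z Q t w h K W) (x y : G) :
    (x, y) ∈ PairSet z t t ↔
      (x ∈ K ∧ x * x = 1 ∧ x ≠ 1) ∧ ∃ b ∈ K, b * b = 1 ∧ y = b * t ∧ Odd (orderOf (x * b)) := by
  have D := H.data
  have hz1 : z ≠ 1 := D.frame.x2.ne
  have hzt := H.outer_not_conj ht
  have ot : orderOf t = 2 :=
    Cfsg.Lib.InvolCalc.order_two_of_mul_self ht.2.1 fun e => ht.2.2 (e ▸ one_mem Q)
  have ht1 : t ≠ 1 := Cfsg.Lib.InvolCalc.ne_one_of_order_two ot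
  -- an involution of `C(t)` is in `K` exactly when it is conjugate to `z`
  have hcls : ∀ v ∈ Cz t, orderOf v = 2 → (IsConj z v ↔ v ∈ K) := by
    intro v hv ov
    obtain ⟨g, hg, he⟩ := S.invol v hv (Cfsg.Lib.InvolCalc.sq_of_order_two ov)
    have og : orderOf (g * v * g⁻¹) = 2 := order_two_of_conj ov (isConj_iff.2 ⟨g, rfl⟩)
    constructor
    · intro hc
      have hQ := H.mem_Q_of_conj (mem_Ey.1 he).1 (hc.trans (isConj_iff.2 ⟨g, rfl⟩))
      have hK := (S.KE _ he).2 ((S.tri.props.inQ _).1 ⟨he, hQ⟩)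
      have := S.norm g⁻¹ (inv_mem hg) _ hK
      simpa [mul_assoc] using this
    · intro hvK
      have hQ := ((S.tri.props.inQ _).2 ((S.KE _ he).1 (S.norm g hg v hvK))).2
      exact (H.pts_conj hQ (Cfsg.Lib.InvolCalc.sq_of_order_two og) (Cfsg.Lib.InvolCalc.ne_one_of_order_two og)).trans
        (isConj_iff.2 ⟨g⁻¹, by group⟩)
  have hdec : ∀ k ∈ K, ∀ u ∈ W, k * u = 1 → k = 1 ∧ u = 1 := by
    intro k hk u hu he
    have h1 : k = 1 := S.disj k hk (by rw [eq_inv_of_mul_eq_one_left he]; exact inv_mem hu)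
    exact ⟨h1, by rwa [h1, one_mul] at he⟩
  constructor
  · rintro ⟨hx, hy, hu⟩
    have ox := order_two_of_conj H.oz hx
    have oy := order_two_of_conj ot hy
    have he := even_of_not_conj ox oy fun e => hzt ((hx.trans e).trans hy.symm)
    obtain ⟨-, hux, huy⟩ := Cfsg.Lib.InvolCalc.central_spec ox oy he
    have hu' : (x * y) ^ (orderOf (x * y) / 2) = t := hu
    rw [hu'] at hux huy
    have hxK : x ∈ K := (hcls x (mem_Cz.2 hux.symm) ox).1 hx
    refine ⟨⟨hxK, Cfsg.Lib.InvolCalc.sq_of_order_two ox, Cfsg.Lib.InvolCalc.ne_one_of_order_two ox⟩, ?_⟩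
    have hyK : y ∉ K := fun h => hzt (((hcls y (mem_Cz.2 huy.symm) oy).2 h).trans hy.symm)
    obtain ⟨b, hb, u, hu1, hy'⟩ := S.decomp y (mem_Cz.2 huy.symm)
    have hc := S.commute_W hz1 hu1 hb
    have huu : u * u = 1 := S.tri.props.sq _ (S.Wle hu1)
    have hbb : b * b = 1 := by
      have h1 := Cfsg.Lib.InvolCalc.sq_of_order_two oy
      rwa [hy', show b * u * (b * u) = b * (u * b) * u by group, hc.eq, show b * (b * u) * u = b * b * (u * u) by group,
        huu, mul_one] at h1
    have hcxb : Commute (x * b) u := ((S.commute_W hz1 hu1 (mul_mem hxK hb))).symm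
    rw [hy', ← mul_assoc] at hu' he
    set n := orderOf (x * b * u) / 2 with hn
    rw [hcxb.mul_pow] at hu'
    have hk1 : (x * b) ^ n = 1 ∧ u ^ n = t := by
      have h1 := hdec _ (pow_mem (mul_mem hxK hb) n) _ (mul_mem (pow_mem hu1 n) (inv_mem S.tW))
        (by rw [← mul_assoc, hu', mul_inv_cancel])
      exact ⟨h1.1, mul_inv_eq_one.1 h1.2⟩
    have hodd : Odd n := by
      by_contra hne
      obtain ⟨j, hj⟩ := Nat.not_odd_iff_even.1 hne
      have h1 := hk1.2
      rw [hj, ← two_mul, pow_mul, pow_two, huu, one_pow] at h1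
      exact ht1 h1.symm
    have hut : u = t := by
      obtain ⟨j, hj⟩ := hodd
      have h1 := hk1.2
      rwa [hj, pow_succ, pow_mul, pow_two, huu, one_pow, one_mul] at h1
    exact ⟨b, hb, hbb, by rw [hy', hut], hodd.of_dvd_nat (orderOf_dvd_of_pow_eq_one hk1.1)⟩
  · rintro ⟨⟨hxK, hxx, hx1⟩, b, hb, hbb, hy, hodd⟩
    have ox := Cfsg.Lib.InvolCalc.order_two_of_mul_self hxx hx1
    have hbt : Commute t b := (mem_Cz.1 (S.le hb)).symm
    have hy2 : y * y = 1 := by
      rw [hy, show b * t * (b * t) = b * (t * b) * t by group, hbt.eq, show b * (b * t) * t = b * b * (t * t) by group,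
        hbb, ht.2.1, mul_one]
    have hyK : y ∉ K := fun h => ht1 (S.disj t (by
      have := mul_mem (inv_mem hb) h
      rwa [hy, inv_mul_cancel_left] at this) S.tW)
    have oy := Cfsg.Lib.InvolCalc.order_two_of_mul_self hy2 fun e => hyK (e ▸ one_mem K)
    have hyX : y ∈ Cz t := hy ▸ mul_mem (S.le hb) ((mem_inf.1 (S.Wle S.tW)).2)
    refine ⟨(hcls x (S.le hxK) ox).2 hxK, (H.class_cases ht oy).resolve_left fun e => hyK ((hcls y hyX oy).1 e), ?_⟩
    show (x * y) ^ (orderOf (x * y) / 2) = t
    have hc : Commute (x * b) t := mem_Cz.1 (mul_mem (S.le hxK) (S.le hb))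
    obtain ⟨j, hj⟩ := hodd
    have hcop : (orderOf (x * b)).Coprime (orderOf t) := by
      rw [ot, hj]; exact Nat.coprime_two_right.2 ⟨j, rfl⟩
    rw [hy, ← mul_assoc, hc.orderOf_mul_eq_mul_orderOf_of_coprime hcop, ot, Nat.mul_div_cancel _ two_pos, hc.mul_pow,
      pow_orderOf_eq_one, one_mul, hj, pow_succ, pow_mul, pow_two, ht.2.1, one_pow, one_mul]

theorem card_pairSet_t {t w h : G} {K W : Subgroup G} (ht : Outer z Q t) (S : TData z Q t w h K W) :
    Nat.card (PairSet z t t) =
      Nat.card {p : K × K // (p.1 * p.1 = 1 ∧ p.1 ≠ 1) ∧ p.2 * p.2 = 1 ∧ Odd (orderOf (p.1 * p.2))} := by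
  refine (Nat.card_congr (Equiv.ofBijective (fun p => (⟨((p.1.1 : G), (p.1.2 : G) * t),
    (H.pairSet_t ht S _ _).2 ⟨⟨p.1.1.2, congrArg Subtype.val p.2.1.1, fun e => p.2.1.2 (Subtype.ext e)⟩,
      p.1.2, p.1.2.2, congrArg Subtype.val p.2.2.1, rfl, by
        rw [← Subgroup.coe_mul, Subgroup.orderOf_coe]; exact p.2.2.2⟩⟩ : PairSet z t t)) ⟨?_, ?_⟩)).symm
  · intro p q e
    have e' := congrArg Subtype.val e
    simp only [Prod.mk.injEq, mul_left_inj] at e'
    exact Subtype.ext (Prod.ext (Subtype.ext e'.1) (Subtype.ext e'.2))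
  · rintro ⟨⟨x, y⟩, hp⟩
    obtain ⟨⟨hxK, hxx, hx1⟩, b, hb, hbb, rfl, ho⟩ := (H.pairSet_t ht S x y).1 hp
    refine ⟨⟨(⟨x, hxK⟩, ⟨b, hb⟩), ⟨Subtype.ext hxx, fun e => hx1 (congrArg Subtype.val e)⟩, Subtype.ext hbb, ?_⟩, rfl⟩
    rw [← Subgroup.orderOf_coe]
    exact ho

theorem order_cases {t w h : G} {K W : Subgroup G} (ht : Outer z Q t) (S : TData z Q t w h K W) :
    (Nat.card G = 51840 ∧ Nat.card (Cz t) = 48) ∨
      (Nat.card G = 604800 ∧ Nat.card (Cz t) = 240 ∧ Nonempty (K ≃* alternatingGroup (Fin 5))) := by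
  have D := H.data
  have ot : orderOf t = 2 :=
    Cfsg.Lib.InvolCalc.order_two_of_mul_self ht.2.1 fun e => ht.2.2 (e ▸ one_mem Q)
  have hf := two_class_formula H.oz ot (H.outer_not_conj ht) (fun x hx => H.class_cases ht hx)
  change Nat.card G = _ * Nat.card (Cz t) + _ * Nat.card (Cz z) at hf
  rw [H.card_pairSet_z ht, D.card_Cz, H.card_pairSet_t ht S, S.card] at hf
  rcases S.shape D.frame.x2.ne with ⟨h12, hinv⟩ | ⟨⟨e⟩⟩
  · refine Or.inl ⟨?_, by rw [S.card, h12]⟩
    have h3 : Nat.card {p : K × K // (p.1 * p.1 = 1 ∧ p.1 ≠ 1) ∧ p.2 * p.2 = 1 ∧ Odd (orderOf (p.1 * p.2))} = 3 := by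
      classical
      have hzK : z ∈ K := (S.vmem (by simp [Vset])).2
      have hwK : w ∈ K := (S.vmem (by simp [Vset])).2
      let F : Finset K := {⟨z, hzK⟩, ⟨w, hwK⟩, ⟨z, hzK⟩ * ⟨w, hwK⟩}
      have hm := S.tri.props
      have hF : F.card = 3 := by
        rw [Finset.card_insert_of_notMem (by
            simp only [Finset.mem_insert, Finset.mem_singleton, not_or]
            exact ⟨fun e => hm.wz (congrArg Subtype.val e).symm,
              fun e => hm.w1 (mul_eq_left.mp (congrArg Subtype.val e).symm)⟩),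
          Finset.card_pair (fun e => D.frame.x2.ne (mul_eq_right.mp (congrArg Subtype.val e).symm))]
      have hFm : ∀ v : K, v ∈ F ↔ (v * v = 1 ∧ v ≠ 1) := by
        intro v
        simp only [F, Finset.mem_insert, Finset.mem_singleton]
        constructor
        · intro hv
          have hv' : (v : G) ∈ Vset z w := by rcases hv with rfl | rfl | rfl <;> simp [Vset]
          refine ⟨Subtype.ext (hm.sq _ (S.vmem hv').1), ?_⟩
          intro e1
          rcases hv with rfl | rfl | rfl
          · exact D.frame.x2.ne (congrArg Subtype.val e1)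
          · exact hm.w1 (congrArg Subtype.val e1)
          · exact hm.wz (by
              have e' : z * w = 1 := congrArg Subtype.val e1
              rw [eq_inv_of_mul_eq_one_right e', D.frame.x2.inv_z])
        · rintro ⟨hvv, hv1⟩
          rcases hinv v v.2 (congrArg Subtype.val hvv) with r | r | r | r
          · exact absurd (Subtype.ext r) hv1
          · exact Or.inl (Subtype.ext r)
          · exact Or.inr (Or.inl (Subtype.ext r))
          · exact Or.inr (Or.inr (Subtype.ext r))
      rw [← hF, ← Fintype.card_coe, ← Nat.card_eq_fintype_card]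
      refine Nat.card_congr
        { toFun := fun p => ⟨p.1.1, (hFm _).2 p.2.1⟩
          invFun := fun v => ⟨(v.1, v.1), (hFm _).1 v.2, ((hFm _).1 v.2).1, by
            rw [((hFm _).1 v.2).1, orderOf_one]; decide⟩
          left_inv := fun p => ?_
          right_inv := fun v => rfl }
      obtain ⟨⟨x, b⟩, ⟨hxx, hx1⟩, hbb, ho⟩ := p
      have hxV := hinv x x.2 (congrArg Subtype.val hxx)
      have hbV := hinv b b.2 (congrArg Subtype.val hbb)
      have hmem : ((x * b : K) : G) ∈ Ey z t := mul_mem (S.vmem hxV).1 (S.vmem hbV).1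
      have h2 : orderOf (x * b) ∣ 2 :=
        orderOf_dvd_of_pow_eq_one (Subtype.ext (by rw [SubmonoidClass.coe_pow, pow_two]; exact hm.sq _ hmem))
      have h1 : x * b = 1 := orderOf_eq_one_iff.1 (by
        rcases (Nat.dvd_prime Nat.prime_two).1 h2 with r | r
        · exact r
        · rw [r] at ho; exact absurd ho (by decide))
      have hxb : x = b := by
        rw [eq_inv_of_mul_eq_one_left h1, inv_eq_of_mul_eq_one_right hbb]
      subst hxb
      rfl
    rw [h3, h12] at hf
    exact hf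
  · have h60 : Nat.card K = 60 := (Nat.card_congr e.toEquiv).trans sixty
    refine Or.inr ⟨?_, by rw [S.card, h60], ⟨e⟩⟩
    have h195 : Nat.card {p : K × K // (p.1 * p.1 = 1 ∧ p.1 ≠ 1) ∧ p.2 * p.2 = 1 ∧ Odd (orderOf (p.1 * p.2))} = 195 := by
      rw [← alt_five_pairs]
      refine Nat.card_congr ((e.toEquiv.prodCongr e.toEquiv).subtypeEquiv fun p => ?_)
      simp only [Equiv.prodCongr_apply, Prod.map_fst, Prod.map_snd, MulEquiv.toEquiv_eq_coe, MulEquiv.coe_toEquiv,
        ← map_mul, ← map_pow, map_eq_one_iff e e.injective, ne_eq, and_assoc]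
      refine and_congr_right fun _ => and_congr_right fun _ => and_congr_right fun _ => ⟨fun ho => ?_, fun h15 => ?_⟩
      · refine orderOf_dvd_iff_pow_eq_one.1 ?_
        have hd : orderOf (p.1 * p.2) ∣ 4 * 15 := by
          rw [show 4 * 15 = Nat.card K from h60.symm]; exact orderOf_dvd_natCard _
        exact (Nat.Coprime.pow_right 2 (Nat.coprime_two_right.2 ho)).dvd_of_dvd_mul_left hd
      · exact (by decide : Odd 15).of_dvd_nat (orderOf_dvd_of_pow_eq_one h15)
    rw [h195, h60] at hf
    exact hf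

end Hyp

end Cfsg.Lib.HallJankoType
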