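import Cfsg.Agent.LocalThree.HallJankoType.Involutions

/-!
The centralizer in `C` of an outer involution is elementary abelian of order 16.
-/

set_option autoImplicit false
set_option linter.unusedSectionVars false

namespace Cfsg.Lib.HallJankoType

open Subgroup Equiv

variable {G : Type*} [Group G] [Finite G] {z : G} {Q : Subgroup G} {a : Fin 5 → G} {σ : Cz z →* Perm (Fin 5)}

set_option synthInstance.maxSize 1024 in
set_option synthInstance.maxHeartbeats 200000 in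
theorem perm_four : ∀ π : Perm (Fin 5), Perm.sign π = 1 → π * π = 1 → π ≠ 1 → π 4 = 4 →
    π = tau1 ∨ ∃ ρ : Perm (Fin 5), Perm.sign ρ = 1 ∧ ρ * π * ρ⁻¹ = tau1 ∧
      (ρ * tau1 * ρ⁻¹ = tau2 ∨ ρ * tau1 * ρ⁻¹ = tau1 * tau2) := by decide +kernel

/-- the four elements of a four-group -/
abbrev Vset (z w : G) : Set G := {1, z, w, z * w}

/-- the properties of the centralizer in `C` of an outer involution -/
structure EProps (z : G) (Q : Subgroup G) (y w : G) : Prop where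
  wQ : w ∈ Q
  ww : w * w = 1
  w1 : w ≠ 1
  wz : w ≠ z
  card : Nat.card (Ey z y) = 16
  sq : ∀ x ∈ Ey z y, x * x = 1
  comm : ∀ x ∈ Ey z y, ∀ x' ∈ Ey z y, Commute x x'
  inQ : ∀ x, x ∈ Ey z y ∧ x ∈ Q ↔ x ∈ Vset z w

namespace Data

variable (D : Data z Q a σ)
include D

theorem std_Ey {y : G} (hy : y ∈ Cz z) (hyy : y * y = 1) (hσ : σ ⟨y, hy⟩ = tau1) :
    EProps z Q y (a 4) := by
  classical
  obtain ⟨s, hs, hss, hσs, hsy⟩ := D.exists_second hy hyy hσ
  have hy4 := D.std_four hy hyy hσ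
  have hsQ : s ∉ Q := fun h => by
    have := (D.ker ⟨s, hs⟩).2 h
    rw [hσs] at this
    exact absurd this (by decide)
  have hs4 : Commute s (a 4) := D.fixed_commute hs hss hsQ (by rw [hσs]; decide)
  have hzy : Commute z y := (D.commC hy).symm
  have hzs : Commute z s := (D.commC hs).symm
  have hz4 : Commute z (a 4) := D.commQ (D.frame.mem 4)
  let f : Bool × Bool × Bool × Bool → G := fun x => bp z x.1 * bp (a 4) x.2.1 * (bp y x.2.2.1 * bp s x.2.2.2)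
  have hsq : ∀ {x : G}, x * x = 1 → ∀ i j : Bool, bp x i * bp x j = bp x (xor i j) := fun {x} hx i j => by
    cases i <;> cases j <;> simp [bp, hx]
  have hfm : ∀ u v, f u * f v = f (xor u.1 v.1, xor u.2.1 v.2.1, xor u.2.2.1 v.2.2.1, xor u.2.2.2 v.2.2.2) := by
    intro u v
    have c1 : Commute (bp y u.2.2.1 * bp s u.2.2.2) (bp z v.1 * bp (a 4) v.2.1) :=
      ((bp_comm hzy _ _).symm.mul_right (bp_comm hy4 _ _)).mul_left ((bp_comm hzs _ _).symm.mul_right (bp_comm hs4 _ _))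
    show bp z u.1 * bp (a 4) u.2.1 * (bp y u.2.2.1 * bp s u.2.2.2) *
      (bp z v.1 * bp (a 4) v.2.1 * (bp y v.2.2.1 * bp s v.2.2.2)) = _
    rw [c1.mul_mul_mul_comm, (bp_comm hz4 v.1 u.2.1).symm.mul_mul_mul_comm, (bp_comm hsy u.2.2.2 v.2.2.1).mul_mul_mul_comm,
      hsq D.zz, hsq (D.frame.sq 4), hsq hyy, hsq hss]
  have hf1 : f (false, false, false, false) = 1 := by simp [f, bp]
  have hfmem : ∀ u, f u ∈ Ey z y := fun u => by
    refine mul_mem (mul_mem (bp_mem (mem_Ey.2 ⟨D.le D.frame.x2.mem, hzy⟩) _)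
      (bp_mem (mem_Ey.2 ⟨D.le (D.frame.mem 4), hy4.symm⟩) _))
      (mul_mem (bp_mem (mem_Ey.2 ⟨hy, Commute.refl y⟩) _) (bp_mem (mem_Ey.2 ⟨hs, hsy⟩) _))
  have hσf : ∀ u, σ ⟨f u, (mem_Ey.1 (hfmem u)).1⟩ =
      (if u.2.2.1 then tau1 else 1) * (if u.2.2.2 then tau2 else 1) := by
    intro u
    have hA : bp z u.1 * bp (a 4) u.2.1 ∈ Q := mul_mem (bp_mem D.frame.x2.mem _) (bp_mem (D.frame.mem 4) _)
    rw [show (⟨f u, (mem_Ey.1 (hfmem u)).1⟩ : Cz z) =
      ⟨_, D.le hA⟩ * (⟨bp y u.2.2.1, bp_mem hy _⟩ * ⟨bp s u.2.2.2, bp_mem hs _⟩) from rfl, map_mul, map_mul,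
      (D.ker ⟨_, D.le hA⟩).2 hA, one_mul]
    congr 1
    · cases u.2.2.1
      · exact map_one σ
      · exact hσ
    · cases u.2.2.2
      · exact map_one σ
      · exact hσs
  have hfQ : ∀ u, f u ∈ Q ↔ u.2.2.1 = false ∧ u.2.2.2 = false := fun u => by
    rw [← D.ker ⟨f u, (mem_Ey.1 (hfmem u)).1⟩, hσf]
    cases u.2.2.1 <;> cases u.2.2.2 <;> decide
  have hfinj : Function.Injective f := by
    intro u v e
    have h1 : f (xor u.1 v.1, xor u.2.1 v.2.1, xor u.2.2.1 v.2.2.1, xor u.2.2.2 v.2.2.2) = 1 := by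
      rw [← hfm, e, hfm]; simp [hf1]
    obtain ⟨i, j, k, l⟩ := u
    obtain ⟨i', j', k', l'⟩ := v
    obtain ⟨hk, hl⟩ := (hfQ _).1 (h1 ▸ one_mem Q)
    simp only at hk hl h1
    rw [hk, hl] at h1
    obtain ⟨hne1, hnez⟩ : a 4 ≠ 1 ∧ a 4 ≠ z := (D.frame.pt_invol (Or.inl rfl : Cls z (a 4) (a 4))).2.2
    have key : xor i i' = false ∧ xor j j' = false := by
      revert h1
      cases xor i i' <;> cases xor j j' <;> simp [f, bp, hne1, D.frame.x2.ne]
      intro h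
      exact hnez (by rw [eq_inv_of_mul_eq_one_right h, D.frame.x2.inv_z])
    revert key hk hl
    cases i <;> cases i' <;> cases j <;> cases j' <;> cases k <;> cases k' <;> cases l <;> cases l' <;> simp
  have hfsurj : ∀ x ∈ Ey z y, ∃ u, f u = x := by
    intro x hx
    obtain ⟨hxC, hxy⟩ := mem_Ey.1 hx
    obtain ⟨k, l, hkl⟩ : ∃ k l : Bool, σ ⟨x, hxC⟩ = (if k then tau1 else 1) * (if l then tau2 else 1) := by
      rcases perm_cent _ (D.sign ⟨x, hxC⟩) (by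
        rw [← hσ, ← map_mul, ← map_mul]; exact congrArg σ (Subtype.ext hxy.eq)) with e | e | e | e
      · exact ⟨false, false, e⟩
      · exact ⟨true, false, by rw [e]; rfl⟩
      · exact ⟨false, true, by rw [e]; rfl⟩
      · exact ⟨true, true, e⟩
    set u₀ : Bool × Bool × Bool × Bool := (false, false, k, l)
    set q := x * (f u₀)⁻¹ with hq
    have hqE : q ∈ Ey z y := mul_mem hx (inv_mem (hfmem u₀))
    have hqQ : q ∈ Q := (D.ker ⟨q, (mem_Ey.1 hqE).1⟩).1 (by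
      rw [show (⟨q, (mem_Ey.1 hqE).1⟩ : Cz z) = ⟨x, hxC⟩ * ⟨f u₀, (mem_Ey.1 (hfmem u₀)).1⟩⁻¹ from rfl, map_mul,
        map_inv, hkl, hσf, mul_inv_cancel])
    have hyq : Commute y q := (mem_Ey.1 hqE).2.symm
    have hR := D.std_fixed hy hyy hσ hqQ (Or.inl (by rw [hyq.eq, mul_inv_cancel_right]))
    obtain ⟨i, j, hij⟩ : ∃ i j : Bool, q = f (i, j, false, false) := by
      rcases (D.rset_invert hy hyy hσ hR).2 hyq with (e | e) | (e | e)
      · exact ⟨false, false, by simp [f, bp, e]⟩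
      · exact ⟨true, false, by simp [f, bp, e]⟩
      · exact ⟨false, true, by simp [f, bp, e]⟩
      · exact ⟨true, true, by simp [f, bp, e]⟩
    exact ⟨(i, j, k, l), by
      have : x = q * f u₀ := by rw [hq, inv_mul_cancel_right]
      rw [this, hij, hfm]
      simp [u₀]⟩
  have hcard : Nat.card (Ey z y) = 16 := by
    rw [← Nat.card_congr (Equiv.ofBijective (fun u => (⟨f u, hfmem u⟩ : Ey z y))
      ⟨fun u v e => hfinj (congrArg Subtype.val e), fun x => by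
        obtain ⟨u, hu⟩ := hfsurj x x.2; exact ⟨u, Subtype.ext hu⟩⟩), Nat.card_eq_fintype_card]
    rfl
  refine ⟨D.frame.mem 4, D.frame.sq 4, (D.frame.pt_invol (Or.inl rfl : Cls z (a 4) (a 4))).2.2.1,
    (D.frame.pt_invol (Or.inl rfl : Cls z (a 4) (a 4))).2.2.2, hcard, ?_, ?_, ?_⟩
  · intro x hx
    obtain ⟨u, rfl⟩ := hfsurj x hx
    rw [hfm]; simp [hf1]
  · intro x hx x' hx'
    obtain ⟨u, rfl⟩ := hfsurj x hx
    obtain ⟨v, rfl⟩ := hfsurj x' hx'
    show f u * f v = f v * f u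
    rw [hfm, hfm]; simp [Bool.xor_comm]
  · intro x
    constructor
    · rintro ⟨hx, hxQ⟩
      obtain ⟨⟨i, j, k, l⟩, rfl⟩ := hfsurj x hx
      obtain ⟨hk, hl⟩ := (hfQ _).1 hxQ
      simp only at hk hl
      subst hk hl
      cases i <;> cases j <;> simp [f, bp, Vset]
    · intro hx
      obtain ⟨i, j, rfl⟩ : ∃ i j : Bool, x = f (i, j, false, false) := by
        rcases hx with rfl | rfl | rfl | rfl
        exacts [⟨false, false, by simp [f, bp]⟩, ⟨true, false, by simp [f, bp]⟩, ⟨false, true, by simp [f, bp]⟩,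
          ⟨true, true, by simp [f, bp]⟩]
      exact ⟨hfmem _, (hfQ _).2 ⟨rfl, rfl⟩⟩

theorem EProps_conj {c y w : G} (hc : c ∈ Cz z) (P : EProps z Q (c * y * c⁻¹) w) :
    EProps z Q y (c⁻¹ * w * c) := by
  set y' := c * y * c⁻¹
  have hzc : c * z * c⁻¹ = z := by rw [(D.commC hc).eq, mul_inv_cancel_right]
  have hQm : ∀ x, x ∈ Q ↔ c * x * c⁻¹ ∈ Q := fun x => ⟨D.norm c hc x, fun hx => by
    have := D.norm c⁻¹ (inv_mem hc) _ hx
    simpa [mul_assoc] using this⟩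
  have hm : ∀ x, x ∈ Ey z y ↔ c * x * c⁻¹ ∈ Ey z y' := fun x => by
    rw [mem_Ey, mem_Ey]
    refine and_congr ⟨fun hx => mul_mem (mul_mem hc hx) (inv_mem hc), fun hx => ?_⟩
      ((Commute.conj_iff c).symm)
    have := mul_mem (mul_mem (inv_mem hc) hx) hc
    simpa [mul_assoc] using this
  let e16 : Ey z y ≃ Ey z y' := (MulAut.conj c).toEquiv.subtypeEquiv fun x => hm x
  refine ⟨?_, ?_, ?_, ?_, (Nat.card_congr e16).trans P.card, ?_, ?_, ?_⟩
  · simpa using D.norm c⁻¹ (inv_mem hc) _ P.wQ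
  · rw [show c⁻¹ * w * c * (c⁻¹ * w * c) = c⁻¹ * (w * w) * c by group, P.ww]; group
  · intro he
    exact P.w1 (by rw [show w = c * (c⁻¹ * w * c) * c⁻¹ by group, he]; group)
  · intro he
    exact P.wz (by rw [show w = c * (c⁻¹ * w * c) * c⁻¹ by group, he, hzc])
  · intro x hx
    have := P.sq _ ((hm x).1 hx)
    rwa [show c * x * c⁻¹ * (c * x * c⁻¹) = c * (x * x) * c⁻¹ by group, mul_inv_eq_one, mul_eq_left] at this
  · intro x hx x' hx'
    exact (Commute.conj_iff c).1 (P.comm _ ((hm x).1 hx) _ ((hm x').1 hx'))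
  · intro x
    rw [hm x, hQm x, P.inQ]
    have hzw : c * (z * (c⁻¹ * w * c)) * c⁻¹ = z * w := by
      rw [← mul_assoc, (D.commC hc).eq]; group
    simp only [Vset, Set.mem_insert_iff, Set.mem_singleton_iff]
    constructor
    · rintro (e | e | e | e)
      · exact Or.inl (conj_eq_one_iff.1 e)
      · exact Or.inr (Or.inl ((MulAut.conj c).injective (e.trans hzc.symm)))
      · exact Or.inr (Or.inr (Or.inl (by rw [← e]; group)))
      · exact Or.inr (Or.inr (Or.inr ((MulAut.conj c).injective (e.trans hzw.symm))))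
    · rintro (rfl | rfl | rfl | rfl)
      · left; group
      · exact Or.inr (Or.inl hzc)
      · right; right; left; group
      · exact Or.inr (Or.inr (Or.inr hzw))

theorem Ey_props {y : G} (h : Outer z Q y) : ∃ w, EProps z Q y w := by
  obtain ⟨c, hc, e⟩ := D.to_std h.1 (by rw [h.2.1]; exact one_mem _) h.2.2
  exact ⟨_, D.EProps_conj hc (D.std_Ey _ (D.outer_conj' h hc).2.1 e)⟩

/-- an outer involution fixing the last point commutes with a standard one -/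
theorem exists_partner {x : G} (hx : Outer z Q x) (h4 : Commute x (a 4)) :
    ∃ y, ∃ hy : y ∈ Cz z, y * y = 1 ∧ σ ⟨y, hy⟩ = tau1 ∧ Commute x y := by
  have hfix : σ ⟨x, hx.1⟩ 4 = 4 := by
    refine (D.frame.unique (q := x * a 4 * x⁻¹) (D.act ⟨x, hx.1⟩ 4) (Or.inl ?_))
    rw [h4.eq, mul_inv_cancel_right]
  rcases perm_four _ (D.sign _) (D.sigma_inv_sq hx.1 hx.2.1) (fun e => hx.2.2 ((D.ker _).1 e)) hfix with e | ⟨ρ, hρ, e1, e2⟩
  · exact ⟨x, hx.1, hx.2.1, e, Commute.refl x⟩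
  · obtain ⟨c, rfl⟩ := D.surj ρ hρ
    have hO := D.outer_conj' hx c.2
    have hσ' : σ ⟨(c : G) * x * (c : G)⁻¹, hO.1⟩ = tau1 := by
      rw [← e1, ← map_inv, ← map_mul, ← map_mul]; rfl
    obtain ⟨s₁, hs₁, hss₁, hσs₁, hsx₁⟩ := D.exists_second hO.1 hO.2.1 hσ'
    obtain ⟨s, hs, hss, hσs, hsx⟩ : ∃ s, ∃ hs : s ∈ Cz z, s * s = 1 ∧
        σ ⟨s, hs⟩ = ↑(σ c) * tau1 * (σ c)⁻¹ ∧ Commute s ((c : G) * x * (c : G)⁻¹) := by
      rcases e2 with e2 | e2
      · exact ⟨s₁, hs₁, hss₁, hσs₁.trans e2.symm, hsx₁⟩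
      · refine ⟨(c : G) * x * (c : G)⁻¹ * s₁, mul_mem hO.1 hs₁, ?_, ?_, (Commute.refl _).mul_left hsx₁⟩
        · rw [Commute.mul_mul_mul_comm hsx₁, hO.2.1, hss₁, one_mul]
        · rw [show (⟨(c : G) * x * (c : G)⁻¹ * s₁, mul_mem hO.1 hs₁⟩ : Cz z) = ⟨_, hO.1⟩ * ⟨s₁, hs₁⟩ from rfl, map_mul,
            hσ', hσs₁, e2]
    refine ⟨(c : G)⁻¹ * s * c, mul_mem (mul_mem (inv_mem c.2) hs) c.2, ?_, ?_, ?_⟩
    · rw [show (c : G)⁻¹ * s * c * ((c : G)⁻¹ * s * c) = (c : G)⁻¹ * (s * s) * c by group, hss]; group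
    · rw [show (⟨(c : G)⁻¹ * s * c, mul_mem (mul_mem (inv_mem c.2) hs) c.2⟩ : Cz z) = c⁻¹ * ⟨s, hs⟩ * c from rfl,
        map_mul, map_mul, map_inv, hσs]
      group
    · refine (Commute.conj_iff (c : G)).1 ?_
      rw [show (c : G) * ((c : G)⁻¹ * s * c) * (c : G)⁻¹ = s by group]
      exact hsx.symm

end Data

end Cfsg.Lib.HallJankoType
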