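import Cfsg.Agent.LocalThree.HallJankoType.FiveLocal

/-!
The Sylow 5-subgroups of a group of Hall–Janko type.
-/

set_option autoImplicit false
set_option linter.unusedSectionVars false
set_option linter.style.haveILetI false

namespace Cfsg.Lib.HallJankoType

open Subgroup Equiv

universe u

variable {G : Type u} [Group G] [Finite G] {z : G} {Q : Subgroup G} {a : Fin 5 → G} {σ : Cz z →* Perm (Fin 5)}

theorem perm_five_invert : ∀ ρ : Perm (Fin 5), ρ ^ 5 = 1 → ρ ≠ 1 →
    ∃ π : Perm (Fin 5), Perm.sign π = 1 ∧ π * π = 1 ∧ π ≠ 1 ∧ π * ρ * π⁻¹ = ρ ^ 4 := by decide +kernel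

theorem zmod_five : ∀ r : ZMod 5, r ≠ 0 → r ^ 4 = 1 := by decide

theorem orbit_arith : ∀ k, k < 25 → 24192 % k = 0 → 24192 / k % 5 = 1 → k = 2 ∨ k = 7 ∨ k = 12 := by
  decide +kernel

/-- the elements of `N` normalising `⟨f⟩` -/
abbrev lineStab (N : Subgroup G) (f : G) : Subgroup G := N ⊓ normalizer (zpowers f : Set G)

theorem map_conj_zpowers (g f : G) : (zpowers f).map (MulAut.conj g).toMonoidHom = zpowers (g * f * g⁻¹) := by
  rw [MonoidHom.map_zpowers]; rfl

theorem mem_normalizer_zpowers {g f : G} :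
    g ∈ normalizer (zpowers f : Set G) ↔ zpowers (g * f * g⁻¹) = zpowers f := by
  rw [← map_conj_zpowers]
  constructor
  · intro hg
    ext x
    constructor
    · rintro ⟨y, hy, rfl⟩
      exact (mem_normalizer_iff.1 hg y).1 hy
    · intro hx
      have := (mem_normalizer_iff.1 hg (g⁻¹ * x * g)).2 (by rwa [show g * (g⁻¹ * x * g) * g⁻¹ = x by group])
      exact ⟨g⁻¹ * x * g, this, show g * (g⁻¹ * x * g) * g⁻¹ = x by group⟩
  · intro h
    refine mem_normalizer_iff.2 fun y => ⟨fun hy => h.le ⟨y, hy, rfl⟩, fun hy => ?_⟩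
    obtain ⟨y', hy', e⟩ := h.ge hy
    rwa [← (MulAut.conj g).injective (show MulAut.conj g y' = MulAut.conj g y from e)]

/-- The `N`-orbit of a line has size the index of the stabilizer. -/
theorem orbit_card (N : Subgroup G) (f : G) :
    Nat.card N = Nat.card {L : Subgroup G // ∃ n ∈ N, L = zpowers (n * f * n⁻¹)} * Nat.card (lineStab N f) := by
  set S' := (lineStab N f).subgroupOf N with hS'
  have key : ∀ x y : N, x⁻¹ * y ∈ S' ↔ zpowers ((x : G) * f * (x : G)⁻¹) = zpowers ((y : G) * f * (y : G)⁻¹) := by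
    intro x y
    rw [hS', mem_subgroupOf, mem_inf, mem_normalizer_zpowers]
    simp only [Subgroup.coe_mul, InvMemClass.coe_inv, mul_mem (inv_mem x.2) y.2, true_and]
    rw [← map_conj_zpowers, ← map_conj_zpowers, ← map_conj_zpowers, ← Cfsg.Lib.InvolCalc.map_conj_map]
    constructor
    · intro h
      conv_lhs => rw [← h]
      rw [Cfsg.Lib.InvolCalc.map_conj_map, Cfsg.Lib.InvolCalc.map_conj_map]
      congr 3
      group
    · intro h
      rw [← h, Cfsg.Lib.InvolCalc.map_conj_map, inv_mul_cancel, Cfsg.Lib.InvolCalc.map_conj_one]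
  let F : N ⧸ S' → {L : Subgroup G // ∃ n ∈ N, L = zpowers (n * f * n⁻¹)} :=
    Quotient.lift (fun x : N => (⟨zpowers ((x : G) * f * (x : G)⁻¹), x, x.2, rfl⟩ :
      {L : Subgroup G // ∃ n ∈ N, L = zpowers (n * f * n⁻¹)}))
      fun x y h => Subtype.ext ((key x y).1 (QuotientGroup.leftRel_apply.1 h))
  have hF : Function.Bijective F := by
    constructor
    · intro x y
      induction x using Quotient.inductionOn with
      | _ x => induction y using Quotient.inductionOn with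
        | _ y => exact fun h => Quotient.sound (QuotientGroup.leftRel_apply.2 ((key x y).2 (congrArg Subtype.val h)))
    · rintro ⟨L, n, hn, rfl⟩
      exact ⟨Quotient.mk'' ⟨n, hn⟩, rfl⟩
  rw [← Nat.card_congr (Equiv.ofBijective F hF), card_eq_card_quotient_mul_card_subgroup S',
    Nat.card_congr (subgroupOfEquivOfLe (inf_le_left : lineStab N f ≤ N)).toEquiv]

/-- at most six subgroups of order five -/
theorem lines_le (P : Subgroup G) (hP : Nat.card P = 25) :
    Nat.card {L : Subgroup G // L ≤ P ∧ Nat.card L = 5} ≤ 6 := by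
  classical
  haveI : Fact (Nat.Prime 5) := ⟨by norm_num⟩
  let Λ := {L : Subgroup G // L ≤ P ∧ Nat.card L = 5}
  letI := Fintype.ofFinite Λ
  let j : (Σ L : Λ, {x : L.1 // x ≠ 1}) → {x : P // x ≠ 1} := fun p =>
    ⟨⟨p.2.1.1, p.1.2.1 p.2.1.2⟩, fun e => p.2.2 (Subtype.ext (congrArg (fun y : P => (y : G)) e))⟩
  have hj : Function.Injective j := by
    rintro ⟨L, x⟩ ⟨L', x'⟩ e
    have e' : (x.1 : G) = x'.1 := congrArg (fun y : {x : P // x ≠ 1} => ((y : P) : G)) e
    have hgen : ∀ (L : Λ) (x : {x : L.1 // x ≠ 1}), zpowers (x.1 : G) = L.1 := fun L x => by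
      refine eq_of_le_of_card_ge (zpowers_le.2 x.1.2) ?_
      rw [L.2.2, Nat.card_zpowers]
      have hd : orderOf (x.1 : G) ∣ 5 := by
        rw [Subgroup.orderOf_coe]; exact (_root_.orderOf_dvd_natCard _).trans (dvd_of_eq L.2.2)
      rcases (Nat.dvd_prime (by norm_num : Nat.Prime 5)).1 hd with r | r
      · exact absurd (Subtype.ext (orderOf_eq_one_iff.1 r)) x.2
      · exact r.ge
    obtain rfl : L = L' := Subtype.ext (by rw [← hgen L x, e', hgen L' x'])
    obtain rfl : x = x' := Subtype.ext (Subtype.ext e')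
    rfl
  have h := Nat.card_le_card_of_injective j hj
  rw [Nat.card_sigma] at h
  have h4 : ∀ L : Λ, Nat.card {x : L.1 // x ≠ 1} = 4 := fun L => by
    letI := Fintype.ofFinite L.1
    rw [Nat.card_eq_fintype_card, Fintype.card_subtype_compl, Fintype.card_subtype_eq, ← Nat.card_eq_fintype_card, L.2.2]
  have h24 : Nat.card {x : P // x ≠ 1} = 24 := by
    letI := Fintype.ofFinite P
    rw [Nat.card_eq_fintype_card, Fintype.card_subtype_compl, Fintype.card_subtype_eq, ← Nat.card_eq_fintype_card, hP]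
  rw [Finset.sum_congr rfl (fun L _ => h4 L), h24, Finset.sum_const, Finset.card_univ, ← Nat.card_eq_fintype_card,
    smul_eq_mul] at h
  show Nat.card Λ ≤ 6
  omega

namespace Hyp

variable (H : Hyp z Q a σ)
include H

theorem exists_five_pair : ∃ (t f : G) (P : Sylow 5 G), Outer z Q t ∧ f ∈ Cz t ∧ orderOf f = 5 ∧ f ∈ (P : Subgroup G) ∧
    Nat.card (Cz f) = 300 ∧ Nat.card P = 25 ∧ centralizer ((P : Subgroup G) : Set G) = P ∧
    ∃ v ∈ normalizer ((P : Subgroup G) : Set G), IsConj t v ∧ orderOf v = 2 := by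
  classical
  haveI : Fact (Nat.Prime 5) := ⟨by norm_num⟩
  haveI : Fact (Nat.Prime 2) := ⟨Nat.prime_two⟩
  obtain ⟨t, ht⟩ := H.exists_outer
  obtain ⟨w, h, K, W, S, ⟨e⟩⟩ := H.kshape ht
  obtain ⟨x, hx⟩ := exists_prime_orderOf_dvd_card' (G := K) 5
    (by rw [(Nat.card_congr e.toEquiv).trans sixty]; norm_num)
  set f : G := (x : G) with hf
  have of : orderOf f = 5 := by rw [hf, Subgroup.orderOf_coe, hx]
  have hft : f ∈ Cz t := S.le x.2
  obtain ⟨hinv, hshape⟩ := H.cent_shape ht hft (Or.inr of)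
  have hG := (H.card_eq ht).1
  have h25 : 5 ^ 2 ∣ Nat.card (Cz f) := sq_dvd_cent (by rw [hG]; norm_num) of
  rcases hshape with h60 | ⟨ψ, hψ, hker⟩
  · exfalso
    rw [h60, of] at h25
    norm_num at h25
  have hfL : f ∈ Cz f := mem_Cz.2 (Commute.refl f)
  have hkc : Nat.card ψ.ker = 5 := by
    rw [hker, Nat.card_congr (subgroupOfEquivOfLe (zpowers_le.2 hfL)).toEquiv, Nat.card_zpowers, of]
  have hL : Nat.card (Cz f) = 300 := by
    rw [card_eq_card_quotient_mul_card_subgroup ψ.ker,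
      Nat.card_congr (QuotientGroup.quotientKerEquivOfSurjective ψ hψ).toEquiv, sixty, hkc]
  obtain ⟨r, hr⟩ := exists_prime_orderOf_dvd_card' (G := alternatingGroup (Fin 5)) 5 (by rw [sixty]; norm_num)
  set R := zpowers r with hR
  set P' := R.comap ψ with hP'
  have hP'c : Nat.card P' = 25 := by
    have hh : Nat.card (P'.map ψ) = 5 := by
      rw [hP', map_comap_eq_self_of_surjective hψ, hR, Nat.card_zpowers, hr]
    have hkle : ψ.ker ≤ P' := ker_le_comap _ _
    let g := ψ.domRestrict P'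
    have hgr : g.range = P'.map ψ := MonoidHom.domRestrict_range ..
    have hgk : Nat.card g.ker = 5 := by
      refine Eq.trans ?_ hkc
      exact Nat.card_congr
        { toFun := fun y => ⟨y.1.1, y.2⟩
          invFun := fun y => ⟨⟨y.1, hkle y.2⟩, y.2⟩
          left_inv := fun y => rfl
          right_inv := fun y => rfl }
    rw [card_eq_card_quotient_mul_card_subgroup g.ker, Nat.card_congr (QuotientGroup.quotientKerEquivRange g).toEquiv,
      hgr, hh, hgk]
  set P0 := P'.map (Cz f).subtype with hP0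
  have hP0c : Nat.card P0 = 25 := by rw [hP0, card_map_of_injective (Cz f).subtype_injective, hP'c]
  let P : Sylow 5 G := Sylow.ofCard P0 (by
    rw [hP0c, hG, show (604800 : ℕ) = 5 ^ 2 * 24192 by norm_num, Nat.factorization_mul (by norm_num) (by norm_num),
      Finsupp.add_apply, Nat.Prime.factorization_pow (by norm_num), Finsupp.single_eq_same,
      Nat.factorization_eq_zero_of_not_dvd (n := 24192) (by norm_num)]
    norm_num)
  have hfP : f ∈ P0 := by
    refine ⟨⟨f, hfL⟩, ?_, rfl⟩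
    show ψ ⟨f, hfL⟩ ∈ R
    have : (⟨f, hfL⟩ : Cz f) ∈ ψ.ker := by rw [hker]; exact mem_subgroupOf.2 (mem_zpowers f)
    rw [MonoidHom.mem_ker.1 this]; exact one_mem R
  have hPc : centralizer (P0 : Set G) = P0 := by
    refine le_antisymm (fun g hg => ?_) ?_
    · have hgL : g ∈ Cz f := mem_Cz.2 (mem_centralizer_iff.1 hg f hfP).symm
      refine ⟨⟨g, hgL⟩, ?_, rfl⟩
      show ψ ⟨g, hgL⟩ ∈ R
      obtain ⟨y, hy⟩ := hψ r
      have hyP : (y : G) ∈ P0 := ⟨y, show ψ y ∈ R by rw [hy]; exact mem_zpowers r, rfl⟩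
      have hc : Commute (ψ ⟨g, hgL⟩) r := by
        rw [← hy]; exact (show Commute (⟨g, hgL⟩ : Cz f) y from Subtype.ext (mem_centralizer_iff.1 hg _ hyP).symm).map ψ
      have hr1 : (r : Perm (Fin 5)) ≠ 1 := fun e => by
        rw [show r = 1 from Subtype.ext e, orderOf_one] at hr; omega
      obtain ⟨i, hi⟩ := perm_five_cent (r : Perm (Fin 5))
        (by have h := pow_orderOf_eq_one r; rw [hr] at h; exact congrArg Subtype.val h) hr1 _ (congrArg Subtype.val hc.eq)
      exact mem_zpowers_iff.2 ⟨(i : ℕ), by rw [zpow_natCast]; exact Subtype.ext (by rw [SubmonoidClass.coe_pow]; exact hi.symm)⟩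
    · haveI : IsMulCommutative (P0 : Subgroup G) :=
        IsPGroup.isMulCommutative_of_card_eq_prime_sq (p := 5) (by rw [hP0c]; norm_num)
      exact le_centralizer P0
  -- an involution normalising `P`
  obtain ⟨π, hπs, hππ, hπ1, hπr⟩ := perm_five_invert (r : Perm (Fin 5))
    (by have h := pow_orderOf_eq_one r; rw [hr] at h; exact congrArg Subtype.val h)
    (fun e => by rw [show r = 1 from Subtype.ext e, orderOf_one] at hr; omega)
  obtain ⟨y, hy⟩ := hψ ⟨π, Equiv.Perm.mem_alternatingGroup.2 hπs⟩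
  have hyN : (y : Cz f) ∈ normalizer (P' : Set (Cz f)) := by
    have hmap : ∀ x ∈ P', y * x * y⁻¹ ∈ P' := fun x hx => by
      show ψ (y * x * y⁻¹) ∈ R
      obtain ⟨j, hj⟩ := mem_zpowers_iff.1 (show ψ x ∈ R from hx)
      rw [map_mul, map_mul, map_inv, ← hj, hy]
      have e1 : (⟨π, Equiv.Perm.mem_alternatingGroup.2 hπs⟩ : alternatingGroup (Fin 5)) * r *
          (⟨π, Equiv.Perm.mem_alternatingGroup.2 hπs⟩ : alternatingGroup (Fin 5))⁻¹ = r ^ 4 :=
        Subtype.ext (by simpa using hπr)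
      rw [← conj_zpow, e1]
      exact zpow_mem (pow_mem (mem_zpowers r) 4) j
    refine mem_normalizer_iff.2 fun x => ⟨hmap x, fun hx => ?_⟩
    have h2 := hmap _ hx
    have hy2 : y * y ∈ P' := by
      show ψ (y * y) ∈ R
      rw [map_mul, hy, show (⟨π, Equiv.Perm.mem_alternatingGroup.2 hπs⟩ : alternatingGroup (Fin 5)) *
        ⟨π, Equiv.Perm.mem_alternatingGroup.2 hπs⟩ = 1 from Subtype.ext hππ]
      exact one_mem R
    rw [show y * (y * x * y⁻¹) * y⁻¹ = y * y * x * (y * y)⁻¹ by group] at h2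
    have := mul_mem (mul_mem (inv_mem hy2) h2) hy2
    simpa [mul_assoc] using this
  have h2N : 2 ∣ Nat.card (normalizer (P' : Set (Cz f))) := by
    have h1 : orderOf (ψ y) = 2 := by
      rw [hy, Subgroup.orderOf_mk]; exact Cfsg.Lib.InvolCalc.order_two_of_mul_self hππ hπ1
    rw [← h1]
    refine (orderOf_map_dvd ψ y).trans ?_
    rw [← Subgroup.orderOf_mk _ hyN]; exact orderOf_dvd_natCard _
  obtain ⟨v, hv⟩ := exists_prime_orderOf_dvd_card' 2 h2N
  have hv2 : orderOf ((v : Cz f) : G) = 2 := by rw [Subgroup.orderOf_coe, Subgroup.orderOf_coe, hv]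
  have hvN : ((v : Cz f) : G) ∈ normalizer ((P : Subgroup G) : Set G) :=
    le_normalizer_map (Cz f).subtype ⟨(v : Cz f), v.2, rfl⟩
  exact ⟨t, f, P, ht, hft, of, hfP, hL, hP0c, hPc, _, hvN, hinv _ (v : Cz f).2 hv2, hv2⟩

set_option maxHeartbeats 1600000 in
theorem sylow_five (P : Sylow 5 G) : centralizer ((P : Subgroup G) : Set G) = P ∧ Nat.card P = 25 ∧
    Nat.card (normalizer ((P : Subgroup G) : Set G)) = 300 ∧
    ∃ f₁ f₂ : G, f₁ ∈ (P : Subgroup G) ∧ f₂ ∈ (P : Subgroup G) ∧ orderOf f₁ = 5 ∧ orderOf f₂ = 5 ∧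
      (∀ g : G, zpowers (g * f₁ * g⁻¹) ≠ zpowers f₂) ∧
      (∀ L ≤ (P : Subgroup G), Nat.card L = 5 →
        ∃ g : G, zpowers (g * f₁ * g⁻¹) = L ∨ zpowers (g * f₂ * g⁻¹) = L) ∧
      (∃ c : G, c * f₁ * c⁻¹ ∈ Cz z) ∧ Nat.card (Cz f₂) = 300 ∧
      (∃ t, Outer z Q t ∧ ∃ c : G, c * f₂ * c⁻¹ ∈ Cz t) := by
  classical
  haveI : Fact (Nat.Prime 5) := ⟨by norm_num⟩
  haveI : Fact (Nat.Prime 2) := ⟨Nat.prime_two⟩
  have D := H.data
  obtain ⟨t, f₀, P₀, ht, hf₀t, of₀, hf₀P, hL₀, hP₀c, hP₀C, v₀, hv₀N, hv₀t, hv₀⟩ := H.exists_five_pair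
  obtain ⟨c, rfl⟩ := MulAction.exists_smul_eq G P₀ P
  have hmem : ∀ x, x ∈ ((c • P₀ : Sylow 5 G) : Subgroup G) ↔ c⁻¹ * x * c ∈ (P₀ : Subgroup G) := fun x => by
    rw [Sylow.coe_subgroup_smul, Subgroup.mem_pointwise_smul_iff_inv_smul_mem]; simp [MulAut.smul_def]
  set PG : Subgroup G := ((c • P₀ : Sylow 5 G) : Subgroup G) with hPG
  have hcard : Nat.card PG = 25 := by
    rw [hPG, ← hP₀c]; exact ((c • P₀).card_eq_multiplicity).trans P₀.card_eq_multiplicity.symm
  have hcent : centralizer (PG : Set G) = PG := by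
    ext g
    rw [hmem, ← hP₀C, mem_centralizer_iff, mem_centralizer_iff]
    constructor
    · intro h x hx
      have h1 := h (c * x * c⁻¹) ((hmem _).2 (by rw [show c⁻¹ * (c * x * c⁻¹) * c = x by group]; exact hx))
      have h2 := congrArg (fun y => c⁻¹ * y * c) h1
      simpa [mul_assoc] using h2
    · intro h x hx
      have h1 := h (c⁻¹ * x * c) ((hmem x).1 hx)
      have h2 := congrArg (fun y => c * y * c⁻¹) h1
      simpa [mul_assoc] using h2
  set f₂ := c * f₀ * c⁻¹ with hf₂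
  have hf₂P : f₂ ∈ PG := (hmem _).2 (by simpa [hf₂, mul_assoc] using hf₀P)
  have of₂ : orderOf f₂ = 5 := by rw [hf₂, show c * f₀ * c⁻¹ = MulAut.conj c f₀ from rfl, MulEquiv.orderOf_eq, of₀]
  have hcz : ∀ {x g : G}, Cz (g * x * g⁻¹) = (Cz x).map (MulAut.conj g).toMonoidHom := fun {x g} => by
    ext y
    rw [mem_map]
    constructor
    · intro hy
      refine ⟨g⁻¹ * y * g, mem_Cz.2 ((Commute.conj_iff g).1 ?_), show g * (g⁻¹ * y * g) * g⁻¹ = y by group⟩
      rw [show g * (g⁻¹ * y * g) * g⁻¹ = y by group]; exact mem_Cz.1 hy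
    · rintro ⟨u, hu, rfl⟩
      exact mem_Cz.2 ((Commute.conj_iff g).2 (mem_Cz.1 hu))
  have hL₂ : Nat.card (Cz f₂) = 300 := by
    rw [hf₂, hcz, card_map_of_injective (MulAut.conj c).injective]; exact hL₀
  set N := normalizer (PG : Set G) with hN
  set v := c * v₀ * c⁻¹ with hv
  have hvN : v ∈ N := by
    refine mem_normalizer_iff.2 fun x => ?_
    rw [hmem, hmem, (mem_normalizer_iff.1 hv₀N (c⁻¹ * x * c))]
    rw [hv]
    simp [mul_assoc]
  have hvt : IsConj t v := hv₀t.trans (isConj_iff.2 ⟨c, rfl⟩)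
  have ot : orderOf t = 2 := Cfsg.Lib.InvolCalc.order_two_of_mul_self ht.2.1 fun e => ht.2.2 (e ▸ one_mem Q)
  have ov : orderOf v = 2 := order_two_of_conj ot hvt
  -- the element centralised by a conjugate of `z`
  obtain ⟨f, -, hf, of, -, -⟩ := H.exists_inverting_five
  obtain ⟨hzinv, h4, -, hNf, O, hOL, hOn, hOc, hOodd, hOmem⟩ := H.five_z hf of
  have hfP' : IsPGroup 5 (zpowers f) := IsPGroup.of_card (n := 1) (by rw [Nat.card_zpowers, of, pow_one])
  obtain ⟨R, hR⟩ := hfP'.exists_le_sylow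
  have hRc : Nat.card R = 25 := (R.card_eq_multiplicity.trans P₀.card_eq_multiplicity.symm).trans hP₀c
  haveI : IsMulCommutative (R : Subgroup G) := IsPGroup.isMulCommutative_of_card_eq_prime_sq (p := 5) (by rw [hRc]; norm_num)
  have hRL : (R : Subgroup G) ≤ Cz f := fun x hx =>
    mem_Cz.2 (congrArg Subtype.val (mul_comm' (⟨x, hx⟩ : (R : Subgroup G)) ⟨f, hR (mem_zpowers f)⟩))
  have hRO : (R : Subgroup G) ≤ O := fun x hx => hOmem x (hRL hx) (by
    have h1 := orderOf_dvd_natCard (⟨x, hx⟩ : (R : Subgroup G))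
    rw [Subgroup.orderOf_mk, hRc] at h1
    exact (by decide : Odd 25).of_dvd_nat h1)
  obtain ⟨u, huN, hu2⟩ : ∃ u ∈ Cz f ⊓ normalizer ((R : Subgroup G) : Set G), orderOf u = 2 := by
    set L := Cz f
    set O' := O.subgroupOf L with hO'
    haveI hO'n : O'.Normal := ⟨fun x hx g => mem_subgroupOf.2 (hOn g g.2 x (mem_subgroupOf.1 hx))⟩
    set R' := (R : Subgroup G).subgroupOf L with hR'
    have hR'O : R' ≤ O' := fun x hx => mem_subgroupOf.2 (hRO (mem_subgroupOf.1 hx))
    let T : Sylow 5 O' := (IsPGroup.of_card (n := 2) (by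
        rw [Nat.card_congr (subgroupOfEquivOfLe hR'O).toEquiv, Nat.card_congr (subgroupOfEquivOfLe hRL).toEquiv, hRc]
        norm_num) : IsPGroup 5 (R'.subgroupOf O')).toSylow (fun hd => R.not_dvd_index (hd.trans (by
          exact (relIndex_dvd_index_of_le hR'O).trans (relIndex_dvd_index_of_le hRL))))
    have hfr := Sylow.normalizer_sup_eq_top (N := O') T
    rw [show ((T : Subgroup O').map O'.subtype) = R' from map_subgroupOf_eq_of_le hR'O] at hfr
    have h2 : 2 ∣ Nat.card (normalizer (R' : Set L)) := by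
      by_contra hodd
      have hle : normalizer (R' : Set L) ≤ O' := fun x hx => mem_subgroupOf.2 (hOmem x x.2 (by
        rw [Subgroup.orderOf_coe]
        refine Odd.of_dvd_nat (Nat.odd_iff.2 (Nat.two_dvd_ne_zero.1 hodd)) ?_
        rw [← Subgroup.orderOf_mk x hx]; exact orderOf_dvd_natCard _))
      rw [sup_eq_right.2 hle] at hfr
      have h1 : Nat.card L = Nat.card O := by
        rw [← Nat.card_congr (subgroupOfEquivOfLe hOL).toEquiv, ← hO', hfr, card_top]
      rw [hOc] at h1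
      have : 0 < Nat.card O := Nat.card_pos
      omega
    obtain ⟨u, hu⟩ := exists_prime_orderOf_dvd_card' 2 h2
    refine ⟨((u : L) : G), ⟨(u : L).2, ?_⟩, by rw [Subgroup.orderOf_coe, Subgroup.orderOf_coe, hu]⟩
    rw [show (R : Subgroup G) = R'.map L.subtype from (map_subgroupOf_eq_of_le hRL).symm]
    exact le_normalizer_map L.subtype ⟨(u : L), u.2, rfl⟩
  have huz : IsConj z u := hzinv u huN.1 hu2
  obtain ⟨d, hd⟩ := MulAction.exists_smul_eq G R (c • P₀)
  have hdmem : ∀ x, x ∈ PG ↔ d⁻¹ * x * d ∈ (R : Subgroup G) := fun x => by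
    rw [hPG, ← hd, Sylow.coe_subgroup_smul, Subgroup.mem_pointwise_smul_iff_inv_smul_mem]; simp [MulAut.smul_def]
  set f₁ := d * f * d⁻¹ with hf₁
  have hf₁P : f₁ ∈ PG := (hdmem _).2 (by simpa [hf₁, mul_assoc] using hR (mem_zpowers f))
  have of₁ : orderOf f₁ = 5 := by rw [hf₁, show d * f * d⁻¹ = MulAut.conj d f from rfl, MulEquiv.orderOf_eq, of]
  set u₁ := d * u * d⁻¹ with hu₁
  have hu₁N : u₁ ∈ N := by
    refine mem_normalizer_iff.2 fun x => ?_
    rw [hdmem, hdmem, (mem_normalizer_iff.1 huN.2 (d⁻¹ * x * d))]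
    rw [hu₁]
    simp [mul_assoc]
  have hu₁z : IsConj z u₁ := huz.trans (isConj_iff.2 ⟨d, rfl⟩)
  -- the orders
  have hG := (H.card_eq ht).1
  have hzt := H.outer_not_conj ht
  have hne : ∀ g : G, zpowers (g * f₁ * g⁻¹) ≠ zpowers f₂ := by
    intro g hg
    have h1 : Cz f₂ = Cz (g * f₁ * g⁻¹) := by
      show centralizer {f₂} = centralizer {g * f₁ * g⁻¹}
      rw [← centralizer_closure, ← centralizer_closure ({g * f₁ * g⁻¹} : Set G), ← zpowers_eq_closure, ← zpowers_eq_closure, hg]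
    have h2 : g * (d * z * d⁻¹) * g⁻¹ ∈ Cz f₂ := by
      rw [h1, hcz, hf₁, hcz]
      exact mem_map.2 ⟨d * z * d⁻¹, mem_map.2 ⟨z, mem_Cz.2 (D.commC hf).symm, rfl⟩, rfl⟩
    obtain ⟨hinv, -⟩ := H.cent_shape ht hf₀t (Or.inr of₀)
    rw [hf₂, hcz] at h2
    obtain ⟨y, hy, hy'⟩ := mem_map.1 h2
    have hzy : IsConj z y :=
      (isConj_iff.2 ⟨d, rfl⟩ : IsConj z (d * z * d⁻¹)).trans ((isConj_iff.2 ⟨g, rfl⟩ : IsConj _ _).trans
        (hy' ▸ (isConj_iff.2 ⟨c, rfl⟩ : IsConj y ((MulAut.conj c).toMonoidHom y)).symm))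
    exact hzt (hzy.trans (hinv y hy (order_two_of_conj H.oz hzy)).symm)
  have hPN : PG ≤ N := le_normalizer
  have hnodd : ∀ f' ∈ PG, orderOf f' = 5 → ∀ p, p.Prime → (p = 3 ∨ p = 7) → ¬ p ∣ Nat.card (lineStab N f') := by
    intro f' hf' of' p hp hp37 hdvd
    haveI : Fact p.Prime := ⟨hp⟩
    obtain ⟨g, hg⟩ := exists_prime_orderOf_dvd_card' p hdvd
    have og : orderOf (g : G) = p := by rw [Subgroup.orderOf_coe, hg]
    obtain ⟨hgN, hgl⟩ := mem_inf.1 g.2
    have hgf : Commute (g : G) f' := by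
      have h1 : (g : G) * f' * (g : G)⁻¹ ∈ zpowers f' := (mem_normalizer_iff.1 hgl f').1 (mem_zpowers f')
      obtain ⟨j, hj⟩ := mem_zpowers_iff.1 h1
      have hit : ∀ n : ℕ, (g : G) ^ n * f' * ((g : G) ^ n)⁻¹ = f' ^ (j ^ n) := by
        intro n
        induction n with
        | zero => simp
        | succ n ih =>
          rw [pow_succ', show (g : G) * (g : G) ^ n * f' * ((g : G) * (g : G) ^ n)⁻¹ =
            (g : G) * ((g : G) ^ n * f' * ((g : G) ^ n)⁻¹) * (g : G)⁻¹ by group, ih, ← conj_zpow, ← hj, ← zpow_mul,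
            ← pow_succ']
      have hg4 : Commute ((g : G) ^ 4) f' := by
        refine mul_inv_eq_iff_eq_mul.1 ?_
        rw [hit 4]
        have hj5 : ¬ (5 : ℤ) ∣ j := by
          rintro ⟨i, rfl⟩
          rw [zpow_mul, show f' ^ (5 : ℤ) = 1 by rw [zpow_ofNat, ← of', pow_orderOf_eq_one], one_zpow] at hj
          rw [conj_eq_one_iff.1 hj.symm, orderOf_one] at of'
          omega
        have hm : ((orderOf f' : ℕ) : ℤ) ∣ j ^ 4 - 1 := by
          rw [of', ← ZMod.intCast_zmod_eq_zero_iff_dvd, Int.cast_sub, Int.cast_pow, Int.cast_one, sub_eq_zero]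
          exact zmod_five _ fun e => hj5 ((ZMod.intCast_zmod_eq_zero_iff_dvd _ _).1 e)
        rw [orderOf_dvd_iff_zpow_eq_one, zpow_sub, zpow_one, mul_inv_eq_one] at hm
        exact hm
      have hodd : Odd (orderOf (g : G)) := by rw [og]; rcases hp37 with rfl | rfl <;> decide
      exact Cfsg.Lib.LargeExtra.commute_of_pow (n := 2) hodd hg4
    -- `g` fixes all of `P`
    let φ : PG →* PG :=
      { toFun := fun x => ⟨(g : G) * x * (g : G)⁻¹, (mem_normalizer_iff.1 hgN x).1 x.2⟩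
        map_one' := Subtype.ext (by simp)
        map_mul' := fun x y => Subtype.ext (by simp [mul_assoc]) }
    have hφit : ∀ n x, (((⇑φ)^[n] x : PG) : G) = (g : G) ^ n * x * ((g : G) ^ n)⁻¹ := fun n x => by
      induction n with
      | zero => simp
      | succ n ih =>
        rw [Function.iterate_succ_apply']
        show (g : G) * _ * (g : G)⁻¹ = _
        rw [ih, pow_succ']; group
    letI := Fintype.ofFinite PG
    let πe : Function.End PG := fun x => φ x
    have hπ : πe ^ p ^ 1 = 1 := by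
      funext x
      refine Subtype.ext ?_
      have : ∀ n : ℕ, (πe ^ n : Function.End PG) = (⇑φ)^[n] := fun n => by
        induction n with
        | zero => rfl
        | succ n ih => rw [pow_succ', ih, Function.iterate_succ']; rfl
      rw [this]
      show (((⇑φ)^[p ^ 1] x : PG) : G) = x
      rw [hφit, pow_one, ← og, pow_orderOf_eq_one]; group
    letI := Fintype.ofFinite (Function.fixedPoints πe)
    have hmod := Equiv.Perm.card_fixedPoints_modEq (p := p) (n := 1) hπ
    set F : Subgroup PG := (Cz (g : G)).subgroupOf PG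
    have hF : Nat.card (Function.fixedPoints πe) = Nat.card F := by
      refine Nat.card_congr (Equiv.subtypeEquivRight fun x => ?_)
      show φ x = x ↔ _
      rw [Subtype.ext_iff, mem_subgroupOf, mem_Cz]
      show (g : G) * x * (g : G)⁻¹ = x ↔ _
      rw [mul_inv_eq_iff_eq_mul]
      exact ⟨fun h => h.symm, fun h => h.eq.symm⟩
    simp only [← Nat.card_eq_fintype_card] at hmod
    rw [hF, hcard] at hmod
    have hd25 : Nat.card F ∣ 5 ^ 2 := by
      have := card_subgroup_dvd_card F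
      rwa [hcard] at this
    obtain ⟨i, hi2, hi⟩ := (Nat.dvd_prime_pow (by norm_num : Nat.Prime 5)).1 hd25
    have hi1 : i ≠ 0 := fun h0 => by
      rw [h0, pow_zero] at hi
      have := Subgroup.eq_bot_of_card_eq F hi
      have hfF : (⟨f', hf'⟩ : PG) ∈ F := mem_subgroupOf.2 (mem_Cz.2 hgf.symm)
      rw [this, mem_bot] at hfF
      rw [show f' = 1 from congrArg Subtype.val hfF, orderOf_one] at of'
      omega
    have hi' : i = 2 := by
      by_contra hne2
      obtain rfl : i = 1 := by omega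
      rw [hi, pow_one] at hmod
      rcases hp37 with rfl | rfl <;> exact absurd hmod (by decide)
    have htop : F = ⊤ := eq_top_of_card_eq F (by rw [hi, hi', hcard]; norm_num)
    have hgP : (g : G) ∈ PG := by
      rw [← hcent]
      refine mem_centralizer_iff.2 fun x hx => ?_
      exact (mem_Cz.1 (mem_subgroupOf.1 (htop ▸ mem_top (⟨x, hx⟩ : PG)))).eq
    have := orderOf_dvd_natCard (⟨(g : G), hgP⟩ : PG)
    rw [Subgroup.orderOf_mk, og, hcard] at this
    rcases hp37 with rfl | rfl <;> norm_num at this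
  -- sizes
  obtain ⟨k, hk⟩ : 25 ∣ Nat.card N := hcard ▸ card_dvd_of_le hPN
  have hk5 : 24192 % k = 0 ∧ 24192 / k % 5 = 1 := by
    have h1 := N.card_mul_index
    have hmod : Nat.card (Sylow 5 G) % 5 = 1 := card_sylow_modEq_one 5 G
    rw [(c • P₀).card_eq_index_normalizer] at hmod
    change N.index % 5 = 1 at hmod
    rw [hk, hG, mul_assoc] at h1
    have h2 : k * N.index = 24192 := by omega
    have hkpos : 0 < k := by
      rcases Nat.eq_zero_or_pos k with r | r
      · rw [r] at h2; omega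
      · exact r
    rw [← h2, Nat.mul_mod_right, Nat.mul_div_cancel_left _ hkpos]
    exact ⟨rfl, hmod⟩
  have hstab : ∀ f' ∈ PG, orderOf f' = 5 → ∃ s, Nat.card (lineStab N f') = 25 * s ∧ s ∣ k ∧ ¬ 3 ∣ s ∧ ¬ 7 ∣ s := by
    intro f' hf' of'
    have hPS : PG ≤ lineStab N f' := le_inf hPN fun x hx => by
      haveI : IsMulCommutative PG := IsPGroup.isMulCommutative_of_card_eq_prime_sq (p := 5) (by rw [hcard]; norm_num)
      rw [mem_normalizer_zpowers, show x * f' = f' * x from congrArg Subtype.val (mul_comm' (⟨x, hx⟩ : PG) ⟨f', hf'⟩),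
        mul_inv_cancel_right]
    obtain ⟨s, hs⟩ : 25 ∣ Nat.card (lineStab N f') := hcard ▸ card_dvd_of_le hPS
    refine ⟨s, hs, ?_, fun h => hnodd f' hf' of' 3 Nat.prime_three (Or.inl rfl) (hs ▸ Dvd.dvd.mul_left h 25),
      fun h => hnodd f' hf' of' 7 (by norm_num) (Or.inr rfl) (hs ▸ Dvd.dvd.mul_left h 25)⟩
    refine Nat.dvd_of_mul_dvd_mul_left (by norm_num : 0 < 25) ?_
    rw [← hs, ← hk]
    exact card_dvd_of_le inf_le_left
  have horbit : ∀ f' ∈ PG, orderOf f' = 5 → ∀ L, (∃ n ∈ N, L = zpowers (n * f' * n⁻¹)) → L ≤ PG ∧ Nat.card L = 5 := by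
    rintro f' hf' of' L ⟨n, hn, rfl⟩
    refine ⟨zpowers_le.2 ((mem_normalizer_iff.1 hn f').1 hf'), ?_⟩
    rw [Nat.card_zpowers, show n * f' * n⁻¹ = MulAut.conj n f' from rfl, MulEquiv.orderOf_eq, of']
  let O1 := {L : Subgroup G // ∃ n ∈ N, L = zpowers (n * f₁ * n⁻¹)}
  let O2 := {L : Subgroup G // ∃ n ∈ N, L = zpowers (n * f₂ * n⁻¹)}
  let Λ := {L : Subgroup G // L ≤ PG ∧ Nat.card L = 5}
  let j : O1 ⊕ O2 → Λ := Sum.elim (fun L => ⟨L.1, horbit f₁ hf₁P of₁ L.1 L.2⟩) fun L => ⟨L.1, horbit f₂ hf₂P of₂ L.1 L.2⟩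
  have hjinj : Function.Injective j := by
    have hsep : ∀ (L : O1) (L' : O2), L.1 ≠ L'.1 := by
      rintro ⟨L, n, hn, rfl⟩ ⟨L', n', hn', rfl⟩ (e : zpowers _ = zpowers _)
      refine hne (n'⁻¹ * n) ?_
      have := congrArg (fun M : Subgroup G => M.map (MulAut.conj n'⁻¹).toMonoidHom) e
      simp only [map_conj_zpowers] at this
      simpa [mul_assoc] using this
    rintro (L | L) (L' | L') e
    · exact congrArg Sum.inl (Subtype.ext (congrArg (fun M : Λ => M.1) e))
    · exact absurd (congrArg (fun M : Λ => M.1) e) (hsep L L')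
    · exact absurd (congrArg (fun M : Λ => M.1) e).symm (hsep L' L)
    · exact congrArg Sum.inr (Subtype.ext (congrArg (fun M : Λ => M.1) e))
  have hjle := Nat.card_le_card_of_injective j hjinj
  have hΛ : Nat.card Λ ≤ 6 := lines_le PG hcard
  rw [Nat.card_sum] at hjle
  obtain ⟨s₁, hs₁, hs₁k, h31, h71⟩ := hstab f₁ hf₁P of₁
  obtain ⟨s₂, hs₂, hs₂k, h32, h72⟩ := hstab f₂ hf₂P of₂
  have ho1 := orbit_card N f₁
  have ho2 := orbit_card N f₂
  rw [hs₁, hk] at ho1
  rw [hs₂, hk] at ho2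
  change 25 * k = Nat.card O1 * _ at ho1
  change 25 * k = Nat.card O2 * _ at ho2
  have hn1 : k = Nat.card O1 * s₁ := Nat.eq_of_mul_eq_mul_left (by norm_num) (ho1.trans (mul_left_comm _ _ _))
  have hn2 : k = Nat.card O2 * s₂ := Nat.eq_of_mul_eq_mul_left (by norm_num) (ho2.trans (mul_left_comm _ _ _))
  have hO2pos : 0 < Nat.card O2 := by
    haveI : Nonempty O2 := ⟨⟨zpowers f₂, 1, one_mem N, by simp⟩⟩
    exact Nat.card_pos
  -- the two part of the stabilizer of the first line is at most four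
  have hs8 : ¬ 8 ∣ s₁ := by
    intro h8
    have hcz1 : Nat.card (Cz f₁) = Nat.card (Cz f) := by rw [hf₁, hcz, card_map_of_injective (MulAut.conj d).injective]
    have h1 : 8 ∣ Nat.card (normalizer (zpowers f₁ : Set G)) :=
      (h8.trans (hs₁ ▸ dvd_mul_left s₁ 25)).trans (card_dvd_of_le inf_le_right)
    have h2 : Nat.card (normalizer (zpowers f₁ : Set G)) = Nat.card (normalizer (zpowers f : Set G)) := by
      rw [hf₁, ← map_conj_zpowers, ← map_equiv_normalizer_eq, card_map_of_injective (MulAut.conj d).injective]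
    rw [h2] at h1
    have := h1.trans hNf
    exact h4 (by omega)
  have hkd : k ∣ 24192 := Nat.dvd_of_mod_eq_zero hk5.1
  have hs₁24 : s₁ ∣ 2 ^ 2 := by
    have h1 : s₁ ∣ 2 ^ 7 * (3 ^ 3 * 7) := hs₁k.trans (hkd.trans (by norm_num))
    have hc : s₁.Coprime (3 ^ 3 * 7) :=
      Nat.Coprime.mul_right (((Nat.prime_three.coprime_iff_not_dvd).2 h31).symm.pow_right 3)
        ((((by norm_num : Nat.Prime 7)).coprime_iff_not_dvd).2 h71).symm
    obtain ⟨i, hi, rfl⟩ := (Nat.dvd_prime_pow Nat.prime_two).1 (hc.dvd_of_dvd_mul_right h1)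
    refine pow_dvd_pow 2 ?_
    by_contra hlt
    exact hs8 (show 2 ^ 3 ∣ 2 ^ i from pow_dvd_pow 2 (by omega))
  have hs₁le : s₁ ≤ 4 := Nat.le_of_dvd (by norm_num) hs₁24
  have hklt : k < 25 := by nlinarith
  have hk12 : k = 12 := by
    rcases orbit_arith k hklt hk5.1 hk5.2 with e | e | e
    · exfalso
      -- otherwise the involutions of `N` are conjugate
      have hN50 : Nat.card N = 2 * 25 := by rw [hk, e]
      have T : Sylow 2 N := default
      have hTc : Nat.card T = 2 := by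
        rw [T.card_eq_multiplicity, hN50, Nat.factorization_mul (by norm_num) (by norm_num), Finsupp.add_apply,
          Nat.Prime.factorization_self Nat.prime_two, Nat.factorization_eq_zero_of_not_dvd (n := 25) (by norm_num)]
        rfl
      haveI : Nontrivial (T : Subgroup N) := Finite.one_lt_card_iff_nontrivial.1 (by omega)
      obtain ⟨w, hw⟩ := exists_ne (1 : (T : Subgroup N))
      have hall : ∀ x ∈ N, orderOf x = 2 → IsConj ((w : N) : G) x := by
        intro x hx ox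
        obtain ⟨g, hg⟩ := Cfsg.Lib.InvolCalc.exists_conj_le T (H := zpowers (⟨x, hx⟩ : N))
          (IsPGroup.of_card (n := 1) (by rw [Nat.card_zpowers, Subgroup.orderOf_mk, ox, pow_one]))
        have h1 := hg _ (mem_zpowers _)
        letI := Fintype.ofFinite (T : Subgroup N)
        have hTall : ∀ y : (T : Subgroup N), y = 1 ∨ y = w := fun y => by
          by_contra hcon
          push Not at hcon
          have := Finset.card_le_univ ({1, w, y} : Finset (T : Subgroup N))
          rw [Finset.card_insert_of_notMem (by simp [hw.symm, hcon.1.symm]), Finset.card_pair hcon.2.symm,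
            ← Nat.card_eq_fintype_card, hTc] at this
          omega
        rcases hTall ⟨_, h1⟩ with r | r
        · exfalso
          have e' : g⁻¹ * (⟨x, hx⟩ : N) * g = 1 := congrArg Subtype.val r
          have hx1 : (⟨x, hx⟩ : N) = 1 := by
            rw [show (⟨x, hx⟩ : N) = g * (g⁻¹ * ⟨x, hx⟩ * g) * g⁻¹ by group, e']; group
          rw [show x = 1 from congrArg Subtype.val hx1, orderOf_one] at ox
          omega
        · have e' : ((w : N) : G) = (g : G)⁻¹ * x * (g : G) :=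
            (congrArg (fun y : (T : Subgroup N) => ((y : N) : G)) r).symm
          exact isConj_iff.2 ⟨(g : G), by rw [e']; group⟩
      exact hzt ((hu₁z.trans (hall u₁ hu₁N (order_two_of_conj H.oz hu₁z)).symm).trans
        ((hall v hvN ov).trans hvt.symm))
    · exfalso
      subst e
      obtain ⟨i, hi, e1⟩ := (Nat.dvd_prime_pow Nat.prime_two).1 hs₁24
      rcases (Nat.dvd_prime (by norm_num : Nat.Prime 7)).1 hs₁k with r | r
      · rw [r, mul_one] at hn1
        omega
      · omega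
    · exact e
  subst hk12
  have h3 : ∀ {s n : ℕ}, ¬ 3 ∣ s → 12 = n * s → 3 ∣ n := fun {s n} hs he =>
    ((Nat.prime_three.coprime_iff_not_dvd).2 hs).dvd_of_dvd_mul_right ⟨4, by omega⟩
  have hO13 := h3 h31 hn1
  have hO23 := h3 h32 hn2
  have hO1pos : 0 < Nat.card O1 := by
    haveI : Nonempty O1 := ⟨⟨zpowers f₁, 1, one_mem N, by simp⟩⟩
    exact Nat.card_pos
  have hjsurj : Function.Surjective j := by
    refine ((Nat.bijective_iff_injective_and_card j).2 ⟨hjinj, ?_⟩).2
    rw [Nat.card_sum]; omega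
  refine ⟨hcent, hcard, hk, f₁, f₂, hf₁P, hf₂P, of₁, of₂, hne, fun L hL hL5 => ?_, ⟨d⁻¹, ?_⟩, hL₂, t, ht, c⁻¹, ?_⟩
  · obtain ⟨(o | o), ho⟩ := hjsurj ⟨L, hL, hL5⟩
    · obtain ⟨n, -, hn⟩ := o.2
      exact ⟨n, Or.inl (hn.symm.trans (congrArg (fun M : Λ => M.1) ho))⟩
    · obtain ⟨n, -, hn⟩ := o.2
      exact ⟨n, Or.inr (hn.symm.trans (congrArg (fun M : Λ => M.1) ho))⟩
  · rw [hf₁, inv_inv, show d⁻¹ * (d * f * d⁻¹) * d = f by group]; exact hf
  · rw [hf₂, inv_inv, show c⁻¹ * (c * f₀ * c⁻¹) * c = f₀ by group]; exact hf₀t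

end Hyp

end Cfsg.Lib.HallJankoType
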