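import Cfsg.Agent.LocalThree.HallJankoType.Exclude
import Cfsg.Agent.LocalThree.HallJankoType.KleinCases

/-!
Centralizers of elements of order three and five commuting with an outer involution.
-/

set_option autoImplicit false
set_option linter.unusedSectionVars false
set_option linter.style.haveILetI false

namespace Cfsg.Lib.HallJankoType

open Subgroup Equiv

universe u

variable {G : Type u} [Group G] [Finite G] {z : G} {Q : Subgroup G} {a : Fin 5 → G} {σ : Cz z →* Perm (Fin 5)}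

theorem perm_three_cent : ∀ ρ : Perm (Fin 5), ρ ^ 3 = 1 → ρ ≠ 1 → ∀ π : Perm (Fin 5), π * ρ = ρ * π →
    Perm.sign π = 1 → ∃ i : Fin 3, π = ρ ^ (i : ℕ) := by decide +kernel

/-- in a group of prime power order `p²` or more, an element of order `p` has centralizer of order divisible by `p²` -/
theorem sq_dvd_cent {p : ℕ} [hp : Fact p.Prime] (hG : p ^ 2 ∣ Nat.card G) {x : G} (hx : orderOf x = p) :
    p ^ 2 ∣ Nat.card (centralizer ({x} : Set G)) := by
  classical
  obtain ⟨P, hP⟩ := (IsPGroup.of_card (n := 1) (by rw [Nat.card_zpowers, hx, pow_one]) :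
    IsPGroup p (zpowers x)).exists_le_sylow
  have hxP : x ∈ (P : Subgroup G) := hP (mem_zpowers x)
  set x' : (P : Subgroup G) := ⟨x, hxP⟩
  have hP2 : p ^ 2 ∣ Nat.card (P : Subgroup G) := P.pow_dvd_card_of_pow_dvd_card hG
  set M := centralizer ({x'} : Set (P : Subgroup G)) with hM
  suffices h : p ^ 2 ∣ Nat.card M by
    refine h.trans (card_dvd_of_injective ((((P : Subgroup G).subtype).comp M.subtype).codRestrict
      (centralizer ({x} : Set G)) fun m => mem_centralizer_singleton_iff.2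
        (congrArg Subtype.val (mem_centralizer_singleton_iff.1 m.2))) fun a b e => ?_)
    exact Subtype.ext (Subtype.ext (show ((a : (P : Subgroup G)) : G) = ((b : (P : Subgroup G)) : G) from
      congrArg (fun y : centralizer ({x} : Set G) => (y : G)) e))
  obtain ⟨i, hi⟩ := (IsPGroup.iff_card.1 (P.isPGroup'.to_subgroup M))
  rcases Nat.lt_or_ge i 2 with hlt | hge
  · exfalso
    have hxM : zpowers x' ≤ M := zpowers_le.2 (mem_centralizer_singleton_iff.2 rfl)
    have hcard : Nat.card (zpowers x') = p := by rw [Nat.card_zpowers, Subgroup.orderOf_mk, hx]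
    have hMle : Nat.card M ≤ p := by
      rw [hi]
      calc p ^ i ≤ p ^ 1 := Nat.pow_le_pow_right hp.out.pos (by omega)
        _ = p := pow_one p
    have hMeq : zpowers x' = M := eq_of_le_of_card_ge hxM (hMle.trans hcard.ge)
    haveI : Nontrivial (P : Subgroup G) := ⟨⟨x', 1, fun e => by
      rw [show x = 1 from congrArg Subtype.val e, orderOf_one] at hx
      exact hp.out.ne_one hx.symm⟩⟩
    haveI := P.isPGroup'.center_nontrivial
    obtain ⟨c, hc⟩ := exists_ne (1 : center (P : Subgroup G))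
    have hcM : (c : (P : Subgroup G)) ∈ zpowers x' := hMeq.ge (mem_centralizer_singleton_iff.2 (mem_center_iff.1 c.2 x').symm)
    have hcx : zpowers (c : (P : Subgroup G)) = zpowers x' := by
      refine eq_of_le_of_card_ge (zpowers_le.2 hcM) ?_
      rw [hcard, Nat.card_zpowers]
      have hd : orderOf (c : (P : Subgroup G)) ∣ p := by
        have h0 := orderOf_dvd_natCard (⟨_, hcM⟩ : zpowers x')
        rw [Subgroup.orderOf_mk] at h0
        exact h0.trans (dvd_of_eq hcard)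
      rcases (Nat.dvd_prime hp.out).1 hd with e | e
      · exact absurd (Subtype.ext (orderOf_eq_one_iff.1 e)) hc
      · exact e.ge
    have hall : M = ⊤ := eq_top_iff.2 fun m _ => mem_centralizer_singleton_iff.2 (by
      obtain ⟨j, hj⟩ := mem_zpowers_iff.1 (hcx.ge (mem_zpowers x'))
      rw [← hj]
      exact ((show Commute m (c : (P : Subgroup G)) from mem_center_iff.1 c.2 m).zpow_right j).eq)
    have h2 : p ^ 2 ≤ Nat.card M := by
      rw [hall, card_top]; exact Nat.le_of_dvd Nat.card_pos hP2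
    have : p < p ^ 2 := by rw [pow_two]; exact lt_mul_self hp.out.one_lt
    omega
  · rw [hi]; exact pow_dvd_pow p hge

namespace TData

variable {t w h : G} {K W : Subgroup G} (S : TData z Q t w h K W)
include S

theorem card_W : Nat.card W = 4 := by
  let f : K × W → Cz t := fun p => ⟨p.1 * p.2, mul_mem (S.le p.1.2) (mem_inf.1 (S.Wle p.2.2)).2⟩
  have hf : Function.Bijective f := by
    constructor
    · rintro ⟨k, u⟩ ⟨k', u'⟩ e
      have e' : (k : G) * u = k' * u' := congrArg Subtype.val e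
      have h2 : (k' : G)⁻¹ * k = u' * (u : G)⁻¹ := by
        rw [eq_mul_inv_iff_mul_eq, mul_assoc, e', inv_mul_cancel_left]
      have h1 := S.disj _ (mul_mem (inv_mem k'.2) k.2) (h2 ▸ mul_mem u'.2 (inv_mem u.2))
      have hk : (k : G) = k' := (inv_mul_eq_one.1 h1).symm
      rw [hk] at e'
      exact Prod.ext (Subtype.ext hk) (Subtype.ext (mul_left_cancel e'))
    · rintro ⟨g, hg⟩
      obtain ⟨k, hk, u, hu, e⟩ := S.decomp g hg
      exact ⟨(⟨k, hk⟩, ⟨u, hu⟩), Subtype.ext e.symm⟩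
  have := Nat.card_congr (Equiv.ofBijective f hf)
  rw [Nat.card_prod, S.card, mul_comm] at this
  exact Nat.eq_of_mul_eq_mul_right Nat.card_pos this

theorem mem_K_of_odd (hz1 : z ≠ 1) {x : G} (hx : x ∈ Cz t) (ho : Odd (orderOf x)) : x ∈ K := by
  obtain ⟨k, hk, u, hu, rfl⟩ := S.decomp x hx
  obtain ⟨n, hn⟩ := ho
  have h1 := pow_orderOf_eq_one (k * u)
  have huu : u * u = 1 := S.tri.props.sq _ (S.Wle hu)
  rw [(S.commute_W hz1 hu hk).symm.mul_pow, hn, pow_succ u, pow_mul u, pow_two, huu, one_pow, one_mul] at h1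
  have hu1 : u = 1 := S.disj u (by rw [eq_inv_of_mul_eq_one_right h1]; exact inv_mem (pow_mem hk _)) hu
  rw [hu1, mul_one]; exact hk

theorem cent_cyclic (e : K ≃* alternatingGroup (Fin 5)) {x k : G} (hx : x ∈ K) (ho : orderOf x = 3 ∨ orderOf x = 5)
    (hk : k ∈ K) (hc : Commute k x) : k ∈ zpowers x := by
  set ρ : Perm (Fin 5) := (e ⟨x, hx⟩ : Perm (Fin 5)) with hρ
  set π : Perm (Fin 5) := (e ⟨k, hk⟩ : Perm (Fin 5)) with hπ
  have hρo : orderOf ρ = orderOf x := by
    rw [hρ, Subgroup.orderOf_coe, MulEquiv.orderOf_eq, Subgroup.orderOf_mk]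
  have hcomm : π * ρ = ρ * π := by
    rw [hρ, hπ, ← Subgroup.coe_mul, ← Subgroup.coe_mul, ← map_mul, ← map_mul]
    exact congrArg (fun y : K => ((e y : alternatingGroup (Fin 5)) : Perm (Fin 5))) (Subtype.ext hc.eq)
  have hρp : ρ ^ orderOf x = 1 := hρo ▸ pow_orderOf_eq_one ρ
  have hρ1 : ρ ≠ 1 := fun h => by
    rw [h, orderOf_one] at hρo
    omega
  have hpow : ∃ i : ℕ, π = ρ ^ i := by
    rcases ho with o | o <;> rw [o] at hρp
    · obtain ⟨i, hi⟩ := perm_three_cent ρ hρp hρ1 π hcomm (Equiv.Perm.mem_alternatingGroup.1 (e ⟨k, hk⟩).2)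
      exact ⟨i, hi⟩
    · obtain ⟨i, hi⟩ := perm_five_cent ρ hρp hρ1 π hcomm
      exact ⟨i, hi⟩
  obtain ⟨i, hi⟩ := hpow
  have : (⟨k, hk⟩ : K) = ⟨x, hx⟩ ^ i := e.injective (Subtype.ext (by rw [map_pow, SubmonoidClass.coe_pow]; exact hi))
  rw [show k = x ^ i from congrArg Subtype.val this]
  exact pow_mem (mem_zpowers x) i

end TData

namespace Hyp

variable (H : Hyp z Q a σ)
include H

theorem kshape {t : G} (ht : Outer z Q t) :
    ∃ w h K W, TData z Q t w h K W ∧ Nonempty (K ≃* alternatingGroup (Fin 5)) := by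
  obtain ⟨w, h, K, W, S⟩ := H.exists_tdata ht
  refine ⟨w, h, K, W, S, ?_⟩
  rcases H.order_cases ht S with ⟨h1, -⟩ | ⟨-, -, he⟩
  · rw [(H.card_eq ht).1] at h1
    norm_num at h1
  · exact he

/-- the centralizer of `x` in `C(t)` -/
theorem cent_in_X {t x : G} {w h : G} {K W : Subgroup G} (S : TData z Q t w h K W)
    (e : K ≃* alternatingGroup (Fin 5)) (hx : x ∈ K) (ho : orderOf x = 3 ∨ orderOf x = 5) :
    Nat.card ↥(Cz x ⊓ Cz t) = 4 * orderOf x ∧
      ∀ g ∈ Cz x ⊓ Cz t, ∃ k ∈ zpowers x, ∃ u ∈ W, g = k * u := by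
  have hz1 := H.data.frame.x2.ne
  have hdec : ∀ g ∈ Cz x ⊓ Cz t, ∃ k ∈ zpowers x, ∃ u ∈ W, g = k * u := by
    intro g hg
    obtain ⟨k, hk, u, hu, rfl⟩ := S.decomp g hg.2
    refine ⟨k, S.cent_cyclic e hx ho hk ?_, u, hu, rfl⟩
    have := (mem_Cz.1 hg.1).mul_left (S.commute_W hz1 hu hx).inv_left
    rwa [mul_inv_cancel_right] at this
  refine ⟨?_, hdec⟩
  have hmem : ∀ k ∈ zpowers x, ∀ u ∈ W, k * u ∈ Cz x ⊓ Cz t := fun k hk u hu => by
    refine ⟨mem_Cz.2 ?_, mul_mem (S.le ((zpowers_le.2 hx) hk)) (mem_inf.1 (S.Wle hu)).2⟩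
    obtain ⟨j, rfl⟩ := mem_zpowers_iff.1 hk
    exact ((Commute.refl x).zpow_left j).mul_left (S.commute_W hz1 hu hx)
  let f : zpowers x × W → ↥(Cz x ⊓ Cz t) := fun p => ⟨p.1 * p.2, hmem _ p.1.2 _ p.2.2⟩
  have hf : Function.Bijective f := by
    constructor
    · rintro ⟨k, u⟩ ⟨k', u'⟩ e'
      have e1 : (k : G) * u = k' * u' := congrArg Subtype.val e'
      have h2 : (k' : G)⁻¹ * k = u' * (u : G)⁻¹ := by
        rw [eq_mul_inv_iff_mul_eq, mul_assoc, e1, inv_mul_cancel_left]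
      have hkK := zpowers_le.2 hx k.2
      have hkK' := zpowers_le.2 hx k'.2
      have h1 := S.disj _ (mul_mem (inv_mem hkK') hkK) (h2 ▸ mul_mem u'.2 (inv_mem u.2))
      have hk : (k : G) = k' := (inv_mul_eq_one.1 h1).symm
      rw [hk] at e1
      exact Prod.ext (Subtype.ext hk) (Subtype.ext (mul_left_cancel e1))
    · rintro ⟨g, hg⟩
      obtain ⟨k, hk, u, hu, e'⟩ := hdec g hg
      exact ⟨(⟨k, hk⟩, ⟨u, hu⟩), Subtype.ext e'.symm⟩
  rw [← Nat.card_congr (Equiv.ofBijective f hf), Nat.card_prod, Nat.card_zpowers, S.card_W, mul_comm]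

/-- the structure of the centralizer of `x` modulo `x` -/
theorem cent_shape {t x : G} (ht : Outer z Q t) (hxt : x ∈ Cz t) (ho : orderOf x = 3 ∨ orderOf x = 5) :
    (∀ v ∈ Cz x, orderOf v = 2 → IsConj t v) ∧
      (Nat.card (Cz x) = 12 * orderOf x ∨
        ∃ ψ : Cz x →* alternatingGroup (Fin 5), Function.Surjective ψ ∧ ψ.ker = (zpowers x).subgroupOf (Cz x)) := by
  classical
  haveI : Fact (Nat.Prime 2) := ⟨Nat.prime_two⟩
  have D := H.data
  have hz1 := D.frame.x2.ne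
  obtain ⟨w, h, K, W, S, ⟨e⟩⟩ := H.kshape ht
  have hodd : Odd (orderOf x) := by rcases ho with o | o <;> rw [o] <;> decide
  have hxK := S.mem_K_of_odd hz1 hxt hodd
  obtain ⟨hMc, hMdec⟩ := H.cent_in_X S e hxK ho
  have ot : orderOf t = 2 := Cfsg.Lib.InvolCalc.order_two_of_mul_self ht.2.1 fun e => ht.2.2 (e ▸ one_mem Q)
  have hWx : ∀ u ∈ W, Commute u x := fun u hu => S.commute_W hz1 hu hxK
  have hWX : W ≤ Cz t := fun u hu => (mem_inf.1 (S.Wle hu)).2
  have hWsq : ∀ u ∈ W, u * u = 1 := fun u hu => S.tri.props.sq _ (S.Wle hu)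
  have hWL : W ≤ Cz x := fun u hu => mem_Cz.2 (hWx u hu)
  have hWout : ∀ u ∈ W, u ≠ 1 → Outer z Q u := fun u hu hu1 => by
    refine ⟨(mem_Ey.1 (S.Wle hu)).1, hWsq u hu, fun hQ => hu1 (S.disj u ?_ hu)⟩
    exact (S.KE u (S.Wle hu)).2 ((S.tri.props.inQ u).1 ⟨S.Wle hu, hQ⟩)
  -- the same subgroup of `C(x)` centralizes each involution of `W`
  have hM : ∀ u ∈ W, u ≠ 1 → ∀ g ∈ Cz x, Commute g u → g ∈ Cz x ⊓ Cz t := by
    intro u hu hu1 g hgx hgu
    have hO := hWout u hu hu1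
    obtain ⟨w', h', K', W', S', ⟨e'⟩⟩ := H.kshape hO
    have hxu : x ∈ Cz u := mem_Cz.2 (hWx u hu).symm
    obtain ⟨hc', -⟩ := H.cent_in_X S' e' (S'.mem_K_of_odd hz1 hxu hodd) ho
    have hle : Cz x ⊓ Cz t ≤ Cz x ⊓ Cz u := fun y hy => by
      obtain ⟨k, hk, u', hu', rfl⟩ := hMdec y hy
      refine ⟨hy.1, mem_Cz.2 (Commute.mul_left ?_ (S.tri.props.comm _ (S.Wle hu') _ (S.Wle hu)))⟩
      obtain ⟨j, rfl⟩ := mem_zpowers_iff.1 hk
      exact (hWx u hu).symm.zpow_left j
    rw [eq_of_le_of_card_ge hle (by rw [hc', hMc])]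
    exact ⟨hgx, mem_Cz.2 hgu⟩
  have hMW : ∀ g ∈ Cz x ⊓ Cz t, (∃ n, g ^ 2 ^ n = 1) → g ∈ W := by
    rintro g hg ⟨n, hn⟩
    obtain ⟨k, hk, u, hu, rfl⟩ := hMdec g hg
    have hkK : k ∈ K := zpowers_le.2 hxK hk
    have h1 := hn
    rw [(S.commute_W hz1 hu hkK).symm.mul_pow] at h1
    have hk1 : k ^ 2 ^ n = 1 := S.disj _ (pow_mem hkK _) (by
      rw [eq_inv_of_mul_eq_one_left h1]; exact inv_mem (pow_mem hu _))
    have hd1 : orderOf k ∣ orderOf x := by
      obtain ⟨j, rfl⟩ := mem_zpowers_iff.1 hk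
      exact orderOf_dvd_of_pow_eq_one (by rw [← zpow_natCast, ← zpow_mul, mul_comm, zpow_mul, zpow_natCast,
        pow_orderOf_eq_one, one_zpow])
    rw [orderOf_eq_one_iff.1 (Nat.eq_one_of_dvd_coprimes ((Nat.coprime_two_right.2 hodd).pow_right n) hd1
      (orderOf_dvd_of_pow_eq_one hk1)), one_mul]
    exact hu
  -- `W` is a Sylow 2-subgroup
  set L := Cz x with hL
  set W' := W.subgroupOf L with hW'
  have hW4 : Nat.card W' = 4 := by rw [hW', Nat.card_congr (subgroupOfEquivOfLe hWL).toEquiv, S.card_W]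
  obtain ⟨T, hT⟩ := (IsPGroup.of_card (n := 2) (by rw [hW4]; norm_num) : IsPGroup 2 W').exists_le_sylow
  have hTW : (T : Subgroup L) = W' := by
    refine le_antisymm ?_ hT
    have hTnt : Nontrivial (T : Subgroup L) := by
      refine Finite.one_lt_card_iff_nontrivial.1 (lt_of_lt_of_le ?_ (card_le_of_le hT))
      rw [hW4]; norm_num
    haveI := T.isPGroup'.center_nontrivial
    obtain ⟨c, hc⟩ := exists_ne (1 : center (T : Subgroup L))
    set cG : G := (((c : (T : Subgroup L)) : L) : G) with hcG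
    have hccomm : ∀ y : (T : Subgroup L), Commute ((y : L) : G) cG := fun y =>
      congrArg (fun v : (T : Subgroup L) => ((v : L) : G)) (mem_center_iff.1 c.2 y)
    have htT : (⟨t, hWL S.tW⟩ : L) ∈ (T : Subgroup L) := hT (mem_subgroupOf.2 S.tW)
    have hcX : cG ∈ Cz x ⊓ Cz t := ⟨((c : (T : Subgroup L)) : L).2, mem_Cz.2 (hccomm ⟨_, htT⟩).symm⟩
    have hpow : ∀ y : (T : Subgroup L), ∃ n, ((y : L) : G) ^ 2 ^ n = 1 := fun y => by
      obtain ⟨n, hn⟩ := T.isPGroup' y
      exact ⟨n, congrArg (fun v : (T : Subgroup L) => ((v : L) : G)) hn⟩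
    have hcW := hMW cG hcX (hpow _)
    have hc1 : cG ≠ 1 := fun h => hc (Subtype.ext (Subtype.ext (Subtype.ext h)))
    intro y hy
    exact mem_subgroupOf.2 (hMW _ (hM cG hcW hc1 _ y.2 (hccomm ⟨y, hy⟩)) (hpow ⟨y, hy⟩))
  refine ⟨fun v hv ov => ?_, ?_⟩
  · obtain ⟨g, hg⟩ := Cfsg.Lib.InvolCalc.exists_conj_le T (H := zpowers (⟨v, hv⟩ : L))
      (IsPGroup.of_card (n := 1) (by rw [Nat.card_zpowers, Subgroup.orderOf_mk, ov, pow_one]))
    have h1 : (g : G)⁻¹ * v * g ∈ W := mem_subgroupOf.1 (hTW.le (hg _ (mem_zpowers _)))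
    have hc : IsConj v ((g : G)⁻¹ * v * g) := isConj_iff.2 ⟨(g : G)⁻¹, by rw [inv_inv]⟩
    have o2 := order_two_of_conj ov hc
    obtain ⟨d, -, hd⟩ := D.outer_conj ht (hWout _ h1 (Cfsg.Lib.InvolCalc.ne_one_of_order_two o2))
    exact (isConj_iff.2 ⟨d, hd⟩).trans hc.symm
  · set Z := (zpowers x).subgroupOf L with hZ
    haveI hZn : Z.Normal := ⟨fun n hn g => by
      obtain ⟨j, hj⟩ := mem_zpowers_iff.1 (mem_subgroupOf.1 hn)
      have : g * n * g⁻¹ = n := Subtype.ext (mul_inv_eq_iff_eq_mul.2 (hj ▸ ((mem_Cz.1 g.2).zpow_right j)).eq)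
      rwa [this]⟩
    let π := QuotientGroup.mk' Z
    set V := W'.map π with hV
    have hinj : ∀ u ∈ W', π u = 1 → u = 1 := fun u hu he => by
      rw [QuotientGroup.mk'_apply, QuotientGroup.eq_one_iff] at he
      exact Subtype.ext (S.disj _ (zpowers_le.2 hxK (mem_subgroupOf.1 he)) (mem_subgroupOf.1 hu))
    have hV4 : Nat.card V = 4 := by
      rw [← hW4]
      refine (Nat.card_congr (Equiv.ofBijective (fun u : W' => (⟨π u, u, u.2, rfl⟩ : V)) ⟨fun u v he => ?_, ?_⟩)).symm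
      · have h1 : π ((u : L) * (v : L)⁻¹) = 1 := by
          rw [map_mul, map_inv, show π (u : L) = π (v : L) from congrArg Subtype.val he, mul_inv_cancel]
        exact Subtype.ext (mul_inv_eq_one.1 (hinj _ (mul_mem u.2 (inv_mem v.2)) h1))
      · rintro ⟨_, u, hu, rfl⟩
        exact ⟨⟨u, hu⟩, rfl⟩
    have hVsq : ∀ v ∈ V, v * v = 1 := by
      rintro _ ⟨u, hu, rfl⟩
      rw [← map_mul, show u * u = 1 from Subtype.ext (hWsq _ (mem_subgroupOf.1 hu)), map_one]
    have hVodd : ¬ 2 ∣ V.index := fun hd => T.not_dvd_index (hTW ▸ hd.trans (index_map_dvd _ (QuotientGroup.mk'_surjective Z)))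
    have hVcent : ∀ v ∈ V, v ≠ 1 → ∀ y, Commute y v → y ∈ V := by
      rintro _ ⟨u, hu, rfl⟩ hu1 y hy
      obtain ⟨g, rfl⟩ := QuotientGroup.mk'_surjective Z y
      have huW := mem_subgroupOf.1 hu
      have huG : (u : G) ≠ 1 := fun h => hu1 (by rw [show u = 1 from Subtype.ext h, map_one])
      have h1 : g * u * g⁻¹ * u⁻¹ ∈ Z := by
        rw [← QuotientGroup.eq_one_iff, ← QuotientGroup.mk'_apply Z, map_mul, map_mul, map_mul, map_inv, map_inv]
        show π g * π u * (π g)⁻¹ * (π u)⁻¹ = 1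
        rw [(show Commute (π g) (π u) from hy).eq, mul_inv_cancel_right, mul_inv_cancel]
      obtain ⟨j, hj⟩ := mem_zpowers_iff.1 (mem_subgroupOf.1 h1)
      simp only [Subgroup.coe_mul, InvMemClass.coe_inv] at hj
      have huu : (u : G) * u = 1 := hWsq _ huW
      have hju : (g : G) * u * (g : G)⁻¹ = x ^ j * u := by rw [hj, inv_mul_cancel_right]
      have hsq1 : (g : G) * u * (g : G)⁻¹ * ((g : G) * u * (g : G)⁻¹) = 1 := by
        rw [show (g : G) * u * (g : G)⁻¹ * ((g : G) * u * (g : G)⁻¹) = g * (u * u) * (g : G)⁻¹ by group, huu]; group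
      have hxj : x ^ j = 1 := by
        have hc : Commute (x ^ j) (u : G) := (hWx _ huW).symm.zpow_left j
        rw [hju, show x ^ j * (u : G) * (x ^ j * u) = x ^ j * (u * x ^ j) * u by group, ← hc.eq,
          show x ^ j * (x ^ j * (u : G)) * u = x ^ j * x ^ j * (u * u) by group, huu, mul_one] at hsq1
        have a1 : orderOf (x ^ j) ∣ 2 := orderOf_dvd_of_pow_eq_one (by rw [pow_two]; exact hsq1)
        have a2 : orderOf (x ^ j) ∣ orderOf x := orderOf_dvd_of_pow_eq_one (by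
          rw [← zpow_natCast, ← zpow_mul, mul_comm, zpow_mul, zpow_natCast, pow_orderOf_eq_one, one_zpow])
        exact orderOf_eq_one_iff.1 (Nat.eq_one_of_dvd_coprimes (Nat.coprime_two_left.2 hodd) a1 a2)
      rw [hxj, one_mul] at hju
      have hgM := hM _ huW huG (g : G) g.2 (mul_inv_eq_iff_eq_mul.1 hju)
      obtain ⟨k, hk, u', hu', hgk⟩ := hMdec _ hgM
      refine ⟨⟨u', hWL hu'⟩, mem_subgroupOf.2 hu', ?_⟩
      refine (QuotientGroup.eq.2 (mem_subgroupOf.2 ?_) : (QuotientGroup.mk (⟨u', hWL hu'⟩ : L) : L ⧸ Z) = QuotientGroup.mk g)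
      show u'⁻¹ * (g : G) ∈ zpowers x
      rw [hgk, ((S.commute_W hz1 hu' (zpowers_le.2 hxK hk)).symm).eq, inv_mul_cancel_left]
      exact hk
    have hcardL : Nat.card L = Nat.card (L ⧸ Z) * orderOf x := by
      rw [card_eq_card_quotient_mul_card_subgroup Z, Nat.card_congr (subgroupOfEquivOfLe (zpowers_le.2 (mem_Cz.2 (Commute.refl x)))).toEquiv,
        Nat.card_zpowers]
    rcases four_cases hV4 hVsq hVodd hVcent with htop | ⟨h12, -⟩ | ⟨⟨e'⟩⟩
    · exfalso
      haveI : Fact (orderOf x).Prime := ⟨by rcases ho with o | o <;> rw [o] <;> norm_num⟩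
      have h2 : orderOf x ^ 2 ∣ Nat.card L := by
        refine sq_dvd_cent ?_ rfl
        rw [(H.card_eq ht).1]
        rcases ho with o | o <;> rw [o] <;> norm_num
      rw [hcardL, ← card_top (G := L ⧸ Z), ← htop, hV4] at h2
      rcases ho with o | o <;> rw [o] at h2 <;> norm_num at h2
    · exact Or.inl (by rw [hcardL, h12])
    · refine Or.inr ⟨e'.toMonoidHom.comp π, e'.surjective.comp (QuotientGroup.mk'_surjective Z), ?_⟩
      ext g
      rw [MonoidHom.mem_ker]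
      show e' (g : L ⧸ Z) = 1 ↔ _
      rw [MulEquiv.map_eq_one_iff, QuotientGroup.eq_one_iff]

end Hyp

end Cfsg.Lib.HallJankoType
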